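/-
A group covered by finitely many double cosets of a subgroup on which a homomorphism is injective.

* `injective_of_cells`: the homomorphism is injective.
-/
import Mathlib.GroupTheory.DoubleCoset
import Mathlib.Algebra.Group.Subgroup.Basic
import Mathlib.Tactic.Group

set_option autoImplicit false

namespace Cfsg.Agent.SUNPresent

/-- The union of the double cosets of `P` with the given representatives. -/
def cellUnion {G : Type*} [Group G] {ι : Type*} (P : Subgroup G) (w : ι → G) : Set G :=
  {g | ∃ k, ∃ p ∈ P, ∃ p' ∈ P, g = p * w k * p'}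

theorem cellUnion_left {G : Type*} [Group G] {P : Subgroup G} {ι : Type*} {w : ι → G} {g p : G} (hp : p ∈ P)
    (hg : g ∈ cellUnion P w) : p * g ∈ cellUnion P w := by
  obtain ⟨k, a, ha, b, hb, rfl⟩ := hg
  exact ⟨k, p * a, mul_mem hp ha, b, hb, by group⟩

theorem cellUnion_right {G : Type*} [Group G] {P : Subgroup G} {ι : Type*} {w : ι → G} {g p : G} (hp : p ∈ P)
    (hg : g ∈ cellUnion P w) : g * p ∈ cellUnion P w := by
  obtain ⟨k, a, ha, b, hb, rfl⟩ := hg
  exact ⟨k, a, ha, b * p, mul_mem hb hp, by group⟩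

/-- A homomorphism injective on `P` separating the trivial cell from the others is injective. -/
theorem injective_of_cells {G M : Type*} [Group G] [Group M] (π : G →* M) (P : Subgroup G)
    (hinj : ∀ x ∈ P, π x = 1 → x = 1) {ι : Type*} (w : ι → G) (i₀ : ι) (t : G) (hw : w i₀ = 1)
    (hout : ∀ k, k ≠ i₀ → π (w k) ∉ P.map π) (hgen : Subgroup.closure ((P : Set G) ∪ {t}) = ⊤)
    (hsq : t * t ∈ P) (hstep : ∀ p ∈ P, ∀ k, t * p * w k ∈ cellUnion P w) : Function.Injective π := by
  have ht : ∀ g ∈ cellUnion P w, t * g ∈ cellUnion P w := by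
    rintro _ ⟨k, a, ha, b, hb, rfl⟩
    have := cellUnion_right hb (hstep a ha k)
    rwa [show t * a * w k * b = t * (a * w k * b) by group] at this
  have hall : ∀ g : G, g ∈ cellUnion P w := by
    intro g
    have hg : g ∈ Subgroup.closure ((P : Set G) ∪ {t}) := hgen ▸ Subgroup.mem_top g
    induction hg using Subgroup.closure_induction_left with
    | one => exact ⟨i₀, 1, one_mem _, 1, one_mem _, by rw [hw]; group⟩
    | mul_left x hx y _ hy =>
      rcases hx with hx | rfl
      · exact cellUnion_left hx hy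
      · exact ht y hy
    | inv_mul_cancel x hx y _ hy =>
      rcases hx with hx | rfl
      · exact cellUnion_left (inv_mem hx) hy
      · have := cellUnion_left (inv_mem hsq) (ht y hy)
        rwa [show (x * x)⁻¹ * (x * y) = x⁻¹ * y by group] at this
  rw [injective_iff_map_eq_one]
  intro g hg
  obtain ⟨k, a, ha, b, hb, rfl⟩ := hall g
  rcases eq_or_ne k i₀ with rfl | hk0
  · rw [hw, mul_one] at hg ⊢
    exact hinj _ (mul_mem ha hb) hg
  · refine absurd ?_ (hout k hk0)
    refine ⟨a⁻¹ * b⁻¹, mul_mem (inv_mem ha) (inv_mem hb), ?_⟩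
    have e : π (a⁻¹ * (a * w k * b) * b⁻¹) = π (a⁻¹ * b⁻¹) := by
      rw [map_mul, map_mul, hg, mul_one, map_mul]
    rw [← e]
    congr 1
    group

end Cfsg.Agent.SUNPresent
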