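/-
Elementary facts on SL_m with a distinguished last index.

* `colE`, `rowE`, `hd`, `sw`: transvections along a column or a row, diagonal and signed transposition.
* `Fix1`: the elements fixing the last basis vector and the last coordinate.
* `exists_col`, `stab_le`, `exists_mono`: transitivity and stabiliser.
* `IsMono`, `cjD`: monomial elements and conjugation by a diagonal matrix.
* `exists_split`: double cosets of the hyperplane stabiliser and a parabolic subgroup.
-/
import Cfsg.Agent.Lib.Linear.SLn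
import Cfsg.Agent.Lib.OrthPresent.Gens

set_option autoImplicit false
set_option linter.unusedSectionVars false
set_option linter.unusedSimpArgs false

open Matrix

namespace Cfsg.Agent.SUNPresent

variable {m : ℕ} {F : Type*} [Field F]

local notation "SLm" => Matrix.SpecialLinearGroup (Fin m) F
local notation "tv" => Matrix.SpecialLinearGroup.transvection

/-- The action on column vectors. -/
def ap (g : Matrix.SpecialLinearGroup (Fin m) F) (v : Fin m → F) : Fin m → F := g.1 *ᵥ v

theorem ap_mul (g h : SLm) (v : Fin m → F) : ap (g * h) v = ap g (ap h v) := by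
  simp [ap, Matrix.mulVec_mulVec]

theorem ap_one (v : Fin m → F) : ap (1 : SLm) v = v := by simp [ap]

theorem ap_inv_ap (g : SLm) (v : Fin m → F) : ap g⁻¹ (ap g v) = v := by rw [← ap_mul, inv_mul_cancel, ap_one]

theorem ap_ap_inv (g : SLm) (v : Fin m → F) : ap g (ap g⁻¹ v) = v := by rw [← ap_mul, mul_inv_cancel, ap_one]

theorem ap_add (g : SLm) (v w : Fin m → F) : ap g (v + w) = ap g v + ap g w := Matrix.mulVec_add _ _ _

theorem ap_smul (g : SLm) (a : F) (v : Fin m → F) : ap g (a • v) = a • ap g v := Matrix.mulVec_smul _ _ _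

theorem ap_zero (g : SLm) : ap g (0 : Fin m → F) = 0 := Matrix.mulVec_zero _

theorem ap_injective (g : SLm) : Function.Injective (ap g) := fun v w h => by
  rw [← ap_inv_ap g v, h, ap_inv_ap]

theorem ap_ne_zero (g : SLm) {v : Fin m → F} (h : v ≠ 0) : ap g v ≠ 0 := fun e =>
  h (ap_injective g (e.trans (ap_zero g).symm))

theorem ext_ap {g h : SLm} (e : ∀ v, ap g v = ap h v) : g = h := Subtype.ext (Matrix.ext_iff_mulVec.2 e)

theorem coe_eq_ap (g : SLm) (i j : Fin m) : g.1 i j = ap g (Pi.single j 1) i := by simp [ap]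

theorem ap_tv {i j : Fin m} (h : i ≠ j) (b : F) (v : Fin m → F) :
    ap (tv h b) v = v + Pi.single i (b * v j) := by
  show (1 + Matrix.single i j b) *ᵥ v = _
  rw [Matrix.add_mulVec, Matrix.one_mulVec]
  congr 1
  ext a
  rw [Matrix.mulVec, dotProduct, Finset.sum_eq_single j]
  · by_cases ha : a = i
    · subst ha; simp
    · simp [ha, Ne.symm ha]
  · intro c _ hc; simp [Ne.symm hc]
  · simp

/-- The vector with one coordinate removed. -/
def killAt (i : Fin m) (w : Fin m → F) : Fin m → F := Function.update w i 0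

theorem killAt_self (i : Fin m) (w : Fin m → F) : killAt i w i = 0 := Function.update_self ..

theorem killAt_of {i : Fin m} {w : Fin m → F} (h : w i = 0) : killAt i w = w := by
  ext a
  by_cases ha : a = i
  · subst ha; rw [killAt_self, h]
  · simp [killAt, ha]

theorem killAt_eq (i : Fin m) (w : Fin m → F) : killAt i w = w - Pi.single i (w i) := by
  ext a
  by_cases ha : a = i
  · subst ha; simp [killAt]
  · simp [killAt, ha]

/-- The transvections along a column. -/
def colE (i : Fin m) (w : Fin m → F) : Matrix.SpecialLinearGroup (Fin m) F :=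
  ⟨1 + Matrix.vecMulVec (killAt i w) (Pi.single i 1), by
    rw [Matrix.vecMulVec_eq Unit, Matrix.det_one_add_replicateCol_mul_replicateRow]
    simp [killAt_self]⟩

theorem ap_colE (i : Fin m) (w v : Fin m → F) : ap (colE i w) v = v + v i • killAt i w := by
  show (1 + Matrix.vecMulVec _ _) *ᵥ v = _
  rw [Matrix.add_mulVec, Matrix.one_mulVec, Matrix.vecMulVec_mulVec]
  simp [op_smul_eq_smul]

theorem killAt_add (i : Fin m) (w w' : Fin m → F) : killAt i (w + w') = killAt i w + killAt i w' := by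
  simp only [killAt_eq, Pi.add_apply, Pi.single_add]; abel

theorem killAt_smul (i : Fin m) (a : F) (w : Fin m → F) : killAt i (a • w) = a • killAt i w := by
  ext j
  by_cases hj : j = i
  · subst hj; simp [killAt]
  · simp [killAt, hj]

theorem colE_add (i : Fin m) (w w' : Fin m → F) : colE i (w + w') = colE i w * colE i w' :=
  ext_ap fun v => by
    rw [ap_mul, ap_colE, ap_colE, ap_colE, killAt_add, Pi.add_apply, Pi.smul_apply, killAt_self, smul_zero,
      add_zero, smul_add]
    abel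

theorem colE_zero (i : Fin m) : colE i (0 : Fin m → F) = 1 := ext_ap fun v => by
  rw [ap_colE, ap_one, killAt_of (i := i) (w := 0) rfl, smul_zero, add_zero]

theorem colE_single {i j : Fin m} (h : j ≠ i) (b : F) : colE i (Pi.single j b) = tv h b := ext_ap fun v => by
  rw [ap_colE, ap_tv, killAt_of (Pi.single_eq_of_ne h.symm _), ← Pi.single_smul', smul_eq_mul, mul_comm]

/-- The transvections along a row. -/
def rowE (i : Fin m) (φ : Fin m → F) : Matrix.SpecialLinearGroup (Fin m) F :=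
  ⟨1 + Matrix.vecMulVec (Pi.single i 1) (killAt i φ), by
    rw [Matrix.vecMulVec_eq Unit, Matrix.det_one_add_replicateCol_mul_replicateRow]
    simp [killAt_self]⟩

theorem ap_rowE (i : Fin m) (φ v : Fin m → F) : ap (rowE i φ) v = v + Pi.single i (killAt i φ ⬝ᵥ v) := by
  show (1 + Matrix.vecMulVec _ _) *ᵥ v = _
  rw [Matrix.add_mulVec, Matrix.one_mulVec, Matrix.vecMulVec_mulVec]
  simp [op_smul_eq_smul, ← Pi.single_smul']

theorem rowE_add (i : Fin m) (φ φ' : Fin m → F) : rowE i (φ + φ') = rowE i φ * rowE i φ' :=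
  ext_ap fun v => by
    rw [ap_mul, ap_rowE, ap_rowE, ap_rowE, killAt_add, dotProduct_add, dotProduct_single, killAt_self,
      zero_mul, add_zero, add_dotProduct, Pi.single_add]
    abel

theorem rowE_single {i j : Fin m} (h : i ≠ j) (b : F) : rowE i (Pi.single j b) = tv h b := ext_ap fun v => by
  rw [ap_rowE, ap_tv, killAt_of (Pi.single_eq_of_ne h _), single_dotProduct]

theorem rowE_self (i : Fin m) (b : F) : rowE i (Pi.single i b) = 1 := ext_ap fun v => by
  rw [ap_rowE, ap_one, killAt_eq, Pi.single_eq_same, sub_self, zero_dotProduct, Pi.single_zero, add_zero]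

/-- The diagonal element. -/
def hd {i j : Fin m} (h : i ≠ j) (a : Fˣ) : Matrix.SpecialLinearGroup (Fin m) F :=
  ⟨Matrix.diagonal fun x => if x = i then (a : F) else if x = j then ((a⁻¹ : Fˣ) : F) else 1, by
    rw [Matrix.det_diagonal, Finset.prod_eq_mul i j h (fun c _ hc => by simp [hc.1, hc.2]) (by simp) (by simp)]
    simp [Ne.symm h]⟩

theorem ap_hd {i j : Fin m} (h : i ≠ j) (a : Fˣ) (v : Fin m → F) (x : Fin m) :
    ap (hd h a) v x = (if x = i then (a : F) else if x = j then ((a⁻¹ : Fˣ) : F) else 1) * v x := by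
  simp [ap, hd, Matrix.mulVec_diagonal]

theorem hd_mul {i j : Fin m} (h : i ≠ j) (a b : Fˣ) : hd h (a * b) = hd h a * hd h b := ext_ap fun v => by
  ext x
  rw [ap_mul, ap_hd, ap_hd, ap_hd]
  split_ifs <;> simp [mul_comm, mul_assoc, mul_left_comm]

/-- The diagonal homomorphism. -/
def hdHom {i j : Fin m} (h : i ≠ j) : Fˣ →* Matrix.SpecialLinearGroup (Fin m) F :=
  MonoidHom.mk' (hd h) (hd_mul h)

theorem hdHom_apply {i j : Fin m} (h : i ≠ j) (a : Fˣ) : hdHom h a = hd h a := rfl

theorem ap_hd_single {i j : Fin m} (h : i ≠ j) (a : Fˣ) (x : Fin m) (c : F) :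
    ap (hd h a) (Pi.single x c) =
      Pi.single x ((if x = i then (a : F) else if x = j then ((a⁻¹ : Fˣ) : F) else 1) * c) := by
  ext y
  rw [ap_hd]
  by_cases hy : y = x
  · subst hy; simp
  · simp [hy]

/-- The signed transposition. -/
def sw {i j : Fin m} (h : i ≠ j) : Matrix.SpecialLinearGroup (Fin m) F := tv h 1 * tv h.symm (-1) * tv h 1

theorem ap_sw {i j : Fin m} (h : i ≠ j) (v : Fin m → F) (x : Fin m) :
    ap (sw h) v x = if x = i then v j else if x = j then -v i else v x := by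
  simp only [sw, ap_mul, ap_tv, Pi.add_apply]
  by_cases hi : x = i
  · subst hi; simp [h, h.symm]
  · by_cases hj : x = j
    · subst hj; simp [h, h.symm]
    · simp [hi, hj]

theorem ap_sw_single_left {i j : Fin m} (h : i ≠ j) (c : F) : ap (sw h) (Pi.single i c) = Pi.single j (-c) := by
  ext x
  rw [ap_sw]
  by_cases hi : x = i
  · subst hi; simp [h, h.symm]
  · by_cases hj : x = j
    · subst hj; simp [hi]
    · simp [hi, hj]

theorem ap_sw_single_right {i j : Fin m} (h : i ≠ j) (c : F) : ap (sw h) (Pi.single j c) = Pi.single i c := by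
  ext x
  rw [ap_sw]
  by_cases hi : x = i
  · subst hi; simp
  · by_cases hj : x = j
    · subst hj; simp [h, h.symm]
    · simp [hi, hj]

theorem ap_sw_single_other {i j x : Fin m} (h : i ≠ j) (hi : x ≠ i) (hj : x ≠ j) (c : F) :
    ap (sw h) (Pi.single x c) = Pi.single x c := by
  ext y
  rw [ap_sw]
  by_cases h1 : y = i
  · subst h1; simp [hi.symm, hj.symm]
  · by_cases h2 : y = j
    · subst h2; simp [h1, hi.symm, hj.symm]
    · simp [h1, h2]

section Last

variable (l : Fin m)

/-- The elements fixing the basis vector and the coordinate at `l`. -/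
def Fix1 : Subgroup (Matrix.SpecialLinearGroup (Fin m) F) where
  carrier := {g | ap g (Pi.single l 1) = Pi.single l 1 ∧ ∀ v, ap g v l = v l}
  one_mem' := ⟨ap_one _, fun v => by rw [ap_one]⟩
  mul_mem' := fun ⟨a1, a2⟩ ⟨b1, b2⟩ => ⟨by rw [ap_mul, b1, a1], fun v => by rw [ap_mul, a2, b2]⟩
  inv_mem' := fun {g} ⟨a1, a2⟩ => ⟨by conv_lhs => rw [← a1, ap_inv_ap],
    fun v => by rw [← a2 (ap g⁻¹ v), ap_ap_inv]⟩

variable {l}

theorem fix1_single {g : SLm} (hg : g ∈ Fix1 l) (c : F) : ap g (Pi.single l c) = Pi.single l c := by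
  rw [show (Pi.single l c : Fin m → F) = c • Pi.single l 1 by rw [← Pi.single_smul', smul_eq_mul, mul_one],
    ap_smul, hg.1]

theorem tv_mem_fix1 {i j : Fin m} (h : i ≠ j) (hi : i ≠ l) (hj : j ≠ l) (b : F) : tv h b ∈ Fix1 l :=
  ⟨by rw [ap_tv]; simp [hj], fun v => by rw [ap_tv]; simp [hi.symm]⟩

theorem sw_mem_fix1 {i j : Fin m} (h : i ≠ j) (hi : i ≠ l) (hj : j ≠ l) : (sw h : SLm) ∈ Fix1 l :=
  mul_mem (mul_mem (tv_mem_fix1 h hi hj 1) (tv_mem_fix1 h.symm hj hi _)) (tv_mem_fix1 h hi hj 1)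

theorem hd_mem_fix1 {i j : Fin m} (h : i ≠ j) (hi : i ≠ l) (hj : j ≠ l) (a : Fˣ) : hd h a ∈ Fix1 l :=
  ⟨by rw [ap_hd_single]; simp [hi.symm, hj.symm], fun v => by rw [ap_hd]; simp [hi.symm, hj.symm]⟩

theorem colE_mem_fix1 {i : Fin m} (hi : i ≠ l) {w : Fin m → F} (hw : w l = 0) : colE i w ∈ Fix1 l :=
  ⟨by rw [ap_colE]; simp [hi], fun v => by rw [ap_colE]; simp [killAt, hi.symm, hw]⟩

/-- Conjugating a column transvection. -/
theorem conj_colE {g : SLm} {i : Fin m} (hg2 : ∀ v, ap g v i = v i)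
    {w : Fin m → F} (hw : w i = 0) : g * colE i w * g⁻¹ = colE i (ap g w) := by
  refine ext_ap fun v => ?_
  rw [ap_mul, ap_mul, ap_colE, ap_colE, killAt_of hw, killAt_of (by rw [hg2, hw]), ap_add, ap_smul, ap_ap_inv]
  congr 2
  rw [← hg2 (ap g⁻¹ v), ap_ap_inv]

/-- The elements fixing `l` are transitive on the nonzero vectors of the hyperplane. -/
theorem exists_col (hm : 3 ≤ m) {k : Fin m} (hk : k ≠ l) {w : Fin m → F} (hw : w l = 0) (hw0 : w ≠ 0) :
    ∃ g ∈ Fix1 l, ap g (Pi.single k 1) = w := by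
  obtain ⟨i, hi⟩ := Function.ne_iff.1 hw0
  have hil : i ≠ l := fun e => hi (by rw [e, hw]; rfl)
  obtain ⟨j, hji, hjl⟩ : ∃ j : Fin m, j ≠ i ∧ j ≠ l := by
    have hc : ({i, l} : Finset (Fin m)).card < (Finset.univ : Finset (Fin m)).card := by
      rw [Finset.card_univ, Fintype.card_fin]
      exact lt_of_le_of_lt Finset.card_le_two (by omega)
    obtain ⟨j, -, hj⟩ := Finset.exists_mem_notMem_of_card_lt_card hc
    simp only [Finset.mem_insert, Finset.mem_singleton, not_or] at hj
    exact ⟨j, hj.1, hj.2⟩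
  have key : ∃ g ∈ Fix1 l, ap g (Pi.single i 1) = w := by
    let a : Fˣ := Units.mk0 (w i) hi
    refine ⟨colE i ((w i)⁻¹ • w) * hd hji.symm a,
      mul_mem (colE_mem_fix1 hil (by simp [hw])) (hd_mem_fix1 _ hil hjl _), ?_⟩
    rw [ap_mul, ap_hd_single, if_pos rfl, mul_one, ap_colE, killAt_smul, Pi.single_eq_same, smul_smul,
      show ((a : Fˣ) : F) = w i from rfl, mul_inv_cancel₀ hi, one_smul, killAt_eq, add_sub_cancel]
  obtain ⟨g, hg, e⟩ := key
  rcases eq_or_ne k i with rfl | hki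
  · exact ⟨g, hg, e⟩
  · refine ⟨g * sw (hki.symm), mul_mem hg (sw_mem_fix1 _ hil hk), ?_⟩
    rw [ap_mul, ap_sw_single_right, e]

/-- The stabiliser of the basis vector is generated by row transvections and `Fix1`. -/
theorem stab_mem {g : SLm} (hg : ap g (Pi.single l 1) = Pi.single l 1) :
    ∃ φ : Fin m → F, ∃ g' ∈ Fix1 l, g = rowE l φ * g' := by
  refine ⟨-fun j => (g⁻¹).1 l j, (rowE l (-fun j => (g⁻¹).1 l j))⁻¹ * g, ?_, by rw [mul_inv_cancel_left]⟩
  set ψ : Fin m → F := fun j => (g⁻¹).1 l j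
  have e : (rowE l (-ψ))⁻¹ = rowE l ψ := inv_eq_of_mul_eq_one_right (by
    rw [← rowE_add, neg_add_cancel]
    exact ext_ap fun v => by rw [ap_rowE, ap_one, killAt_of (i := l) (w := 0) rfl, zero_dotProduct, Pi.single_zero,
      add_zero])
  have hψl : ψ l = 1 := by
    have h1 : ap g⁻¹ (Pi.single l 1) = Pi.single l 1 := by conv_lhs => rw [← hg, ap_inv_ap]
    show (g⁻¹).1 l l = 1
    rw [coe_eq_ap, h1, Pi.single_eq_same]
  rw [e]
  refine ⟨?_, fun v => ?_⟩
  · rw [ap_mul, hg, ap_rowE, dotProduct_single, killAt_self, zero_mul, Pi.single_zero, add_zero]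
  · rw [ap_mul, ap_rowE, Pi.add_apply, Pi.single_eq_same, killAt_eq, sub_dotProduct, single_dotProduct, hψl,
      one_mul, add_sub_cancel]
    show ((g⁻¹).1 *ᵥ ap g v) l = v l
    exact congrFun (ap_inv_ap g v) l

/-- Row transvections in a subgroup containing one and the conjugates by `Fix1`. -/
theorem rowE_mem (K : Subgroup SLm) (h : ∀ j (hj : l ≠ j) (b : F), tv hj b ∈ K) (φ : Fin m → F) : rowE l φ ∈ K := by
  rw [← Finset.univ_sum_single φ]
  induction (Finset.univ : Finset (Fin m)) using Finset.induction_on with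
  | empty =>
    rw [Finset.sum_empty, ← Pi.single_zero (M := fun _ : Fin m => F) l, rowE_self]
    exact one_mem _
  | insert j s hj ih =>
    rw [Finset.sum_insert hj, rowE_add]
    refine mul_mem ?_ ih
    rcases eq_or_ne l j with rfl | hlj
    · rw [rowE_self]; exact one_mem _
    · rw [rowE_single hlj]; exact h j hlj _

/-- For three or more indices, all row transvections from one. -/
theorem row_tv_mem (hm : 3 ≤ m) (K : Subgroup SLm) (hK : Fix1 l ≤ K) {k : Fin m} (hk : l ≠ k)
    (h : tv hk (1 : F) ∈ K) (j : Fin m) (hj : l ≠ j) (b : F) : tv hj b ∈ K := by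
  rcases eq_or_ne b 0 with rfl | hb
  · rw [Matrix.SpecialLinearGroup.transvection_coeff_zero]; exact one_mem _
  obtain ⟨i, hil, hij⟩ : ∃ i : Fin m, i ≠ l ∧ i ≠ j := by
    have hc : ({l, j} : Finset (Fin m)).card < (Finset.univ : Finset (Fin m)).card := by
      rw [Finset.card_univ, Fintype.card_fin]
      exact lt_of_le_of_lt Finset.card_le_two (by omega)
    obtain ⟨i, -, hi⟩ := Finset.exists_mem_notMem_of_card_lt_card hc
    simp only [Finset.mem_insert, Finset.mem_singleton, not_or] at hi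
    exact ⟨i, hi.1, hi.2⟩
  have hstep : tv hj (1 : F) ∈ K := by
    rcases eq_or_ne j k with rfl | hjk
    · exact h
    · have e : tv hj (1 : F) = sw hjk * tv hk (1 : F) * (sw hjk)⁻¹ := by
        rw [eq_mul_inv_iff_mul_eq]
        refine ext_ap fun v => funext fun x => ?_
        simp only [ap_mul, ap_tv, Pi.add_apply, ap_sw]
        by_cases h1 : x = l
        · subst h1; simp [hjk, hj, hk]
        · simp [h1, hk.symm, hj.symm]
      rw [e]
      exact mul_mem (mul_mem (hK (sw_mem_fix1 _ hj.symm hk.symm)) h) (inv_mem (hK (sw_mem_fix1 _ hj.symm hk.symm)))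
  have e : tv hj b = hd hij.symm (Units.mk0 b hb)⁻¹ * tv hj (1 : F) * (hd hij.symm (Units.mk0 b hb)⁻¹)⁻¹ := by
    rw [eq_mul_inv_iff_mul_eq]
    refine ext_ap fun v => funext fun x => ?_
    simp only [ap_mul, ap_tv, Pi.add_apply, ap_hd]
    by_cases h1 : x = l
    · subst h1; simp [hj, hil.symm, hb]
    · simp [h1]
  rw [e]
  exact mul_mem (mul_mem (hK (hd_mem_fix1 _ hj.symm hil _)) hstep) (inv_mem (hK (hd_mem_fix1 _ hj.symm hil _)))

/-- A monomial element moving the last basis vector anywhere with any coefficient. -/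
theorem exists_mono {k : Fin m} (hk : l ≠ k) (i : Fin m) (a : Fˣ) :
    ∃ g : SLm, ap g (Pi.single l 1) = Pi.single i (a : F) ∧ ∀ v, ap g v i = (a : F) * v l := by
  rcases eq_or_ne i l with rfl | hil
  · exact ⟨hd hk a, by rw [ap_hd_single, if_pos rfl, mul_one], fun v => by rw [ap_hd, if_pos rfl]⟩
  · refine ⟨sw hil * hd hk a, ?_, fun v => ?_⟩
    · rw [ap_mul, ap_hd_single, if_pos rfl, mul_one, ap_sw_single_right]
    · rw [ap_mul, ap_sw, if_pos rfl, ap_hd, if_pos rfl]

/-- An element with last row a multiple of the last unit row. -/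
theorem hyper_decomp {k : Fin m} (hk : l ≠ k) {a : SLm} {c : F} (ha : ∀ v, ap a v l = c * v l) :
    ∃ (u : Fˣ) (w : Fin m → F), w l = 0 ∧ ∃ g ∈ Fix1 l, a = hd hk u * colE l w * g := by
  have hc : c ≠ 0 := fun e => by
    have h1 := ha (ap a⁻¹ (Pi.single l 1))
    rw [ap_ap_inv, Pi.single_eq_same, e, zero_mul] at h1
    exact one_ne_zero h1
  set u : Fˣ := Units.mk0 c hc
  set a' := (hd hk u)⁻¹ * a with ha'
  have h' : ∀ v, ap a' v l = v l := fun v => by
    refine mul_left_cancel₀ hc ?_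
    rw [← ha v, show ap a v = ap (hd hk u) (ap a' v) by rw [← ap_mul, ha', mul_inv_cancel_left], ap_hd, if_pos rfl]
    rfl
  set w := ap a' (Pi.single l 1) - Pi.single l 1 with hw
  have hwl : w l = 0 := by rw [hw, Pi.sub_apply, h', sub_self]
  refine ⟨u, w, hwl, (colE l w)⁻¹ * a', ⟨?_, fun v => ?_⟩, by rw [mul_assoc, mul_inv_cancel_left, ha', mul_inv_cancel_left]⟩
  · rw [ap_mul]
    apply ap_injective (colE l w)
    rw [ap_ap_inv, ap_colE, killAt_of hwl, Pi.single_eq_same, one_smul, hw, add_sub_cancel]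
  · have e : ∀ z, ap (colE l w) z l = z l := fun z => by
      rw [ap_colE, killAt_of hwl]; simp [hwl]
    rw [ap_mul, ← e (ap _ _), ap_ap_inv, h']

end Last

section Mono

theorem single_smul_one (i : Fin m) (a : F) : (Pi.single i a : Fin m → F) = a • Pi.single i 1 := by
  rw [← Pi.single_smul', smul_eq_mul, mul_one]

theorem ap_colE_single {l : Fin m} {w : Fin m → F} (hw : w l = 0) (a : F) :
    ap (colE l w) (Pi.single l a) = Pi.single l a + a • w := by
  rw [ap_colE, killAt_of hw, Pi.single_eq_same]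

theorem ap_colE_of {l : Fin m} {w v : Fin m → F} (hv : v l = 0) : ap (colE l w) v = v := by
  rw [ap_colE, hv, zero_smul, add_zero]

/-- Any non-zero vector is a first column. -/
theorem exists_first {l k : Fin m} (hlk : l ≠ k) {v : Fin m → F} (hv : v ≠ 0) :
    ∃ g : SLm, ap g (Pi.single l 1) = v := by
  obtain ⟨i, hi⟩ := Function.ne_iff.1 hv
  have key : ∀ (w : Fin m → F) (a : Fˣ), w l = (a : F) → ∃ g : SLm, ap g (Pi.single l 1) = w := fun w a ha =>
    ⟨colE l ((a⁻¹ : Fˣ) • (w - Pi.single l (a : F))) * hd hlk a, by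
      rw [ap_mul, ap_hd_single, if_pos rfl, mul_one, ap_colE_single (by simp [ha])]
      show _ + (a : F) • (((a⁻¹ : Fˣ) : F) • (w - Pi.single l (a : F))) = w
      rw [smul_smul, Units.mul_inv, one_smul, add_sub_cancel]⟩
  rcases eq_or_ne i l with rfl | hil
  · exact key v (Units.mk0 _ hi) rfl
  · obtain ⟨g, hg⟩ := key (ap (sw hil)⁻¹ v) (Units.mk0 (v i) hi) (by
      have h := congrFun (ap_ap_inv (sw hil : SLm) v) i
      rw [ap_sw, if_pos rfl] at h
      exact h)
    exact ⟨sw hil * g, by rw [ap_mul, hg, ap_ap_inv]⟩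

/-- An element moving the distinguished line and coordinate to those of `j`. -/
def IsMono (l : Fin m) (g : Matrix.SpecialLinearGroup (Fin m) F) (j : Fin m) (a : Fˣ) : Prop :=
  ap g (Pi.single l 1) = Pi.single j (a : F) ∧ ∀ v, ap g v j = (a : F) * v l

theorem exists_isMono {l k : Fin m} (hk : l ≠ k) (i : Fin m) (a : Fˣ) :
    ∃ g : Matrix.SpecialLinearGroup (Fin m) F, IsMono l g i a := exists_mono hk i a

theorem isMono_one (l : Fin m) : IsMono l (1 : SLm) l 1 :=
  ⟨by rw [ap_one, Units.val_one], fun v => by rw [ap_one, Units.val_one, one_mul]⟩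

/-- Two such elements differ by an element fixing the distinguished vector and coordinate, and a scalar. -/
theorem IsMono.compare {l k : Fin m} (hlk : l ≠ k) {g g' : SLm} {j : Fin m} {a a' : Fˣ} (h : IsMono l g j a)
    (h' : IsMono l g' j a') : ∃ x ∈ Fix1 l, g' = g * hd hlk (a⁻¹ * a') * x := by
  refine ⟨(g * hd hlk (a⁻¹ * a'))⁻¹ * g', ⟨?_, fun v => ?_⟩, by rw [mul_inv_cancel_left]⟩
  · apply ap_injective (g * hd hlk (a⁻¹ * a'))
    rw [ap_mul _ g', ap_ap_inv, h'.1, ap_mul, ap_hd_single, if_pos rfl, mul_one, single_smul_one l, ap_smul, h.1,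
      ← Pi.single_smul', smul_eq_mul, Units.val_mul, mul_comm, ← mul_assoc, Units.mul_inv, one_mul]
  · set x := (g * hd hlk (a⁻¹ * a'))⁻¹ * g'
    have h1 : ap g' v j = ap (g * hd hlk (a⁻¹ * a') * x) v j := by rw [mul_inv_cancel_left]
    rw [h'.2, ap_mul, ap_mul, h.2, ap_hd, if_pos rfl, ← mul_assoc, ← Units.val_mul, mul_inv_cancel_left] at h1
    exact (mul_left_cancel₀ a'.ne_zero h1).symm

theorem IsMono.sw_left {l : Fin m} {g : SLm} {j i : Fin m} {a : Fˣ} (h : IsMono l g j a) (hji : j ≠ i) :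
    IsMono l (sw hji * g) i (-a) ∧ IsMono l (sw hji.symm * g) i a := by
  refine ⟨⟨?_, fun v => ?_⟩, ⟨?_, fun v => ?_⟩⟩
  · rw [ap_mul, h.1, ap_sw_single_left, Units.val_neg]
  · rw [ap_mul, ap_sw, if_neg (Ne.symm hji), if_pos rfl, h.2, Units.val_neg, neg_mul]
  · rw [ap_mul, h.1, ap_sw_single_right]
  · rw [ap_mul, ap_sw, if_pos rfl, h.2]

theorem IsMono.fix_left {l : Fin m} {g x : SLm} {j : Fin m} {a : Fˣ} (h : IsMono l g j a)
    (hx : x ∈ Fix1 j) : IsMono l (x * g) j a :=
  ⟨by rw [ap_mul, h.1, fix1_single hx], fun v => by rw [ap_mul, hx.2, h.2]⟩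

/-- Conjugation by the diagonal matrix with `a` at `l`. -/
def cjD (l : Fin m) (a : Fˣ) (g : Matrix.SpecialLinearGroup (Fin m) F) : Matrix.SpecialLinearGroup (Fin m) F :=
  ⟨Matrix.diagonal (fun x => if x = l then (a : F) else 1) * g.1 *
      Matrix.diagonal (fun x => if x = l then ((a⁻¹ : Fˣ) : F) else 1), by
    rw [Matrix.det_mul, Matrix.det_mul, g.2, mul_one, Matrix.det_diagonal, Matrix.det_diagonal,
      Finset.prod_ite_eq', Finset.prod_ite_eq', if_pos (Finset.mem_univ l), if_pos (Finset.mem_univ l), Units.mul_inv]⟩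

theorem ap_cjD (l : Fin m) (a : Fˣ) (g : SLm) (v : Fin m → F) (x : Fin m) :
    ap (cjD l a g) v x = (if x = l then (a : F) else 1) *
      ap g (fun y => (if y = l then ((a⁻¹ : Fˣ) : F) else 1) * v y) x := by
  simp only [ap, cjD, ← Matrix.mulVec_mulVec, Matrix.mulVec_diagonal]
  congr 2
  funext y
  rw [Matrix.mulVec_diagonal]

theorem cjD_mul (l : Fin m) (a : Fˣ) (g h : SLm) : cjD l a (g * h) = cjD l a g * cjD l a h := ext_ap fun v => by
  funext x
  rw [ap_mul, ap_cjD, ap_cjD, ap_mul]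
  congr 2
  funext y
  rw [ap_cjD]
  split_ifs <;> simp [← mul_assoc]

/-- Conjugation by a diagonal matrix as a homomorphism. -/
def cjDHom (l : Fin m) (a : Fˣ) : Matrix.SpecialLinearGroup (Fin m) F →* Matrix.SpecialLinearGroup (Fin m) F :=
  MonoidHom.mk' (cjD l a) (cjD_mul l a)

theorem cjD_of_fix1 {l : Fin m} {g : SLm} (hg : g ∈ Fix1 l) (a : Fˣ) : cjD l a g = g := ext_ap fun v => by
  funext x
  rw [ap_cjD]
  have e : (fun y => (if y = l then ((a⁻¹ : Fˣ) : F) else 1) * v y) =
      v + Pi.single l ((((a⁻¹ : Fˣ) : F) - 1) * v l) := by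
    funext y
    by_cases hy : y = l
    · subst hy; simp; ring
    · simp [hy]
  rw [e, ap_add, fix1_single hg, Pi.add_apply]
  by_cases hx : x = l
  · subst hx; simp [hg.2, mul_add]; field_simp; ring
  · simp [hx]

theorem cjD_hd (l : Fin m) (a : Fˣ) {i j : Fin m} (h : i ≠ j) (b : Fˣ) : cjD l a (hd h b) = hd h b :=
  ext_ap fun v => by
    funext x
    rw [ap_cjD, ap_hd, ap_hd]
    by_cases hx : x = l
    · subst hx; simp; split_ifs <;> field_simp
    · simp [hx]

theorem cjD_tv (l : Fin m) (a : Fˣ) {i j : Fin m} (h : i ≠ j) (b : F) :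
    cjD l a (tv h b) =
      tv h ((if i = l then (a : F) else 1) * b * (if j = l then ((a⁻¹ : Fˣ) : F) else 1)) := ext_ap fun v => by
  funext x
  rw [ap_cjD, ap_tv, ap_tv, Pi.add_apply, Pi.add_apply]
  by_cases hx : x = i
  · subst hx
    by_cases hl : x = l <;> simp [hl, mul_add, mul_assoc]
  · by_cases hl : x = l
    · subst hl; simp [hx, mul_add]
    · simp [hx, hl]

/-- With three or more indices the transposition of `k` and `l` and the elements fixing `l` generate. -/
theorem closure_fix1_sw (hm : 3 ≤ m) {l k : Fin m} (hlk : l ≠ k) (H : Subgroup SLm) (h1 : Fix1 l ≤ H)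
    (h2 : (sw hlk.symm : SLm) ∈ H) : H = ⊤ := by
  refine OrthPresent.sl_le fun i j hij b => ?_
  obtain ⟨p, hpl, hpk⟩ : ∃ p : Fin m, p ≠ l ∧ p ≠ k := by
    have hc : ({l, k} : Finset (Fin m)).card < (Finset.univ : Finset (Fin m)).card := by
      rw [Finset.card_univ, Fintype.card_fin]
      exact lt_of_le_of_lt Finset.card_le_two (by omega)
    obtain ⟨p, -, hp⟩ := Finset.exists_mem_notMem_of_card_lt_card hc
    simp only [Finset.mem_insert, Finset.mem_singleton, not_or] at hp
    exact ⟨p, hp.1, hp.2⟩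
  have row : ∀ j (hj : l ≠ j) (b : F), tv hj b ∈ H := by
    refine row_tv_mem hm H h1 hpl.symm ?_
    have e : tv hpl.symm (1 : F) = sw hlk.symm * tv hpk.symm (-1 : F) * (sw hlk.symm)⁻¹ := by
      rw [eq_mul_inv_iff_mul_eq]
      refine ext_ap fun v => funext fun x => ?_
      simp only [ap_mul, ap_tv, ap_sw, Pi.add_apply]
      by_cases hx : x = l
      · subst hx; simp [hlk, hpl, hpk, hpk.symm]; ring
      · by_cases hx' : x = k
        · subst hx'; simp [hlk, hlk.symm, hx, hpk]
        · simp [hx, hx']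
    rw [e]
    exact mul_mem (mul_mem h2 (h1 (tv_mem_fix1 _ hlk.symm hpl _))) (inv_mem h2)
  have col0 : ∀ j (hj : j ≠ l) (b : F), tv hj b ∈ H := by
    intro j hj b
    rcases eq_or_ne j k with rfl | hjk
    · have e : tv hj b = sw hlk.symm * tv hlk (-b) * (sw hlk.symm)⁻¹ := by
        rw [eq_mul_inv_iff_mul_eq]
        refine ext_ap fun v => funext fun x => ?_
        simp only [ap_mul, ap_tv, ap_sw, Pi.add_apply]
        by_cases hx : x = j
        · subst hx; simp [hlk, hlk.symm]
        · by_cases hx' : x = l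
          · subst hx'; simp [hx, hlk]
          · simp [hx, hx']
      rw [e]
      exact mul_mem (mul_mem h2 (row _ hlk _)) (inv_mem h2)
    · have e : tv hj b = sw hlk.symm * tv hjk (-b) * (sw hlk.symm)⁻¹ := by
        rw [eq_mul_inv_iff_mul_eq]
        refine ext_ap fun v => funext fun x => ?_
        simp only [ap_mul, ap_tv, ap_sw, Pi.add_apply]
        by_cases hx : x = j
        · subst hx; simp [hjk, hj, hlk, hlk.symm]
        · simp [hx, hj.symm, hjk.symm, hlk, hlk.symm]
      rw [e]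
      exact mul_mem (mul_mem h2 (h1 (tv_mem_fix1 _ hj hlk.symm _))) (inv_mem h2)
  rcases eq_or_ne i l with rfl | hil
  · exact row j hij b
  rcases eq_or_ne j l with rfl | hjl
  · exact col0 i hij b
  exact h1 (tv_mem_fix1 hij hil hjl b)

end Mono

/-- The group of root elements preserving the coordinate subspace off `A`. -/
def GA (A : Finset (Fin m)) : Subgroup (Matrix.SpecialLinearGroup (Fin m) F) :=
  Subgroup.closure {g | ∃ (i j : Fin m) (h : i ≠ j) (b : F), (i ∈ A → j ∈ A) ∧ g = tv h b}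

theorem tv_mem_GA {A : Finset (Fin m)} {i j : Fin m} (h : i ≠ j) (hA : i ∈ A → j ∈ A) (b : F) : tv h b ∈ GA A :=
  Subgroup.subset_closure ⟨i, j, h, b, hA, rfl⟩

theorem sw_mem_GA {A : Finset (Fin m)} {i j : Fin m} (h : i ≠ j) (hA : i ∈ A ↔ j ∈ A) : (sw h : SLm) ∈ GA A :=
  mul_mem (mul_mem (tv_mem_GA h hA.1 _) (tv_mem_GA h.symm hA.2 _)) (tv_mem_GA h hA.1 _)

theorem row_mul_tv (a : SLm) {i j : Fin m} (h : i ≠ j) (b : F) (r x : Fin m) :
    (a * tv h b).1 r x = a.1 r x + if x = j then b * a.1 r i else 0 := by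
  rw [coe_eq_ap, ap_mul, ap_tv, ap_add, Pi.add_apply, ← coe_eq_ap]
  congr 1
  by_cases hx : x = j
  · subst hx
    rw [if_pos rfl, Pi.single_eq_same, mul_one,
      show (Pi.single i b : Fin m → F) = b • Pi.single i 1 by rw [← Pi.single_smul', smul_eq_mul, mul_one],
      ap_smul, Pi.smul_apply, smul_eq_mul, ← coe_eq_ap]
  · rw [if_neg hx, Pi.single_eq_of_ne (Ne.symm hx), mul_zero, Pi.single_zero, ap_zero]
    rfl

/-- Clearing the last row by root elements preserving the coordinate subspace off `A`. -/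
theorem exists_clear (a : SLm) (l : Fin m) (A : Finset (Fin m)) :
    ∃ g ∈ GA A, ∃ i : Fin m, ∀ x, x ≠ i → (a * g).1 l x = 0 ∧ ((∃ y, y ∉ A ∧ a.1 l y ≠ 0) → i ∉ A) := by
  classical
  obtain ⟨i, hi, hiA⟩ : ∃ i, a.1 l i ≠ 0 ∧ (i ∈ A → ∀ y, y ∉ A → a.1 l y = 0) := by
    by_cases h : ∃ y, y ∉ A ∧ a.1 l y ≠ 0
    · obtain ⟨y, hy, h0⟩ := h
      exact ⟨y, h0, fun h => absurd h hy⟩
    · push Not at h
      obtain ⟨i, hi⟩ : ∃ i, a.1 l i ≠ 0 := by
        by_contra hc
        push Not at hc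
        have := Matrix.det_eq_zero_of_row_eq_zero l hc
        rw [a.2] at this
        exact one_ne_zero this
      exact ⟨i, hi, fun _ => h⟩
  suffices H : ∀ s : Finset (Fin m), i ∉ s → ∃ g ∈ GA A, ∀ x, (a * g).1 l x = if x ∈ s then 0 else a.1 l x by
    obtain ⟨g, hg, e⟩ := H (Finset.univ.erase i) (by simp)
    refine ⟨g, hg, i, fun x hx => ⟨by rw [e, if_pos (by simp [hx])], fun ⟨y, hy, h0⟩ hiA' => h0 (hiA hiA' y hy)⟩⟩
  intro s
  induction s using Finset.induction_on with
  | empty => exact fun _ => ⟨1, one_mem _, fun x => by simp⟩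
  | insert j s hj ih =>
    intro his
    rw [Finset.mem_insert, not_or] at his
    obtain ⟨g, hg, e⟩ := ih his.2
    by_cases h0 : a.1 l j = 0
    · refine ⟨g, hg, fun x => ?_⟩
      rw [e]
      by_cases hx : x = j
      · subst hx; simp [h0]
      · simp [hx]
    · refine ⟨g * tv his.1 (-(a.1 l j / a.1 l i)),
        mul_mem hg (tv_mem_GA _ (fun hA => by_contra fun hjA => h0 (hiA hA j hjA)) _), fun x => ?_⟩
      rw [← mul_assoc, row_mul_tv, e, e i, if_neg his.2]
      by_cases hx : x = j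
      · subst hx
        simp only [hj, if_false, if_pos, Finset.mem_insert, true_or, if_true]
        field_simp
        ring
      · simp [hx]

/-- The double cosets of the hyperplane stabiliser and `GA A`, for a set `A` containing `l`, and the index `j₀` off `A`. -/
theorem exists_split (a : SLm) (l : Fin m) (A : Finset (Fin m)) (hl : l ∈ A) :
    (∃ a1 : SLm, (∃ c : F, ∀ v, ap a1 v l = c * v l) ∧ ∃ b ∈ GA A, a = a1 * b) ∨
    (∀ j₀ : Fin m, ∀ hj : j₀ ∉ A, ∃ a1 : SLm, (∃ c : F, ∀ v, ap a1 v l = c * v l) ∧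
      ∃ b ∈ GA A, a = a1 * sw (show l ≠ j₀ from fun e => hj (e ▸ hl)) * b) := by
  obtain ⟨g, hg, i, hgi⟩ := exists_clear a l A
  have done_ : ∀ a' : SLm, (∀ x, x ≠ l → a'.1 l x = 0) → ∃ c : F, ∀ v, ap a' v l = c * v l := fun a' h =>
    ⟨a'.1 l l, fun v => by
      show ∑ x, a'.1 l x * v x = _
      rw [Finset.sum_eq_single l (fun x _ hx => by rw [h x hx, zero_mul]) (by simp)]⟩
  have swap_row : ∀ (b : SLm) {p r : Fin m} (h : p ≠ r), (∀ x, x ≠ p → b.1 l x = 0) →
      ∀ x, x ≠ r → (b * sw h).1 l x = 0 := by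
    intro b p r h hb x hx
    rw [coe_eq_ap, ap_mul]
    rcases eq_or_ne x p with rfl | hxp
    · rw [ap_sw_single_left, show (Pi.single r (-1 : F) : Fin m → F) = (-1 : F) • Pi.single r 1 by
        rw [← Pi.single_smul', smul_eq_mul, mul_one], ap_smul, Pi.smul_apply, ← coe_eq_ap, hb r h.symm, smul_zero]
    · rw [ap_sw_single_other h hxp hx, ← coe_eq_ap, hb x hxp]
  by_cases hiA : i ∈ A
  · left
    rcases eq_or_ne i l with rfl | hil
    · exact ⟨a * g, done_ _ fun x hx => (hgi x hx).1, g⁻¹, inv_mem hg, by rw [mul_inv_cancel_right]⟩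
    · have hs : (sw hil : SLm) ∈ GA A := sw_mem_GA _ (iff_of_true hiA hl)
      exact ⟨a * g * sw hil, done_ _ (swap_row _ hil fun x hx => (hgi x hx).1), (g * sw hil)⁻¹,
        inv_mem (mul_mem hg hs), by rw [mul_assoc a, mul_inv_cancel_right]⟩
  · right
    intro j₀ hj₀
    have hlj : l ≠ j₀ := fun e => hj₀ (e ▸ hl)
    obtain ⟨b, hb, hrow⟩ : ∃ b ∈ GA A, ∀ x, x ≠ j₀ → (a * b).1 l x = 0 := by
      rcases eq_or_ne i j₀ with rfl | hij
      · exact ⟨g, hg, fun x hx => (hgi x hx).1⟩
      · exact ⟨g * sw hij, mul_mem hg (sw_mem_GA _ (iff_of_false hiA hj₀)), fun x hx => by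
          rw [← mul_assoc]; exact swap_row _ hij (fun x hx => (hgi x hx).1) x hx⟩
    refine ⟨a * b * (sw hlj)⁻¹, done_ _ fun x hx => ?_, b⁻¹, inv_mem hb, by rw [inv_mul_cancel_right, mul_inv_cancel_right]⟩
    have e : ((sw hlj : SLm))⁻¹ = sw hlj.symm := inv_eq_of_mul_eq_one_right (ext_ap fun v => funext fun z => by
      rw [ap_mul, ap_one]
      simp only [ap_sw]
      by_cases h1 : z = l
      · subst h1; simp [hlj, hlj.symm]
      · by_cases h2 : z = j₀
        · subst h2; simp [hlj, hlj.symm]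
        · simp [h1, h2])
    rw [e]
    exact swap_row _ hlj.symm hrow x hx

end Cfsg.Agent.SUNPresent
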