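/-
The model inside SU_n: a Levi copy of SL_m, the flip of the last pair and root elements.

* `vE`, `psi0`: the maximal isotropic subspace and the copy of SL_m.
* `t0`, `cM`: the flip at `l` and the transvection at a vector of the subspace.
* `cM_pair`, `t0_colE`, `t0_rankOne`: the identities behind the relations.
* `eq_top_of_mem`: generation.
-/
import Cfsg.Agent.Lib.SUNPresent.SL
import Cfsg.Agent.Lib.UnitaryBN.Pair
import Cfsg.Agent.Lib.UnitaryBN.Steinberg

set_option autoImplicit false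
set_option linter.unusedSectionVars false
set_option linter.unusedSimpArgs false

open Matrix

namespace Cfsg.Agent.SUNPresent

open Cfsg.Agent.Unitary Cfsg.Agent.UFus Cfsg.Agent.UnitaryBN

variable {F : Type*} [Field F] [Fintype F] {q n m : ℕ}
variable (hF : Fintype.card F = q ^ 2) (Φ : Frame n F q m)

local notation "tv" => Matrix.SpecialLinearGroup.transvection

/-- The vector of the isotropic subspace with given coordinates. -/
def vE (v : Fin m → F) : Fin n → F := ∑ i, v i • Φ.e i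

theorem vE_single (i : Fin m) (a : F) : vE Φ (Pi.single i a) = a • Φ.e i := by
  rw [vE, Finset.sum_eq_single i (fun j _ hj => by rw [Pi.single_eq_of_ne hj, zero_smul]) (by simp), Pi.single_eq_same]

theorem vE_one (i : Fin m) : vE Φ (Pi.single i 1) = Φ.e i := by rw [vE_single, one_smul]

theorem vE_zero : vE Φ (0 : Fin m → F) = 0 := by simp [vE]

theorem vE_add (v w : Fin m → F) : vE Φ (v + w) = vE Φ v + vE Φ w := by
  simp [vE, add_smul, Finset.sum_add_distrib]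

theorem vE_smul (a : F) (v : Fin m → F) : vE Φ (a • v) = a • vE Φ v := by
  simp [vE, Finset.smul_sum, smul_smul]

include hF

theorem h_ev (i : Fin m) (v : Fin m → F) : Cfsg.hermForm n F q (Φ.e i) (vE Φ v) = 0 := by
  have H := hermForm_isHerm hF n
  simp [vE, H.sum_right hF, H.smul_right, Φ.ee]

theorem h_ve (i : Fin m) (v : Fin m → F) : Cfsg.hermForm n F q (vE Φ v) (Φ.e i) = 0 := by
  have H := hermForm_isHerm hF n
  simp [vE, H.sum_left, H.smul_left, Φ.ee]

theorem h_vv (v w : Fin m → F) : Cfsg.hermForm n F q (vE Φ v) (vE Φ w) = 0 := by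
  have H := hermForm_isHerm hF n
  conv_lhs => arg 5; rw [vE]
  simp [H.sum_right hF, H.smul_right, h_ve hF]

theorem h_uv (v : Fin m → F) : Cfsg.hermForm n F q Φ.u (vE Φ v) = 0 := by
  have H := hermForm_isHerm hF n
  simp [vE, H.sum_right hF, H.smul_right, Φ.ue hF]

theorem h_vu (v : Fin m → F) : Cfsg.hermForm n F q (vE Φ v) Φ.u = 0 := by
  have H := hermForm_isHerm hF n
  simp [vE, H.sum_left, H.smul_left, Φ.eu]

theorem h_fv (i : Fin m) (v : Fin m → F) : Cfsg.hermForm n F q (Φ.f i) (vE Φ v) = v i ^ q := by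
  have H := hermForm_isHerm hF n
  rw [vE, H.sum_right hF, Finset.sum_eq_single i (fun j _ hj => by
    rw [H.smul_right, Φ.fe hF, if_neg hj.symm, mul_zero]) (by simp), H.smul_right, Φ.fe hF, if_pos rfl, mul_one]

theorem h_vf (i : Fin m) (v : Fin m → F) : Cfsg.hermForm n F q (vE Φ v) (Φ.f i) = v i := by
  have H := hermForm_isHerm hF n
  rw [vE, H.sum_left, Finset.sum_eq_single i (fun j _ hj => by
    rw [H.smul_left, Φ.ef, if_neg hj, mul_zero]) (by simp), H.smul_left, Φ.ef, if_pos rfl, mul_one]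

theorem vE_injective : Function.Injective (vE Φ) := fun v w e => funext fun i => by
  rw [← h_vf hF Φ i v, e, h_vf hF]

theorem coe_eq_of_frame {A B : Matrix (Fin n) (Fin n) F} (he : ∀ i, A *ᵥ Φ.e i = B *ᵥ Φ.e i)
    (hf : ∀ i, A *ᵥ Φ.f i = B *ᵥ Φ.f i) (hu : A *ᵥ Φ.u = B *ᵥ Φ.u) : A = B := by
  refine Matrix.ext_iff_mulVec.2 fun x => ?_
  rw [Φ.decomp hF x]
  simp only [Matrix.mulVec_add, Matrix.mulVec_sum, Matrix.mulVec_smul, he, hf, hu]

theorem ext_frame {g h : Cfsg.SU n F q} (he : ∀ i, suAct g (Φ.e i) = suAct h (Φ.e i))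
    (hf : ∀ i, suAct g (Φ.f i) = suAct h (Φ.f i)) (hu : suAct g Φ.u = suAct h Φ.u) : g = h :=
  Subtype.ext (Subtype.ext (coe_eq_of_frame hF Φ he hf hu))

omit hF [Fintype F] in
theorem suAct_inj (g : Cfsg.SU n F q) : Function.Injective (suAct g) := fun x y e => by
  rw [← suAct_inv_suAct g x, e, suAct_inv_suAct]

/-- The map behind `psi0`. -/
def psiLin (a : Matrix.SpecialLinearGroup (Fin m) F) : (Fin n → F) →ₗ[F] (Fin n → F) where
  toFun x := vE Φ (ap a fun i => Cfsg.hermForm n F q x (Φ.f i)) +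
    (∑ i, Cfsg.hermForm n F q x (Φ.e i) • ∑ j, ((a⁻¹).1 i j) ^ q • Φ.f j) + Cfsg.hermForm n F q x Φ.u • Φ.u
  map_add' x y := by
    have H := hermForm_isHerm hF n
    simp only [H.add_left, add_smul, Finset.sum_add_distrib]
    rw [show (fun i => Cfsg.hermForm n F q x (Φ.f i) + Cfsg.hermForm n F q y (Φ.f i)) =
      (fun i => Cfsg.hermForm n F q x (Φ.f i)) + fun i => Cfsg.hermForm n F q y (Φ.f i) from rfl, ap_add, vE_add]
    abel
  map_smul' c x := by
    have H := hermForm_isHerm hF n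
    simp only [H.smul_left, RingHom.id_apply, smul_add, Finset.smul_sum, mul_smul]
    rw [show (fun i => c * Cfsg.hermForm n F q x (Φ.f i)) = c • fun i => Cfsg.hermForm n F q x (Φ.f i) from rfl,
      ap_smul, vE_smul]

theorem psiLin_e (a : Matrix.SpecialLinearGroup (Fin m) F) (i : Fin m) :
    psiLin hF Φ a (Φ.e i) = vE Φ (ap a (Pi.single i 1)) := by
  have e : (fun j => Cfsg.hermForm n F q (Φ.e i) (Φ.f j)) = Pi.single i (1 : F) := funext fun j => by
    rw [Φ.ef, Pi.single_apply]; exact if_congr eq_comm rfl rfl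
  simp [psiLin, e, Φ.ee, Φ.eu]

theorem psiLin_f (a : Matrix.SpecialLinearGroup (Fin m) F) (i : Fin m) :
    psiLin hF Φ a (Φ.f i) = ∑ j, ((a⁻¹).1 i j) ^ q • Φ.f j := by
  have e : (fun j => Cfsg.hermForm n F q (Φ.f i) (Φ.f j)) = (0 : Fin m → F) := funext fun j => Φ.ff i j
  simp [psiLin, e, ap_zero, vE_zero, Φ.fu, Φ.fe hF]

theorem psiLin_u (a : Matrix.SpecialLinearGroup (Fin m) F) : psiLin hF Φ a Φ.u = Φ.u := by
  have e : (fun j => Cfsg.hermForm n F q Φ.u (Φ.f j)) = (0 : Fin m → F) := funext fun j => Φ.uf hF j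
  simp [psiLin, e, ap_zero, vE_zero, Φ.ue hF, Φ.smul_uu hF]

theorem psiLin_vE (a : Matrix.SpecialLinearGroup (Fin m) F) (v : Fin m → F) :
    psiLin hF Φ a (vE Φ v) = vE Φ (ap a v) := by
  simp [psiLin, h_vf hF, h_ve hF, h_vu hF]

/-- The matrices. -/
noncomputable def psiM : Matrix.SpecialLinearGroup (Fin m) F →* Matrix (Fin n) (Fin n) F where
  toFun a := LinearMap.toMatrix' (psiLin hF Φ a)
  map_one' := coe_eq_of_frame hF Φ
    (fun i => by rw [LinearMap.toMatrix'_mulVec, psiLin_e, ap_one, vE_one, Matrix.one_mulVec])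
    (fun i => by
      rw [LinearMap.toMatrix'_mulVec, psiLin_f, inv_one, Matrix.one_mulVec,
        Finset.sum_eq_single i (fun j _ hj => by
          rw [Matrix.SpecialLinearGroup.coe_one, Matrix.one_apply_ne hj.symm, zero_pow_q hF, zero_smul]) (by simp)]
      simp)
    (by rw [LinearMap.toMatrix'_mulVec, psiLin_u, Matrix.one_mulVec])
  map_mul' a b := coe_eq_of_frame hF Φ
    (fun i => by
      simp only [← Matrix.mulVec_mulVec, LinearMap.toMatrix'_mulVec, psiLin_e, psiLin_vE, ap_mul])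
    (fun i => by
      simp only [← Matrix.mulVec_mulVec, LinearMap.toMatrix'_mulVec, psiLin_f, map_sum, map_smul, Finset.smul_sum,
        smul_smul]
      rw [Finset.sum_comm]
      refine Finset.sum_congr rfl fun j _ => ?_
      rw [← Finset.sum_smul, _root_.mul_inv_rev, Matrix.SpecialLinearGroup.coe_mul, Matrix.mul_apply]
      congr 1
      rw [← conjHom_apply hF, map_sum]
      simp [conjHom_apply, mul_pow])
    (by simp only [← Matrix.mulVec_mulVec, LinearMap.toMatrix'_mulVec, psiLin_u])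

theorem psiM_tv {i j : Fin m} (h : i ≠ j) (b : F) :
    psiM hF Φ (tv h b) = ((xe hF Φ h (b ^ q) : Cfsg.SU n F q) : Matrix.SpecialLinearGroup (Fin n) F).1 := by
  have H := hermForm_isHerm hF n
  refine coe_eq_of_frame hF Φ (fun x => ?_) (fun x => ?_) ?_
  all_goals
    show LinearMap.toMatrix' _ *ᵥ _ = suAct (xe hF Φ h (b ^ q)) _
    rw [LinearMap.toMatrix'_mulVec, suAct_swapEich]
  · rw [psiLin_e, ap_tv, vE_add, vE_one, vE_single, Φ.ee, zero_mul, zero_smul, sub_zero, Φ.ef, pow_q_pow_q hF]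
    congr 1
    by_cases hx : x = j
    · subst hx; simp
    · simp [hx, Ne.symm hx]
  · rw [psiLin_f, Φ.ff, mul_zero, zero_smul, add_zero, Φ.fe hF, Matrix.SpecialLinearGroup.transvection_inv]
    show ∑ y, ((1 + Matrix.single i j (-b) : Matrix (Fin m) (Fin m) F) x y) ^ q • Φ.f y = _
    have e : ∀ y, ((1 + Matrix.single i j (-b) : Matrix (Fin m) (Fin m) F) x y) ^ q • Φ.f y =
        (if y = x then Φ.f y else 0) - (if x = i ∧ y = j then b ^ q • Φ.f y else 0) := by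
      intro y
      rw [Matrix.add_apply, Matrix.one_apply, Matrix.single_apply]
      by_cases hy : y = x
      · subst hy
        rw [if_pos rfl, if_pos rfl, if_neg (fun e => h (e.1.trans e.2.symm)), if_neg (fun e => h (e.1.symm.trans e.2)),
          add_zero, one_pow, one_smul, sub_zero]
      · rw [if_neg (Ne.symm hy), if_neg hy, zero_add, zero_sub]
        by_cases hc : x = i ∧ y = j
        · rw [if_pos hc, if_pos ⟨hc.1.symm, hc.2.symm⟩, neg_pow_q hF, neg_smul]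
        · rw [if_neg hc, if_neg (fun e => hc ⟨e.1.symm, e.2.symm⟩), zero_pow_q hF, zero_smul, neg_zero]
    simp only [e, Finset.sum_sub_distrib, Finset.sum_ite_eq', Finset.mem_univ, if_true]
    congr 1
    by_cases hx : x = i
    · subst hx; simp
    · simp [hx]
  · rw [psiLin_u, Φ.uf hF, Φ.ue hF]; simp

theorem psiM_mem (a : Matrix.SpecialLinearGroup (Fin m) F) :
    ∃ g : Cfsg.SU n F q, ((g : Matrix.SpecialLinearGroup (Fin n) F).1) = psiM hF Φ a := by
  have ha : a ∈ (⊤ : Subgroup (Matrix.SpecialLinearGroup (Fin m) F)) := trivial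
  rw [← Linear.closure_slTvSet] at ha
  induction ha using Subgroup.closure_induction with
  | mem x hx => obtain ⟨i, j, h, b, rfl⟩ := hx; exact ⟨_, (psiM_tv hF Φ h b).symm⟩
  | one => exact ⟨1, by rw [map_one]; rfl⟩
  | mul x y _ _ hx hy =>
    obtain ⟨g, hg⟩ := hx; obtain ⟨g', hg'⟩ := hy
    exact ⟨g * g', by rw [map_mul, ← hg, ← hg']; rfl⟩
  | inv x _ hx =>
    obtain ⟨g, hg⟩ := hx
    refine ⟨g⁻¹, ?_⟩
    have h1 : ((g⁻¹ : Cfsg.SU n F q) : Matrix.SpecialLinearGroup (Fin n) F).1 *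
        (g : Matrix.SpecialLinearGroup (Fin n) F).1 = 1 := by
      rw [← Matrix.SpecialLinearGroup.coe_mul, ← Subgroup.coe_mul, inv_mul_cancel]; rfl
    have h2 : psiM hF Φ x * psiM hF Φ x⁻¹ = 1 := by rw [← map_mul, mul_inv_cancel, map_one]
    rw [← hg] at h2
    exact left_inv_eq_right_inv h1 h2

/-- The copy of SL_m. -/
noncomputable def psi0 : Matrix.SpecialLinearGroup (Fin m) F →* Cfsg.SU n F q where
  toFun a := (psiM_mem hF Φ a).choose
  map_one' := Subtype.ext (Subtype.ext ((psiM_mem hF Φ 1).choose_spec.trans (map_one (psiM hF Φ))))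
  map_mul' a b := Subtype.ext (Subtype.ext (((psiM_mem hF Φ (a * b)).choose_spec.trans (map_mul _ a b)).trans
    (congrArg₂ (· * ·) (psiM_mem hF Φ a).choose_spec (psiM_mem hF Φ b).choose_spec).symm))

theorem suAct_psi0 (a : Matrix.SpecialLinearGroup (Fin m) F) (x : Fin n → F) :
    suAct (psi0 hF Φ a) x = psiLin hF Φ a x := by
  show ((psiM_mem hF Φ a).choose : Matrix.SpecialLinearGroup (Fin n) F).1 *ᵥ x = _
  rw [(psiM_mem hF Φ a).choose_spec]
  exact LinearMap.toMatrix'_mulVec _ x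

theorem psi0_e (a : Matrix.SpecialLinearGroup (Fin m) F) (i : Fin m) :
    suAct (psi0 hF Φ a) (Φ.e i) = vE Φ (ap a (Pi.single i 1)) := by rw [suAct_psi0, psiLin_e]

theorem psi0_vE (a : Matrix.SpecialLinearGroup (Fin m) F) (v : Fin m → F) :
    suAct (psi0 hF Φ a) (vE Φ v) = vE Φ (ap a v) := by rw [suAct_psi0, psiLin_vE]

theorem psi0_u (a : Matrix.SpecialLinearGroup (Fin m) F) : suAct (psi0 hF Φ a) Φ.u = Φ.u := by
  rw [suAct_psi0, psiLin_u]

theorem psi0_f (a : Matrix.SpecialLinearGroup (Fin m) F) (i : Fin m) :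
    suAct (psi0 hF Φ a) (Φ.f i) = ∑ j, ((a⁻¹).1 i j) ^ q • Φ.f j := by rw [suAct_psi0, psiLin_f]

theorem psi0_tv {i j : Fin m} (h : i ≠ j) (b : F) : psi0 hF Φ (tv h b) = xe hF Φ h (b ^ q) :=
  Subtype.ext (Subtype.ext ((psiM_mem hF Φ _).choose_spec.trans (psiM_tv hF Φ h b)))

theorem psi0_f_of_row {a : Matrix.SpecialLinearGroup (Fin m) F} {i j : Fin m} {c : F}
    (h : ∀ v, ap a⁻¹ v i = c * v j) : suAct (psi0 hF Φ a) (Φ.f i) = c ^ q • Φ.f j := by
  have e : ∀ x, (a⁻¹).1 i x = c * (Pi.single x 1 : Fin m → F) j := fun x => by rw [coe_eq_ap, h]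
  rw [psi0_f, Finset.sum_eq_single j (fun x _ hx => by
    rw [e, Pi.single_eq_of_ne hx.symm, mul_zero, zero_pow_q hF, zero_smul]) (by simp), e, Pi.single_eq_same, mul_one]

theorem psi0_mono {l : Fin m} {g : Matrix.SpecialLinearGroup (Fin m) F} {j : Fin m} {a : Fˣ} (h : IsMono l g j a) :
    suAct (psi0 hF Φ g) (Φ.e l) = (a : F) • Φ.e j ∧
      suAct (psi0 hF Φ g) (Φ.f l) = ((a⁻¹ : Fˣ) : F) ^ q • Φ.f j := by
  refine ⟨by rw [psi0_e, h.1, vE_single], psi0_f_of_row hF Φ fun v => ?_⟩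
  have := h.2 (ap g⁻¹ v)
  rw [ap_ap_inv] at this
  rw [this, ← mul_assoc, Units.inv_mul, one_mul]

theorem psi0_fix1 {l : Fin m} {g : Matrix.SpecialLinearGroup (Fin m) F} (h : g ∈ Fix1 l) :
    suAct (psi0 hF Φ g) (Φ.e l) = Φ.e l ∧ suAct (psi0 hF Φ g) (Φ.f l) = Φ.f l := by
  obtain ⟨h1, h2⟩ := psi0_mono hF Φ (a := 1) (g := g) (j := l) (l := l)
    ⟨by rw [h.1, Units.val_one], fun v => by rw [h.2, Units.val_one, one_mul]⟩
  simpa using And.intro h1 h2

theorem conj_te {a : Fin n → F} (ha : Cfsg.hermForm n F q a a = 0) {d : F} (hd : d ^ q = -d) (g : Cfsg.SU n F q) :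
    g * te hF ha hd * g⁻¹ = te hF (show Cfsg.hermForm n F q (suAct g a) (suAct g a) = 0 by rw [suAct_herm, ha]) hd := by
  rw [te, eich_conj hF]
  exact eich_congr hF _ _ rfl (suAct_zero g) rfl

theorem te_congr {a b : Fin n → F} (ha : Cfsg.hermForm n F q a a = 0) (hb : Cfsg.hermForm n F q b b = 0) {d d' : F}
    (hd : d ^ q = -d) (hd' : d' ^ q = -d') (e : a = b) (e' : d = d') : te hF ha hd = te hF hb hd' := by
  subst e e'; rfl

theorem te_smul {a : Fin n → F} (ha : Cfsg.hermForm n F q a a = 0) {d : F} (hd : d ^ q = -d) (γ : F)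
    (ha' : Cfsg.hermForm n F q (γ • a) (γ • a) = 0) (hd' : (d * γ ^ (q + 1)) ^ q = -(d * γ ^ (q + 1))) :
    te hF ha' hd = te hF ha hd' := by
  refine suAct_ext fun x => ?_
  rw [suAct_transEich hF ha' hd, suAct_transEich hF ha hd', (hermForm_isHerm hF n).smul_right, smul_smul]
  congr 2
  ring

/-- The transvection at a vector of the isotropic subspace. -/
noncomputable def cM (v : Fin m → F) : Cfsg.SU n F q := te hF (h_vv hF Φ v v) (skew_pow hF)

theorem suAct_cM (v : Fin m → F) (x : Fin n → F) :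
    suAct (cM hF Φ v) x = x + (skew hF * Cfsg.hermForm n F q x (vE Φ v)) • vE Φ v :=
  suAct_transEich hF _ _ x

theorem psi0_cM (a : Matrix.SpecialLinearGroup (Fin m) F) (v : Fin m → F) :
    psi0 hF Φ a * cM hF Φ v * (psi0 hF Φ a)⁻¹ = cM hF Φ (ap a v) := by
  rw [cM, conj_te hF]
  exact te_congr hF _ _ _ _ (psi0_vE hF Φ a v) rfl

theorem cM_e (v : Fin m → F) (i : Fin m) : suAct (cM hF Φ v) (Φ.e i) = Φ.e i := by
  rw [suAct_cM, h_ev hF, mul_zero, zero_smul, add_zero]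

theorem cM_u (v : Fin m → F) : suAct (cM hF Φ v) Φ.u = Φ.u := by
  rw [suAct_cM, h_uv hF, mul_zero, zero_smul, add_zero]

theorem cM_f (v : Fin m → F) (i : Fin m) :
    suAct (cM hF Φ v) (Φ.f i) = Φ.f i + (skew hF * v i ^ q) • vE Φ v := by
  rw [suAct_cM, h_fv hF]

/-- The flip at `l`. -/
noncomputable def t0 (l : Fin m) : Cfsg.SU n F q := flipEl hF Φ l

variable (l : Fin m)

theorem t0_e : suAct (t0 hF Φ l) (Φ.e l) = (-(skew hF)⁻¹) • Φ.f l := (suAct_flipEl hF Φ l).1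

theorem t0_f : suAct (t0 hF Φ l) (Φ.f l) = skew hF • Φ.e l := (suAct_flipEl hF Φ l).2.1

theorem t0_u : suAct (t0 hF Φ l) Φ.u = Φ.u := (suAct_flipEl hF Φ l).2.2.1

theorem t0_of {i : Fin m} (h : i ≠ l) :
    suAct (t0 hF Φ l) (Φ.e i) = Φ.e i ∧ suAct (t0 hF Φ l) (Φ.f i) = Φ.f i := (suAct_flipEl hF Φ l).2.2.2 i h

theorem t0_inv : suAct (t0 hF Φ l)⁻¹ (Φ.f l) = (-skew hF) • Φ.e l ∧
    suAct (t0 hF Φ l)⁻¹ (Φ.e l) = (skew hF)⁻¹ • Φ.f l := by
  have h0 : (skew hF : F) ≠ 0 := skew_ne_zero hF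
  refine ⟨suAct_inj (t0 hF Φ l) ?_, suAct_inj (t0 hF Φ l) ?_⟩
  · rw [suAct_suAct_inv, suAct_smul, t0_e, smul_smul, neg_mul_neg, mul_inv_cancel₀ h0, one_smul]
  · rw [suAct_suAct_inv, suAct_smul, t0_f, smul_smul, inv_mul_cancel₀ h0, one_smul]

theorem t0_inv_of {i : Fin m} (h : i ≠ l) :
    suAct (t0 hF Φ l)⁻¹ (Φ.e i) = Φ.e i ∧ suAct (t0 hF Φ l)⁻¹ (Φ.f i) = Φ.f i ∧
      suAct (t0 hF Φ l)⁻¹ Φ.u = Φ.u := by
  refine ⟨?_, ?_, ?_⟩ <;> refine suAct_inj (t0 hF Φ l) ?_ <;> rw [suAct_suAct_inv]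
  · rw [(t0_of hF Φ l h).1]
  · rw [(t0_of hF Φ l h).2]
  · rw [t0_u]

theorem t0_vE {w : Fin m → F} (hw : w l = 0) : suAct (t0 hF Φ l) (vE Φ w) = vE Φ w := by
  rw [vE, show suAct (t0 hF Φ l) (∑ i, w i • Φ.e i) = ∑ i, w i • suAct (t0 hF Φ l) (Φ.e i) by
    simp [suAct, Matrix.mulVec_sum, Matrix.mulVec_smul]]
  refine Finset.sum_congr rfl fun i _ => ?_
  by_cases hi : i = l
  · subst hi; rw [hw, zero_smul, zero_smul]
  · rw [(t0_of hF Φ l hi).1]

theorem t0_conj_mono {g : Matrix.SpecialLinearGroup (Fin m) F} {j : Fin m} {a : Fˣ} (h : IsMono l g j a)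
    (ha : (a : F) ^ (q + 1) = 1) :
    psi0 hF Φ g * t0 hF Φ l * (psi0 hF Φ g)⁻¹ = flipEl hF Φ j := by
  obtain ⟨h1, h2⟩ := psi0_mono hF Φ h
  have hi : ((a⁻¹ : Fˣ) : F) ^ q = a := by
    rw [Units.val_inv_eq_inv_val, inv_pow, eq_comm, ← one_div, eq_div_iff (pow_ne_zero _ a.ne_zero), ← pow_succ', ha]
  rw [hi] at h2
  have e1 : psi0 hF Φ g * te hF (Φ.ee l l) (skew_pow hF) * (psi0 hF Φ g)⁻¹ = te hF (Φ.ee j j) (skew_pow hF) := by
    rw [conj_te hF, te_congr hF _ (show Cfsg.hermForm n F q ((a : F) • Φ.e j) ((a : F) • Φ.e j) = 0 by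
      simp [(hermForm_isHerm hF n).smul_left, (hermForm_isHerm hF n).smul_right, Φ.ee]) _ (skew_pow hF) h1 rfl,
      te_smul hF (Φ.ee j j) _ _ _ (by rw [ha, mul_one]; exact skew_pow hF)]
    exact te_congr hF _ _ _ _ rfl (by rw [ha, mul_one])
  have e2 : psi0 hF Φ g * te hF (Φ.ff l l) (neg_inv_skew (skew_pow hF) hF) * (psi0 hF Φ g)⁻¹ =
      te hF (Φ.ff j j) (neg_inv_skew (skew_pow hF) hF) := by
    rw [conj_te hF, te_congr hF _ (show Cfsg.hermForm n F q ((a : F) • Φ.f j) ((a : F) • Φ.f j) = 0 by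
      simp [(hermForm_isHerm hF n).smul_left, (hermForm_isHerm hF n).smul_right, Φ.ff]) _ (neg_inv_skew (skew_pow hF) hF) h2 rfl,
      te_smul hF (Φ.ff j j) _ _ _ (by rw [ha, mul_one]; exact neg_inv_skew (skew_pow hF) hF)]
    exact te_congr hF _ _ _ _ rfl (by rw [ha, mul_one])
  rw [t0, flipEl, flipEl, ← e1, ← e2]
  group

theorem t0_fix1 {g : Matrix.SpecialLinearGroup (Fin m) F} (h : g ∈ Fix1 l) :
    Commute (t0 hF Φ l) (psi0 hF Φ g) := by
  have e := t0_conj_mono hF Φ l (a := 1) (g := g) (j := l)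
    ⟨by rw [h.1, Units.val_one], fun v => by rw [h.2, Units.val_one, one_mul]⟩ (by simp)
  exact (mul_inv_eq_iff_eq_mul.1 e).symm

theorem t0_cM {w : Fin m → F} (hw : w l = 0) : Commute (t0 hF Φ l) (cM hF Φ w) := by
  have e : t0 hF Φ l * cM hF Φ w * (t0 hF Φ l)⁻¹ = cM hF Φ w := by
    rw [cM, conj_te hF]
    exact te_congr hF _ _ _ _ (t0_vE hF Φ l hw) rfl
  exact mul_inv_eq_iff_eq_mul.1 e

theorem t0_rankOne : t0 hF Φ l * cM hF Φ (Pi.single l 1) * (t0 hF Φ l)⁻¹ =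
    (cM hF Φ (Pi.single l 1))⁻¹ * t0 hF Φ l * (cM hF Φ (Pi.single l 1))⁻¹ := by
  have h0 : (skew hF : F) ≠ 0 := skew_ne_zero hF
  have hc : cM hF Φ (Pi.single l 1) = te hF (Φ.ee l l) (skew_pow hF) :=
    te_congr hF _ _ _ _ (vE_one Φ l) rfl
  have hval : skew hF * (-(skew hF)⁻¹) ^ (q + 1) = -(skew hF)⁻¹ := by
    rw [pow_succ, neg_pow_q hF, inv_pow, skew_pow hF, inv_neg, neg_neg]
    field_simp
  have e : t0 hF Φ l * te hF (Φ.ee l l) (skew_pow hF) * (t0 hF Φ l)⁻¹ =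
      te hF (Φ.ff l l) (neg_inv_skew (skew_pow hF) hF) := by
    rw [conj_te hF, te_congr hF _ (show Cfsg.hermForm n F q ((-(skew hF)⁻¹) • Φ.f l) ((-(skew hF)⁻¹) • Φ.f l) = 0 by
      simp [(hermForm_isHerm hF n).smul_left, (hermForm_isHerm hF n).smul_right, (hermForm_isHerm hF n).neg_left, (hermForm_isHerm hF n).neg_right hF, Φ.ff]) _ (skew_pow hF) (t0_e hF Φ l) rfl,
      te_smul hF (Φ.ff l l) _ _ _ (by rw [hval]; exact neg_inv_skew (skew_pow hF) hF)]
    exact te_congr hF _ _ _ _ rfl hval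
  rw [hc, e, t0, flipEl]
  group

theorem psi0_colE_f {w : Fin m → F} (hw : w l = 0) (i : Fin m) :
    suAct (psi0 hF Φ (colE l w)) (Φ.f i) = Φ.f i - w i ^ q • Φ.f l := by
  have hinv : (colE l w)⁻¹ = colE l (-w) := inv_eq_of_mul_eq_one_right (by
    rw [← colE_add, add_neg_cancel, colE_zero])
  have e : ∀ j, ((colE l w)⁻¹).1 i j = (if j = i then 1 else 0) - (if j = l then w i else 0) := by
    intro j
    rw [hinv, coe_eq_ap, ap_colE, killAt_of (show (-w) l = 0 by simp [hw]), Pi.add_apply, Pi.smul_apply,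
      Pi.single_apply, Pi.single_apply, Pi.neg_apply, smul_eq_mul]
    by_cases hj : j = l
    · subst hj; simp [eq_comm]; ring
    · simp [hj, Ne.symm hj, eq_comm]
  rw [psi0_f]
  have e' : ∀ j, (((colE l w)⁻¹).1 i j) ^ q • Φ.f j =
      (if j = i then Φ.f j else 0) - (if j = l then w i ^ q • Φ.f j else 0) := by
    intro j
    rw [e, sub_pow_q hF, sub_smul]
    congr 1
    · split_ifs <;> simp [zero_pow_q hF]
    · split_ifs <;> simp [zero_pow_q hF]
  simp only [e', Finset.sum_sub_distrib, Finset.sum_ite_eq', Finset.mem_univ, if_true]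

theorem psi0_colE_e {w : Fin m → F} (hw : w l = 0) :
    suAct (psi0 hF Φ (colE l w)) (Φ.e l) = Φ.e l + vE Φ w ∧
      ∀ i, i ≠ l → suAct (psi0 hF Φ (colE l w)) (Φ.e i) = Φ.e i := by
  refine ⟨?_, fun i hi => ?_⟩
  · rw [psi0_e, ap_colE_single hw, vE_add, vE_one, one_smul]
  · rw [psi0_e, ap_colE_of (Pi.single_eq_of_ne (Ne.symm hi) _), vE_one]

theorem ok_e_vE (w : Fin m → F) : Ok q (Φ.e l) ((-skew hF) • vE Φ w) (0 : F) := by
  have H := hermForm_isHerm hF n
  exact ⟨Φ.ee l l, by rw [H.smul_left, h_ve hF, mul_zero],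
    by rw [H.smul_left, H.smul_right, h_vv hF, zero_pow_q hF]; simp⟩

/-- The conjugate of a column transvection by the flip. -/
theorem t0_colE {w : Fin m → F} (hw : w l = 0) :
    (t0 hF Φ l)⁻¹ * psi0 hF Φ (colE l w) * t0 hF Φ l = eich hF (ok_e_vE hF Φ l w) := by
  have H := hermForm_isHerm hF n
  have hs : (skew hF : F) ^ q = -skew hF := skew_pow hF
  have h0 : (skew hF : F) ≠ 0 := skew_ne_zero hF
  obtain ⟨c1, c2⟩ := psi0_colE_e hF Φ l hw
  obtain ⟨i1, i2⟩ := t0_inv hF Φ l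
  have hwe : suAct (t0 hF Φ l)⁻¹ (vE Φ w) = vE Φ w :=
    suAct_inj (t0 hF Φ l) (by rw [suAct_suAct_inv, t0_vE hF Φ l hw])
  refine ext_frame hF Φ (fun i => ?_) (fun i => ?_) ?_ <;>
    rw [suAct_mul, suAct_mul, suAct_eich, H.smul_right, neg_pow_q hF, hs, neg_neg, zero_mul, add_zero]
  · rw [h_ev hF, Φ.ee, mul_zero, zero_smul, zero_smul, add_zero, sub_zero]
    by_cases hi : i = l
    · subst hi
      rw [t0_e, suAct_smul, suAct_smul, psi0_colE_f hF Φ i hw, hw, zero_pow_q hF, zero_smul, sub_zero, i1, smul_smul,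
        neg_mul_neg, inv_mul_cancel₀ h0, one_smul]
    · rw [(t0_of hF Φ l hi).1, c2 i hi, (t0_inv_of hF Φ l hi).1]
  · rw [h_fv hF, Φ.fe hF]
    by_cases hi : i = l
    · subst hi
      rw [t0_f, suAct_smul, suAct_smul, c1, suAct_add, i2, hwe, if_pos rfl, hw, zero_pow_q hF, mul_zero, zero_smul,
        add_zero, one_smul, smul_add, smul_smul, mul_inv_cancel₀ h0, one_smul, neg_smul, sub_neg_eq_add]
    · rw [(t0_of hF Φ l hi).2, psi0_colE_f hF Φ l hw, suAct_sub, suAct_smul, (t0_inv_of hF Φ l hi).2.1, i1,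
        if_neg hi, zero_smul, sub_zero, smul_smul, mul_neg, neg_smul, sub_neg_eq_add, mul_comm]
  · rw [h_uv hF, Φ.ue hF, mul_zero, zero_smul, zero_smul, add_zero, sub_zero, t0_u, psi0_u]
    exact suAct_inj (t0 hF Φ l) (by rw [suAct_suAct_inv, t0_u])

theorem cM_pair {w : Fin m → F} (hw : w l = 0) : cM hF Φ (Pi.single l 1 + w) =
    cM hF Φ (Pi.single l 1) * ((t0 hF Φ l)⁻¹ * psi0 hF Φ (colE l w) * t0 hF Φ l) * cM hF Φ w := by
  have H := hermForm_isHerm hF n
  rw [t0_colE hF Φ l hw]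
  refine suAct_ext fun x => ?_
  simp only [suAct_mul, suAct_cM, suAct_eich, vE_add, vE_one, H.add_left, H.sub_left, H.smul_left, H.add_right hF,
    H.smul_right, neg_pow_q hF, skew_pow hF, neg_neg, h_vv hF, h_ev hF, h_ve hF, Φ.ee, mul_zero, zero_mul, add_zero,
    zero_add, sub_zero]
  module

theorem cM_zero : cM hF Φ (0 : Fin m → F) = 1 := suAct_ext fun x => by
  rw [suAct_cM, suAct_one, vE_zero, smul_zero, add_zero]

theorem cM_comm (v w : Fin m → F) : Commute (cM hF Φ v) (cM hF Φ w) := by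
  have e : cM hF Φ v * cM hF Φ w * (cM hF Φ v)⁻¹ = cM hF Φ w := by
    conv_lhs => rw [show cM hF Φ w = te hF (h_vv hF Φ w w) (skew_pow hF) from rfl, conj_te hF]
    refine te_congr hF _ _ _ _ ?_ rfl
    rw [suAct_cM, h_vv hF, mul_zero, zero_smul, add_zero]
  exact mul_inv_eq_iff_eq_mul.1 e

theorem cM_smul (γ : F) (hγ : γ ^ (q + 1) = 1) (v : Fin m → F) : cM hF Φ (γ • v) = cM hF Φ v := by
  refine suAct_ext fun x => ?_
  rw [suAct_cM, suAct_cM, vE_smul, (hermForm_isHerm hF n).smul_right, smul_smul]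
  congr 2
  rw [pow_succ] at hγ
  linear_combination (skew hF * Cfsg.hermForm n F q x (vE Φ v)) * hγ

/-- The determinant of an element diagonal on the frame. -/
theorem det_diag {g : Cfsg.SU n F q} {α β : F} (he : ∀ i, i ≠ l → suAct g (Φ.e i) = Φ.e i)
    (hel : suAct g (Φ.e l) = α • Φ.e l) (hf : ∀ i, i ≠ l → suAct g (Φ.f i) = Φ.f i)
    (hfl : suAct g (Φ.f l) = (α ^ q)⁻¹ • Φ.f l) (hu : suAct g Φ.u = β • Φ.u) :
    α * (α ^ q)⁻¹ * (1 + (β - 1) * Cfsg.hermForm n F q Φ.u Φ.u) = 1 := by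
  have H := hermForm_isHerm hF n
  have e : ((g : Matrix.SpecialLinearGroup (Fin n) F) : Matrix (Fin n) (Fin n) F) =
      rankOne q (Φ.e l) (Φ.f l) (α - 1) * rankOne q (Φ.f l) (Φ.e l) ((α ^ q)⁻¹ - 1) *
        rankOne q Φ.u Φ.u (β - 1) := by
    refine coe_eq_of_frame hF Φ (fun i => ?_) (fun i => ?_) ?_ <;>
      rw [← Matrix.mulVec_mulVec, ← Matrix.mulVec_mulVec, rankOne_mulVec, rankOne_mulVec, rankOne_mulVec]
    · show suAct g _ = _
      simp only [Φ.eu, Φ.ee, Φ.ef, mul_zero, zero_smul, add_zero]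
      by_cases hi : i = l
      · subst hi; rw [hel, if_pos rfl, mul_one, sub_smul, one_smul, add_sub_cancel]
      · rw [he i hi, if_neg hi, mul_zero, zero_smul, add_zero]
    · show suAct g _ = _
      simp only [Φ.fu, mul_zero, zero_smul, add_zero, H.add_left, H.smul_left, Φ.ff, Φ.fe hF, Φ.ef]
      by_cases hi : i = l
      · subst hi
        rw [hfl]
        simp [sub_smul]
      · rw [hf i hi]; simp [hi]
    · show suAct g _ = _
      rw [hu]
      simp only [H.add_left, H.smul_left, Φ.ue hF, Φ.uf hF, mul_zero, zero_smul, add_zero]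
      rw [mul_smul, Φ.smul_uu hF, sub_smul, one_smul, add_sub_cancel]
  have hd := congrArg Matrix.det e
  rw [Matrix.SpecialLinearGroup.det_coe, Matrix.det_mul, Matrix.det_mul, rankOne_det, rankOne_det, rankOne_det,
    Φ.ef, Φ.fe hF, if_pos rfl, mul_one, mul_one, add_sub_cancel, add_sub_cancel] at hd
  exact hd.symm

end Cfsg.Agent.SUNPresent
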