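/-
Injectivity from a parabolic subgroup and the products of commuting flips.

* `Core`: the data.
* `Core.inj`: the homomorphism to SU is injective.
-/
import Cfsg.Agent.Lib.SUNPresent.Cells
import Cfsg.Agent.Lib.SUNPresent.Model
import Mathlib.GroupTheory.Perm.Basic
import Mathlib.Data.Finset.NoncommProd

set_option autoImplicit false
set_option linter.unusedSectionVars false
set_option linter.unusedSimpArgs false

open Matrix

namespace Cfsg.Agent.SUNPresent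

open Cfsg.Agent.Unitary Cfsg.Agent.UFus Cfsg.Agent.UnitaryBN

local notation "tv" => Matrix.SpecialLinearGroup.transvection

/-- The conjugate of `t` at the index `j`. -/
noncomputable def tjF {F : Type*} [Field F] {m : ℕ} {G : Type*} [Group G] {l k : Fin m} (hlk : l ≠ k)
    (ψ : Matrix.SpecialLinearGroup (Fin m) F →* G) (t : G) (j : Fin m) : G :=
  ψ (exists_isMono (F := F) hlk j 1).choose * t * (ψ (exists_isMono (F := F) hlk j 1).choose)⁻¹

/-- The parabolic subgroup. -/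
def PF {F : Type*} [Field F] {m : ℕ} {G : Type*} [Group G] (ψ : Matrix.SpecialLinearGroup (Fin m) F →* G) (d : G)
    (R : Subgroup G) : Subgroup G := (ψ.range ⊔ Subgroup.zpowers d) ⊔ R

/-- The data for the cell argument. -/
structure Core {F : Type*} [Field F] [Fintype F] {q n m : ℕ} (hF : Fintype.card F = q ^ 2) (Φ : Frame n F q m)
    {l k : Fin m} (hlk : l ≠ k) (G : Type*) [Group G] where
  ψ : Matrix.SpecialLinearGroup (Fin m) F →* G
  t : G
  d : G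
  R : Subgroup G
  Z : Set G
  α : Fˣ
  π : G →* Cfsg.SU n F q
  πψ : ∀ a, π (ψ a) = psi0 hF Φ a
  πt : π t = t0 hF Φ l
  tFix : ∀ g ∈ Fix1 l, Commute t (ψ g)
  tζ : ∀ z : Fˣ, (z : F) ^ (q + 1) = 1 → Commute t (ψ (hd hlk z))
  tt : ∀ j, j ≠ l → Commute t (tjF hlk ψ t j)
  Rψ : ∀ a, ∀ r ∈ R, ψ a * r * (ψ a)⁻¹ ∈ R
  Rd : ∀ r ∈ R, d * r * d⁻¹ ∈ R
  dN : IsOfFinOrder d
  dψ : ∀ a, d * ψ a * d⁻¹ = ψ (cjD l α a)
  πd : ∀ i, suAct (π d) (Φ.e i) = (if i = l then (α : F) else 1) • Φ.e i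
  d_inj : ∀ i : ℕ, α ^ i = 1 → d ^ i = 1
  td : t * d * t⁻¹ ∈ Subgroup.zpowers d
  tsq : t * t ∈ Subgroup.zpowers d
  th : ∀ u : Fˣ, t * ψ (hd hlk u) * t⁻¹ ∈ PF ψ d R
  MR : ∀ w : Fin m → F, w l = 0 → t⁻¹ * ψ (colE l w) * t ∈ R
  ZR : Z ⊆ R
  Zc : ∀ z ∈ Z, ∀ j, j ≠ l → Commute z (tjF hlk ψ t j)
  Zt : ∀ z ∈ Z, t * z * t⁻¹ ∈ PF ψ d R ∨ ∃ y ∈ PF ψ d R, ∃ y' ∈ Z, t * z * t⁻¹ = y * t * y'
  tR : ∀ r ∈ R, ∃ x ∈ R, ∃ z ∈ Z, r = x * z ∧ t * x * t⁻¹ ∈ PF ψ d R
  Re : ∀ r ∈ R, ∀ i, suAct (π r) (Φ.e i) = Φ.e i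
  Rinj : ∀ r ∈ R, π r = 1 → r = 1
  gen : Subgroup.closure (Set.range ψ ∪ (R : Set G) ∪ {t}) = ⊤

namespace Core

variable {F : Type*} [Field F] [Fintype F] {q n m : ℕ} {hF : Fintype.card F = q ^ 2} {Φ : Frame n F q m}
  {l k : Fin m} {hlk : l ≠ k} {G : Type*} [Group G] (K : Core hF Φ hlk G)

/-- The flip at an index. -/
noncomputable def tj (j : Fin m) : G := tjF hlk K.ψ K.t j

/-- The parabolic subgroup. -/
def P : Subgroup G := PF K.ψ K.d K.R

theorem ψ_mem (a : Matrix.SpecialLinearGroup (Fin m) F) : K.ψ a ∈ K.P :=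
  Subgroup.mem_sup_left (Subgroup.mem_sup_left ⟨a, rfl⟩)

theorem d_mem {δ : G} (h : δ ∈ Subgroup.zpowers K.d) : δ ∈ K.P := Subgroup.mem_sup_left (Subgroup.mem_sup_right h)

theorem R_mem {r : G} (h : r ∈ K.R) : r ∈ K.P := Subgroup.mem_sup_right h

theorem mem_powers {δ : G} (h : δ ∈ Subgroup.zpowers K.d) : ∃ i : ℕ, δ = K.d ^ i := by
  obtain ⟨i, hi⟩ := Subgroup.mem_zpowers_iff.1 h
  refine ⟨(i % (orderOf K.d : ℤ)).toNat, ?_⟩
  rw [← hi, ← zpow_natCast, Int.toNat_of_nonneg (Int.emod_nonneg i (by exact_mod_cast K.dN.orderOf_pos.ne')),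
    zpow_mod_orderOf]

theorem dR {δ : G} (h : δ ∈ Subgroup.zpowers K.d) : ∀ r ∈ K.R, δ * r * δ⁻¹ ∈ K.R := by
  obtain ⟨i, rfl⟩ := K.mem_powers h
  induction i with
  | zero => intro r hr; simpa using hr
  | succ i ih =>
    intro r hr
    have := K.Rd _ (ih (Subgroup.mem_zpowers_iff.2 ⟨i, zpow_natCast _ _⟩) r hr)
    rwa [show K.d * (K.d ^ i * r * (K.d ^ i)⁻¹) * K.d⁻¹ = K.d ^ (i + 1) * r * (K.d ^ (i + 1))⁻¹ by
      rw [pow_succ']; group] at this

theorem dψ_pow (i : ℕ) (a : Matrix.SpecialLinearGroup (Fin m) F) :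
    ∃ b, K.d ^ i * K.ψ a * (K.d ^ i)⁻¹ = K.ψ b := by
  induction i with
  | zero => exact ⟨a, by simp⟩
  | succ i ih =>
    obtain ⟨b, hb⟩ := ih
    exact ⟨cjD l K.α b, by rw [← K.dψ, ← hb, pow_succ']; group⟩

theorem mem_P {p : G} (hp : p ∈ K.P) :
    ∃ (i : ℕ) (a : Matrix.SpecialLinearGroup (Fin m) F), ∃ r ∈ K.R, p = K.d ^ i * K.ψ a * r := by
  have hnorm : ∀ δ ∈ Subgroup.zpowers K.d, ∀ x ∈ K.ψ.range, δ * x * δ⁻¹ ∈ K.ψ.range := by
    rintro δ hδ _ ⟨a, rfl⟩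
    obtain ⟨i, rfl⟩ := K.mem_powers hδ
    obtain ⟨b, hb⟩ := K.dψ_pow i a
    exact ⟨b, hb.symm⟩
  have h1 : Subgroup.zpowers K.d ≤ Subgroup.normalizer (K.ψ.range : Set G) := fun δ hδ =>
    Subgroup.mem_normalizer_iff.2 fun x => ⟨hnorm δ hδ x, fun h => by
      have := hnorm δ⁻¹ (inv_mem hδ) _ h
      rwa [show δ⁻¹ * (δ * x * δ⁻¹) * δ⁻¹⁻¹ = x by group] at this⟩
  have hL : K.ψ.range ⊔ Subgroup.zpowers K.d ≤ Subgroup.normalizer (K.R : Set G) := by
    have hψ : ∀ a, ∀ x ∈ K.R, (K.ψ a)⁻¹ * x * K.ψ a ∈ K.R := fun a x hx => by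
      have := K.Rψ a⁻¹ x hx
      rwa [map_inv, inv_inv] at this
    refine sup_le ?_ fun δ hδ => Subgroup.mem_normalizer_iff.2 fun x => ⟨K.dR hδ x, fun h => by
      have := K.dR (inv_mem hδ) _ h
      rwa [show δ⁻¹ * (δ * x * δ⁻¹) * δ⁻¹⁻¹ = x by group] at this⟩
    rintro _ ⟨a, rfl⟩
    refine Subgroup.mem_normalizer_iff.2 fun x => ⟨K.Rψ a x, fun h => ?_⟩
    have := hψ a _ h
    rwa [show (K.ψ a)⁻¹ * (K.ψ a * x * (K.ψ a)⁻¹) * K.ψ a = x by group] at this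
  have hp' : p ∈ ((K.ψ.range ⊔ Subgroup.zpowers K.d ⊔ K.R : Subgroup G) : Set G) := hp
  rw [Subgroup.coe_mul_of_left_le_normalizer_right _ _ hL] at hp'
  obtain ⟨u, hu, r, hr, rfl⟩ := hp'
  rw [sup_comm, Subgroup.coe_mul_of_left_le_normalizer_right _ _ h1] at hu
  obtain ⟨δ, hδ, _, ⟨a, rfl⟩, rfl⟩ := hu
  obtain ⟨i, rfl⟩ := K.mem_powers hδ
  exact ⟨i, a, r, hr, rfl⟩

theorem πd_vE (v : Fin m → F) :
    suAct (K.π K.d) (vE Φ v) = vE Φ (fun i => (if i = l then (K.α : F) else 1) * v i) := by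
  simp only [vE, suAct, Matrix.mulVec_sum, Matrix.mulVec_smul]
  refine Finset.sum_congr rfl fun i _ => ?_
  have := K.πd i
  simp only [suAct] at this
  rw [this, smul_smul, mul_comm]

theorem π_P {i : ℕ} {a : Matrix.SpecialLinearGroup (Fin m) F} {r : G} (hr : r ∈ K.R) (x : Fin m) :
    suAct (K.π (K.d ^ i * K.ψ a * r)) (Φ.e x) =
      vE Φ (fun y => (if y = l then (K.α : F) ^ i else 1) * ap a (Pi.single x 1) y) := by
  rw [map_mul, map_mul, map_pow, suAct_mul, K.Re r hr, suAct_mul, K.πψ, psi0_e]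
  induction i with
  | zero => rw [pow_zero, suAct_one]; congr 1; funext y; simp
  | succ i ih =>
    rw [pow_succ', suAct_mul, ih, K.πd_vE]
    congr 1; funext y
    split_ifs <;> simp [pow_succ', mul_assoc]

theorem inj_P {p : G} (hp : p ∈ K.P) (h : K.π p = 1) : p = 1 := by
  obtain ⟨i, a, r, hr, rfl⟩ := K.mem_P hp
  have e : ∀ x, (fun y => (if y = l then (K.α : F) ^ i else 1) * ap a (Pi.single x 1) y) = Pi.single x 1 :=
    fun x => vE_injective hF Φ (by rw [← K.π_P hr, h, suAct_one, vE_one])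
  have hA : Matrix.diagonal (fun y => if y = l then (K.α : F) ^ i else 1) * a.1 = 1 := by
    ext y x
    have := congrFun (e x) y
    rw [← coe_eq_ap] at this
    rw [Matrix.diagonal_mul, this, Matrix.one_apply, Pi.single_apply]
  have hα : K.α ^ i = 1 := by
    have hd' := congrArg Matrix.det hA
    rw [Matrix.det_mul, a.2, mul_one, Matrix.det_one, Matrix.det_diagonal, Finset.prod_ite_eq',
      if_pos (Finset.mem_univ l)] at hd'
    exact Units.ext (by rw [Units.val_pow_eq_pow_val, hd', Units.val_one])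
  have ha : a = 1 := by
    have hα' : (K.α : F) ^ i = 1 := by rw [← Units.val_pow_eq_pow_val, hα, Units.val_one]
    simp only [hα', ite_self, Matrix.diagonal_one, one_mul] at hA
    exact Subtype.ext hA
  rw [K.d_inj i hα, ha, map_one, one_mul, one_mul] at h ⊢
  exact K.Rinj r hr h

theorem eq_of_π {x y : G} (hx : x ∈ K.P) (hy : y ∈ K.P) (h : K.π x = K.π y) : x = y :=
  mul_inv_eq_one.1 (K.inj_P (mul_mem hx (inv_mem hy)) (by rw [map_mul, map_inv, h, mul_inv_cancel]))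

/-- Conjugating `t` by a monomial element. -/
theorem mono_conj {g : Matrix.SpecialLinearGroup (Fin m) F} {j : Fin m} {a : Fˣ} (h : IsMono l g j a)
    (ha : (a : F) ^ (q + 1) = 1) : K.ψ g * K.t * (K.ψ g)⁻¹ = K.tj j := by
  obtain ⟨x, hx, rfl⟩ := (exists_isMono (F := F) hlk j 1).choose_spec.compare hlk h
  rw [tj, tjF, inv_one, one_mul, map_mul, map_mul, _root_.mul_inv_rev, _root_.mul_inv_rev,
    show K.ψ (exists_isMono (F := F) hlk j 1).choose * K.ψ (hd hlk a) * K.ψ x * K.t *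
      ((K.ψ x)⁻¹ * ((K.ψ (hd hlk a))⁻¹ * (K.ψ (exists_isMono (F := F) hlk j 1).choose)⁻¹)) =
      K.ψ (exists_isMono (F := F) hlk j 1).choose * (K.ψ (hd hlk a) * (K.ψ x * K.t * (K.ψ x)⁻¹) *
        (K.ψ (hd hlk a))⁻¹) * (K.ψ (exists_isMono (F := F) hlk j 1).choose)⁻¹ by group,
    ← (K.tFix x hx).eq, mul_inv_cancel_right, ← (K.tζ a ha).eq, mul_inv_cancel_right]

theorem tj_l : K.tj l = K.t := by
  rw [← K.mono_conj (g := 1) (isMono_one l) (by simp), map_one]; group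

theorem πtj (j : Fin m) : K.π (K.tj j) = flipEl hF Φ j := by
  have h := (exists_isMono (F := F) hlk j 1).choose_spec
  rw [tj, tjF, map_mul, map_mul, map_inv, K.πψ, K.πt, t0_conj_mono hF Φ l h (by simp)]

theorem sw_conj {i j : Fin m} (h : i ≠ j) (x : Fin m) :
    K.ψ (sw h) * K.tj x * (K.ψ (sw h))⁻¹ = K.tj (Equiv.swap i j x) := by
  have hx := (exists_isMono (F := F) hlk x 1).choose_spec
  rw [tj, tjF, show K.ψ (sw h) * (K.ψ (exists_isMono (F := F) hlk x 1).choose * K.t *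
      (K.ψ (exists_isMono (F := F) hlk x 1).choose)⁻¹) * (K.ψ (sw h))⁻¹ =
      K.ψ (sw h * (exists_isMono (F := F) hlk x 1).choose) * K.t *
        (K.ψ (sw h * (exists_isMono (F := F) hlk x 1).choose))⁻¹ by rw [map_mul]; group]
  rcases eq_or_ne x i with rfl | hxi
  · rw [Equiv.swap_apply_left]
    exact K.mono_conj (hx.sw_left h).1 (by simp [neg_pow_q hF, pow_succ])
  rcases eq_or_ne x j with rfl | hxj
  · rw [Equiv.swap_apply_right]
    exact K.mono_conj (hx.sw_left h.symm).2 (by simp)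
  rw [Equiv.swap_apply_of_ne_of_ne hxi hxj]
  exact K.mono_conj (hx.fix_left (sw_mem_fix1 h (Ne.symm hxi) (Ne.symm hxj))) (by simp)

theorem tj_comm (i j : Fin m) : Commute (K.tj i) (K.tj j) := by
  have key : ∀ x, Commute (K.tj l) (K.tj x) := fun x => by
    rcases eq_or_ne x l with rfl | hx
    · exact Commute.refl _
    · rw [K.tj_l]; exact K.tt x hx
  rcases eq_or_ne i l with rfl | hi
  · exact key j
  have := (key (Equiv.swap l i j)).map (MulAut.conj (K.ψ (sw (Ne.symm hi)))).toMonoidHom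
  simp only [MulEquiv.coe_toMonoidHom, MulAut.conj_apply, K.sw_conj, Equiv.swap_apply_left,
    Equiv.swap_apply_self] at this
  exact this

theorem tv_conj_of {i j x : Fin m} (h : i ≠ j) (hi : i ≠ x) (hj : j ≠ x) (b : F) :
    Commute (K.ψ (tv h b)) (K.tj x) := by
  have hx := (exists_isMono (F := F) hlk x 1).choose_spec
  have e := K.mono_conj (hx.fix_left (tv_mem_fix1 h hi hj b)) (by simp)
  rw [map_mul, _root_.mul_inv_rev, show ∀ a b t : G, a * b * t * (b⁻¹ * a⁻¹) = a * (b * t * b⁻¹) * a⁻¹ from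
    fun a b t => by group] at e
  exact mul_inv_eq_iff_eq_mul.1 e

theorem tsq_comm (x : Fin m) : Commute (K.t * K.t) (K.tj x) := by
  rw [← K.tj_l]; exact (K.tj_comm l x).mul_left (K.tj_comm l x)

/-- The product of the flips at a set of indices. -/
noncomputable def W (A : Finset (Fin m)) : G := A.noncommProd K.tj fun i _ j _ _ => K.tj_comm i j

theorem W_empty : K.W ∅ = 1 := Finset.noncommProd_empty _ _

theorem W_insert {j : Fin m} {A : Finset (Fin m)} (h : j ∉ A) : K.W (insert j A) = K.tj j * K.W A :=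
  Finset.noncommProd_insert_of_notMem _ _ _ _ h

theorem W_erase {j : Fin m} {A : Finset (Fin m)} (h : j ∈ A) : K.W A = K.tj j * K.W (A.erase j) := by
  conv_lhs => rw [← Finset.insert_erase h]
  exact K.W_insert (Finset.notMem_erase _ _)

theorem commute_W {A : Finset (Fin m)} {y : G} (h : ∀ x ∈ A, Commute y (K.tj x)) : Commute y (K.W A) :=
  Finset.noncommProd_commute _ _ _ _ h

theorem W_sw {i j : Fin m} (h : i ≠ j) (A : Finset (Fin m)) :
    K.ψ (sw h) * K.W A * (K.ψ (sw h))⁻¹ = K.W (A.image (Equiv.swap i j)) := by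
  induction A using Finset.induction_on with
  | empty => simp [W_empty]
  | insert x A hx ih =>
    rw [Finset.image_insert, K.W_insert hx, K.W_insert (fun e => hx (by
      obtain ⟨y, hy, e⟩ := Finset.mem_image.1 e
      rwa [← (Equiv.swap i j).injective e])), ← ih, ← K.sw_conj h]
    group

theorem MP {w : Fin m → F} (hw : w l = 0) : K.t * K.ψ (colE l w) * K.t⁻¹ ∈ K.P := by
  rw [show K.t * K.ψ (colE l w) * K.t⁻¹ =
    (K.t * K.t) * (K.t⁻¹ * K.ψ (colE l w) * K.t) * (K.t * K.t)⁻¹ by group]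
  exact K.R_mem (K.dR K.tsq _ (K.MR w hw))

theorem hyper_mem {a : Matrix.SpecialLinearGroup (Fin m) F} {c : F} (h : ∀ v, ap a v l = c * v l) :
    K.t * K.ψ a * K.t⁻¹ ∈ K.P := by
  obtain ⟨u, w, hw, g, hg, rfl⟩ := hyper_decomp hlk h
  rw [map_mul, map_mul, show K.t * (K.ψ (hd hlk u) * K.ψ (colE l w) * K.ψ g) * K.t⁻¹ =
    (K.t * K.ψ (hd hlk u) * K.t⁻¹) * (K.t * K.ψ (colE l w) * K.t⁻¹) * (K.t * K.ψ g * K.t⁻¹) by group,
    (K.tFix g hg).eq, mul_inv_cancel_right]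
  exact mul_mem (mul_mem (K.th u) (K.MP hw)) (K.ψ_mem g)

/-- A root element in the column `j` conjugated by the flip at `j`. -/
theorem tv_flip {i j : Fin m} (h : i ≠ j) (b : F) :
    (K.tj j)⁻¹ * K.ψ (tv h b) * K.tj j ∈ K.R ∧ K.tj j * K.ψ (tv h b) * (K.tj j)⁻¹ ∈ K.P := by
  set g := (exists_isMono (F := F) hlk j 1).choose
  obtain ⟨g1, g2⟩ : IsMono l g j 1 := (exists_isMono (F := F) hlk j 1).choose_spec
  set w := b • ap g⁻¹ (Pi.single i 1)
  have hw : w l = 0 := by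
    have := g2 (ap g⁻¹ (Pi.single i (1 : F)))
    rw [ap_ap_inv, Pi.single_eq_of_ne h.symm, Units.val_one, one_mul] at this
    show b • ap g⁻¹ (Pi.single i 1) l = 0
    rw [← this, smul_zero]
  have e : tv h b = g * colE l w * g⁻¹ := by
    rw [eq_mul_inv_iff_mul_eq]
    refine ext_ap fun v => ?_
    rw [ap_mul, ap_mul, ap_tv, ap_colE, killAt_of hw, ap_add, ap_smul, ap_smul, ap_ap_inv, g2, Units.val_one,
      one_mul, smul_smul, ← Pi.single_smul', smul_eq_mul, mul_one, mul_comm b]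
  constructor
  · rw [tj, tjF, e, map_mul, map_mul, map_inv, show ∀ a x t : G, (a * t * a⁻¹)⁻¹ * (a * x * a⁻¹) * (a * t * a⁻¹) =
      a * (t⁻¹ * x * t) * a⁻¹ from fun a x t => by group]
    exact K.Rψ _ _ (K.MR w hw)
  · rw [tj, tjF, e, map_mul, map_mul, map_inv, show ∀ a x t : G, (a * t * a⁻¹) * (a * x * a⁻¹) * (a * t * a⁻¹)⁻¹ =
      a * (t * x * t⁻¹) * a⁻¹ from fun a x t => by group]
    exact mul_mem (mul_mem (K.ψ_mem _) (K.MP hw)) (inv_mem (K.ψ_mem _))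

theorem flip_swap {i j : Fin m} (h : i ≠ j) (b : F) :
    (flipEl hF Φ j)⁻¹ * psi0 hF Φ (tv h b) * flipEl hF Φ j =
      flipEl hF Φ i * psi0 hF Φ (tv h.symm (-(b ^ q))) * (flipEl hF Φ i)⁻¹ := by
  have H := hermForm_isHerm hF n
  obtain ⟨-, fj, -, fjo⟩ := suAct_flipEl hF Φ j
  obtain ⟨-, fi, -, fio⟩ := suAct_flipEl hF Φ i
  have hs : (skew hF : F) ≠ 0 := skew_ne_zero hF
  have hsq : (skew hF : F) ^ q = -skew hF := skew_pow hF
  have h1 : suAct (flipEl hF Φ j)⁻¹ (Φ.e i) = Φ.e i :=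
    suAct_inj _ (by rw [suAct_suAct_inv, (fjo i h).1])
  have h2 : suAct (flipEl hF Φ j)⁻¹ (b ^ q • Φ.f j) = (b ^ q * -(skew hF)) • Φ.e j := by
    refine suAct_inj (flipEl hF Φ j) ?_
    rw [suAct_suAct_inv, suAct_smul, (suAct_flipEl hF Φ j).1, smul_smul]
    congr 1
    field_simp
  rw [psi0_tv, psi0_tv, xe, xe]
  have eL := eich_conj hF (ok_swap hF Φ h (b ^ q)) (flipEl hF Φ j)⁻¹
  rw [inv_inv] at eL
  rw [eL, eich_conj hF]
  refine suAct_ext fun x => ?_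
  rw [suAct_eich, suAct_eich, h1, h2, (fio j h.symm).1, suAct_smul, fi, smul_smul]
  simp only [H.smul_right, neg_pow_q hF, mul_pow, pow_q_pow_q hF, hsq, zero_mul, add_zero, neg_neg]
  module

theorem GA_conj {A : Finset (Fin m)} {b : Matrix.SpecialLinearGroup (Fin m) F} (hb : b ∈ GA A) :
    (K.W A)⁻¹ * K.ψ b * K.W A ∈ K.P := by
  refine (Subgroup.closure_le ((K.P.comap (MulAut.conj (K.W A)⁻¹).toMonoidHom).comap K.ψ)).2 ?_ hb |>
    fun h => by simpa using h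
  rintro _ ⟨i, j, h, c, hA, rfl⟩
  show (K.W A)⁻¹ * K.ψ (tv h c) * (K.W A)⁻¹⁻¹ ∈ K.P
  rw [inv_inv]
  by_cases hj : j ∈ A
  swap
  · have hi : i ∉ A := fun e => hj (hA e)
    rw [mul_assoc, (K.commute_W fun x hx => K.tv_conj_of h (fun e => hi (by rwa [e])) (fun e => hj (by rwa [e])) c).eq,
      inv_mul_cancel_left]
    exact K.ψ_mem _
  obtain ⟨hX, -⟩ := K.tv_flip h c
  set X := (K.tj j)⁻¹ * K.ψ (tv h c) * K.tj j with hXdef
  rw [K.W_erase hj, show ∀ a w x : G, (a * w)⁻¹ * x * (a * w) = w⁻¹ * (a⁻¹ * x * a) * w from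
    fun a w x => by group, ← hXdef]
  by_cases hi : i ∈ A
  swap
  · have hc : Commute X (K.W (A.erase j)) := K.commute_W fun x hx => by
      obtain ⟨hxj, hxA⟩ := Finset.mem_erase.1 hx
      exact (((K.tj_comm j x).inv_left.mul_left (K.tv_conj_of h (fun e => hi (by rwa [e])) (Ne.symm hxj) c)).mul_left
        (K.tj_comm j x))
    rw [mul_assoc, hc.eq, inv_mul_cancel_left]
    exact K.R_mem hX
  obtain ⟨-, hY⟩ := K.tv_flip h.symm (-(c ^ q))
  have e : X = K.tj i * K.ψ (tv h.symm (-(c ^ q))) * (K.tj i)⁻¹ := K.eq_of_π (K.R_mem hX) hY (by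
    rw [hXdef]; simp only [map_mul, map_inv, K.πtj, K.πψ, flip_swap h c])
  have hie : i ∈ A.erase j := Finset.mem_erase.2 ⟨h, hi⟩
  rw [K.W_erase hie, e, show ∀ a w x : G, (a * w)⁻¹ * (a * x * a⁻¹) * (a * w) = w⁻¹ * x * w from
    fun a w x => by group]
  rw [mul_assoc, (K.commute_W fun x hx => ?_).eq, inv_mul_cancel_left]
  · exact K.ψ_mem _
  · obtain ⟨hxi, hx'⟩ := Finset.mem_erase.1 hx
    exact K.tv_conj_of h.symm (Ne.symm (Finset.mem_erase.1 hx').1) (Ne.symm hxi) _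

theorem W_moves (A : Finset (Fin m)) (x : Fin m) :
    (x ∈ A → ∃ c : F, c ≠ 0 ∧ suAct (K.π (K.W A)) (Φ.e x) = c • Φ.f x) ∧
      (x ∉ A → suAct (K.π (K.W A)) (Φ.e x) = Φ.e x) := by
  induction A using Finset.induction_on with
  | empty => simp [W_empty]
  | insert j A hj ih =>
    rw [K.W_insert hj, map_mul, suAct_mul, K.πtj]
    obtain ⟨f1, -, -, f4⟩ := suAct_flipEl hF Φ j
    constructor
    · intro hx
      rcases Finset.mem_insert.1 hx with rfl | hx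
      · exact ⟨-(skew hF)⁻¹, neg_ne_zero.2 (inv_ne_zero (skew_ne_zero hF)), by rw [ih.2 hj, f1]⟩
      · obtain ⟨c, hc, e⟩ := ih.1 hx
        exact ⟨c, hc, by rw [e, suAct_smul, (f4 x (fun e => hj (by rwa [← e]))).2]⟩
    · intro hx
      rw [Finset.mem_insert, not_or] at hx
      rw [ih.2 hx.2, (f4 x hx.1).1]

theorem hout (A : Finset (Fin m)) (hA : A ≠ ∅) : K.π (K.W A) ∉ K.P.map K.π := by
  rintro ⟨p, hp, e⟩
  obtain ⟨x, hx⟩ := Finset.nonempty_iff_ne_empty.2 hA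
  obtain ⟨c, hc, ec⟩ := (K.W_moves A x).1 hx
  obtain ⟨i, a, r, hr, rfl⟩ := K.mem_P hp
  rw [← e, K.π_P hr] at ec
  have := congrArg (fun y => Cfsg.hermForm n F q y (Φ.e x)) ec
  rw [h_ve hF, (hermForm_isHerm hF n).smul_left, Φ.fe hF, if_pos rfl, mul_one] at this
  exact hc this.symm

/-- The cells. -/
abbrev Cell : Set G := cellUnion K.P K.W

theorem cell_W (A : Finset (Fin m)) : K.W A ∈ K.Cell := ⟨A, 1, one_mem _, 1, one_mem _, by group⟩

theorem key_out {B : Finset (Fin m)} (hB : l ∉ B) {r : G} (hr : r ∈ K.R) : K.t * r * K.W B ∈ K.Cell := by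
  obtain ⟨x, -, z, hz, rfl, hx⟩ := K.tR r hr
  have hc : Commute z (K.W B) := K.commute_W fun y hy => K.Zc z hz y fun e => hB (by rwa [← e])
  rw [show K.t * (x * z) * K.W B = (K.t * x * K.t⁻¹) * (K.t * (z * K.W B)) by group, hc.eq, ← mul_assoc K.t,
    show K.t * K.W B = K.W (insert l B) by rw [K.W_insert hB, K.tj_l]]
  exact cellUnion_left hx (cellUnion_right (K.R_mem (K.ZR hz)) (K.cell_W _))

theorem key_in {B : Finset (Fin m)} (hB : l ∉ B) {r : G} (hr : r ∈ K.R) :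
    K.t * r * (K.t * K.W B) ∈ K.Cell := by
  obtain ⟨x, -, z, hz, rfl, hx⟩ := K.tR r hr
  have hsq : K.t * K.t ∈ K.P := K.d_mem K.tsq
  rw [show K.t * (x * z) * (K.t * K.W B) = (K.t * x * K.t⁻¹) * ((K.t * z * K.t⁻¹) * (K.t * K.t * K.W B)) by group]
  refine cellUnion_left hx ?_
  rcases K.Zt z hz with h | ⟨y, hy, y', hy', e⟩
  · exact cellUnion_left h (cellUnion_left hsq (K.cell_W B))
  rw [e]
  have hc : Commute ((K.t * K.t)⁻¹ * y' * (K.t * K.t)) (K.W B) := K.commute_W fun u hu =>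
    ((K.tsq_comm u).inv_left.mul_left (K.Zc y' hy' u fun e => hB (by rwa [← e]))).mul_left (K.tsq_comm u)
  rw [show y * K.t * y' * (K.t * K.t * K.W B) =
    y * (K.t * (K.t * K.t) * (((K.t * K.t)⁻¹ * y' * (K.t * K.t)) * K.W B)) by group, hc.eq,
    show ∀ t s w v : G, t * s * (w * v) = (t * s * t⁻¹) * ((t * w) * v) from fun t s w v => by group,
    show K.t * K.W B = K.W (insert l B) by rw [K.W_insert hB, K.tj_l],
    show K.t * (K.t * K.t) * K.t⁻¹ = K.t * K.t by group]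
  exact cellUnion_left hy (cellUnion_left hsq (cellUnion_right
    (mul_mem (mul_mem (inv_mem hsq) (K.R_mem (K.ZR hy'))) hsq) (K.cell_W _)))

theorem main {p : G} (hp : p ∈ K.P) {A : Finset (Fin m)} (hl : l ∈ A ∨ A = ∅) : K.t * p * K.W A ∈ K.Cell := by
  obtain ⟨i, a, r, hr, rfl⟩ := K.mem_P hp
  have hδ : K.d ^ i ∈ Subgroup.zpowers K.d := pow_mem (Subgroup.mem_zpowers _) i
  have htδ : K.t * K.d ^ i * K.t⁻¹ ∈ K.P := by
    rw [show K.t * K.d ^ i * K.t⁻¹ = (K.t * K.d * K.t⁻¹) ^ i by rw [conj_pow]]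
    exact pow_mem (K.d_mem K.td) i
  rw [show K.t * (K.d ^ i * K.ψ a * r) * K.W A = (K.t * K.d ^ i * K.t⁻¹) * (K.t * K.ψ a * r * K.W A) by group]
  refine cellUnion_left htδ ?_
  -- a general right factor in `GA A`
  have core : ∀ a1 : Matrix.SpecialLinearGroup (Fin m) F, (∃ c : F, ∀ v, ap a1 v l = c * v l) →
      ∀ s b : Matrix.SpecialLinearGroup (Fin m) F, b ∈ GA A → a = a1 * s * b →
      (∀ r' ∈ K.R, K.t * r' * K.ψ s * K.W A ∈ K.Cell) → K.t * K.ψ a * r * K.W A ∈ K.Cell := by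
    rintro a1 ⟨c, hc⟩ s b hb rfl hrest
    have hr' : K.ψ s * (K.ψ b * r * (K.ψ b)⁻¹) * (K.ψ s)⁻¹ ∈ K.R := K.Rψ _ _ (K.Rψ _ _ hr)
    have hrw : K.t * K.ψ (a1 * s * b) * r * K.W A = (K.t * K.ψ a1 * K.t⁻¹) *
        (K.t * (K.ψ s * (K.ψ b * r * (K.ψ b)⁻¹) * (K.ψ s)⁻¹) * K.ψ s * K.W A * ((K.W A)⁻¹ * K.ψ b * K.W A)) := by
      rw [map_mul, map_mul]; group
    rw [hrw]
    exact cellUnion_left (K.hyper_mem hc) (cellUnion_right (K.GA_conj hb) (hrest _ hr'))
  rcases hl with hl | rfl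
  · rcases exists_split a l A hl with ⟨a1, h1, b, hb, e⟩ | h
    · refine core a1 h1 1 b hb (by rw [mul_one, e]) fun r' hr' => ?_
      rw [map_one, mul_one, K.W_erase hl, K.tj_l]
      exact K.key_in (Finset.notMem_erase _ _) hr'
    · by_cases hfull : ∃ j₀, j₀ ∉ A
      · obtain ⟨j₀, hj⟩ := hfull
        obtain ⟨a1, h1, b, hb, e⟩ := h j₀ hj
        have hlj : l ≠ j₀ := fun e => hj (e ▸ hl)
        refine core a1 h1 _ b hb e fun r' hr' => ?_
        rw [show K.t * r' * K.ψ (sw hlj) * K.W A =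
          K.t * r' * (K.ψ (sw hlj) * K.W A * (K.ψ (sw hlj))⁻¹) * K.ψ (sw hlj) by group, K.W_sw]
        refine cellUnion_right (K.ψ_mem _) (K.key_out ?_ hr')
        intro hmem
        obtain ⟨y, hy, e⟩ := Finset.mem_image.1 hmem
        rw [Equiv.swap_apply_eq_iff, Equiv.swap_apply_left] at e
        exact hj (e ▸ hy)
      · push Not at hfull
        obtain ⟨g, hg, i', hgi⟩ := exists_clear a l A
        refine core 1 ⟨1, fun v => by rw [ap_one, one_mul]⟩ 1 a ?_ (by simp) fun r' hr' => ?_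
        · have : (GA A : Subgroup (Matrix.SpecialLinearGroup (Fin m) F)) = ⊤ :=
            OrthPresent.sl_le fun x y hxy b => tv_mem_GA hxy (fun _ => hfull y) b
          rw [this]; trivial
        · rw [map_one, mul_one, K.W_erase hl, K.tj_l]
          exact K.key_in (Finset.notMem_erase _ _) hr'
  · refine core 1 ⟨1, fun v => by rw [ap_one, one_mul]⟩ 1 a ?_ (by simp) fun r' hr' => ?_
    · have : (GA (∅ : Finset (Fin m)) : Subgroup (Matrix.SpecialLinearGroup (Fin m) F)) = ⊤ :=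
        OrthPresent.sl_le fun x y hxy b => tv_mem_GA hxy (fun h => absurd h (Finset.notMem_empty _)) b
      rw [this]; trivial
    · rw [map_one, mul_one]
      exact K.key_out (Finset.notMem_empty _) hr'

theorem step {p : G} (hp : p ∈ K.P) (A : Finset (Fin m)) : K.t * p * K.W A ∈ K.Cell := by
  by_cases hl : l ∈ A
  · exact K.main hp (Or.inl hl)
  rcases A.eq_empty_or_nonempty with rfl | ⟨j, hj⟩
  · exact K.main hp (Or.inr rfl)
  have hlj : l ≠ j := fun e => hl (by rwa [e])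
  have h := K.main (mul_mem hp (inv_mem (K.ψ_mem (sw hlj)))) (A := A.image (Equiv.swap l j))
    (Or.inl (Finset.mem_image.2 ⟨j, hj, Equiv.swap_apply_right _ _⟩))
  have h' := cellUnion_right (K.ψ_mem (sw hlj)) h
  rwa [← K.W_sw hlj, show K.t * (p * (K.ψ (sw hlj))⁻¹) * (K.ψ (sw hlj) * K.W A * (K.ψ (sw hlj))⁻¹) *
    K.ψ (sw hlj) = K.t * p * K.W A by group] at h'

/-- The homomorphism is injective. -/
theorem inj (K : Core hF Φ hlk G) : Function.Injective K.π := by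
  refine injective_of_cells K.π K.P (fun x hx h => K.inj_P hx h) K.W ∅ K.t K.W_empty K.hout ?_
    (K.d_mem K.tsq) fun p hp A => K.step hp A
  rw [eq_top_iff, ← K.gen]
  refine Subgroup.closure_mono ?_
  rintro x ((⟨a, rfl⟩ | hx) | hx)
  · exact Or.inl (K.ψ_mem a)
  · exact Or.inl (K.R_mem hx)
  · exact Or.inr hx

end Core

end Cfsg.Agent.SUNPresent
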