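/-
The abelian group generated by the conjugates of one root element.

* `cvF`, `Sys`: the conjugates and the relations between them.
* `Sys.comm`, `Sys.om`, `Sys.th`: the group is abelian, and its biadditive and quadratic parts.
* `Sys.R_inj`, `Sys.exists_split_R`: the map to SU is injective on it; the part at `l` splits off.
-/
import Cfsg.Agent.Lib.SUNPresent.Model
import Cfsg.Agent.Lib.SUPresent.Field

set_option autoImplicit false
set_option linter.unusedSectionVars false
set_option linter.unusedSimpArgs false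

open Matrix

namespace Cfsg.Agent.SUNPresent

open Cfsg.Agent.Unitary Cfsg.Agent.UFus Cfsg.Agent.UnitaryBN

local notation "tv" => Matrix.SpecialLinearGroup.transvection

open scoped Classical in
/-- The conjugate of `c` carrying the vector `e_l` to `v`. -/
noncomputable def cvF {F : Type*} [Field F] {m : ℕ} {G : Type*} [Group G] {l k : Fin m} (hlk : l ≠ k)
    (ψ : Matrix.SpecialLinearGroup (Fin m) F →* G) (c : G) (v : Fin m → F) : G :=
  if hv : v = 0 then 1 else ψ (exists_first hlk hv).choose * c * (ψ (exists_first hlk hv).choose)⁻¹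

/-- The conjugate of the column transvection by `t`. -/
def MF {F : Type*} [Field F] {m : ℕ} {G : Type*} [Group G] (l : Fin m)
    (ψ : Matrix.SpecialLinearGroup (Fin m) F →* G) (t : G) (w : Fin m → F) : G :=
  t⁻¹ * ψ (colE l w) * t

/-- The relations on the root element and the flip. -/
structure Sys {F : Type*} [Field F] [Fintype F] {q n m : ℕ} (hF : Fintype.card F = q ^ 2) (Φ : Frame n F q m)
    {l k : Fin m} (hlk : l ≠ k) (G : Type*) [Group G] where
  ψ : Matrix.SpecialLinearGroup (Fin m) F →* G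
  t : G
  c : G
  π : G →* Cfsg.SU n F q
  πψ : ∀ a, π (ψ a) = psi0 hF Φ a
  πt : π t = t0 hF Φ l
  πc : π c = cM hF Φ (Pi.single l 1)
  tFix : ∀ g ∈ Fix1 l, Commute t (ψ g)
  cStab : ∀ g, ap g (Pi.single l 1) = Pi.single l 1 → Commute (ψ g) c
  cZeta : ∀ z : Fˣ, (z : F) ^ (q + 1) = 1 → Commute (ψ (hd hlk z)) c
  cComm : ∀ w, w l = 0 → Commute c (cvF hlk ψ c w)
  pair : ∀ w, w l = 0 → cvF hlk ψ c (Pi.single l 1 + w) = c * MF l ψ t w * cvF hlk ψ c w
  tc : ∀ w, w l = 0 → Commute t (cvF hlk ψ c w)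

theorem exists_other {m : ℕ} {l k : Fin m} (hlk : l ≠ k) (i : Fin m) : ∃ p : Fin m, i ≠ p := by
  rcases eq_or_ne i l with rfl | h
  · exact ⟨k, hlk⟩
  · exact ⟨l, h⟩

namespace Sys

variable {F : Type*} [Field F] [Fintype F] {q n m : ℕ} {hF : Fintype.card F = q ^ 2} {Φ : Frame n F q m}
  {l k : Fin m} {hlk : l ≠ k} {G : Type*} [Group G] (S : Sys hF Φ hlk G)

/-- The conjugates of `c`. -/
noncomputable def cv (v : Fin m → F) : G := cvF hlk S.ψ S.c v

/-- The conjugate of a column transvection. -/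
def M (w : Fin m → F) : G := MF l S.ψ S.t w

theorem cv_zero : S.cv 0 = 1 := by simp [cv, cvF]

theorem cv_eq {g : Matrix.SpecialLinearGroup (Fin m) F} {v : Fin m → F} (hg : ap g (Pi.single l 1) = v) :
    S.cv v = S.ψ g * S.c * (S.ψ g)⁻¹ := by
  have hv : v ≠ 0 := hg ▸ ap_ne_zero g (fun e => one_ne_zero (α := F) (by simpa using congrFun e l))
  rw [cv, cvF, dif_neg hv]
  set g' := (exists_first hlk hv).choose
  have hg' : ap g' (Pi.single l 1) = v := (exists_first hlk hv).choose_spec
  have h1 : Commute (S.ψ (g⁻¹ * g')) S.c := S.cStab _ (by rw [ap_mul, hg', ← hg, ap_inv_ap])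
  have e : S.ψ g' = S.ψ g * S.ψ (g⁻¹ * g') := by rw [← map_mul, mul_inv_cancel_left]
  rw [e, _root_.mul_inv_rev, mul_assoc (S.ψ g), h1.eq]
  group

theorem cv_l : S.cv (Pi.single l 1) = S.c := by
  rw [S.cv_eq (g := 1) (ap_one _), map_one]; group

theorem cv_conj (g : Matrix.SpecialLinearGroup (Fin m) F) (v : Fin m → F) :
    S.ψ g * S.cv v * (S.ψ g)⁻¹ = S.cv (ap g v) := by
  rcases eq_or_ne v 0 with rfl | hv
  · rw [ap_zero, cv_zero, mul_one, mul_inv_cancel]
  obtain ⟨g', hg'⟩ := exists_first hlk hv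
  rw [S.cv_eq hg', S.cv_eq (g := g * g') (by rw [ap_mul, hg']), map_mul]
  group

theorem cv_zeta {z : F} (hz : z ^ (q + 1) = 1) (v : Fin m → F) : S.cv (z • v) = S.cv v := by
  rcases eq_or_ne v 0 with rfl | hv
  · rw [smul_zero]
  obtain ⟨g, hg⟩ := exists_first hlk hv
  have hz0 : z ≠ 0 := fun e => by rw [e, zero_pow (Nat.succ_ne_zero q)] at hz; exact zero_ne_one hz
  rw [S.cv_eq hg, S.cv_eq (g := g * hd hlk (Units.mk0 z hz0)) (by
      rw [ap_mul, ap_hd_single, if_pos rfl, Units.val_mk0, mul_one, single_smul_one l, ap_smul, hg]),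
    map_mul, _root_.mul_inv_rev, mul_assoc (S.ψ g), (S.cZeta (Units.mk0 z hz0) hz).eq]
  group

theorem π_cv (v : Fin m → F) : S.π (S.cv v) = cM hF Φ v := by
  rcases eq_or_ne v 0 with rfl | hv
  · rw [cv_zero, map_one, cM_zero]
  obtain ⟨g, hg⟩ := exists_first hlk hv
  rw [S.cv_eq hg, map_mul, map_mul, map_inv, S.πψ, S.πc, psi0_cM, hg]

theorem M_add (w w' : Fin m → F) : S.M (w + w') = S.M w * S.M w' := by
  rw [M, M, M, MF, MF, MF, colE_add, map_mul]; group

theorem M_commute_cv {w u : Fin m → F} (hu : u l = 0) : Commute (S.M w) (S.cv u) := by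
  have h1 : Commute S.t (S.cv u) := S.tc u hu
  have h2 : Commute (S.ψ (colE l w)) (S.cv u) := by
    have := S.cv_conj (colE l w) u
    rw [ap_colE_of hu] at this
    exact mul_inv_eq_iff_eq_mul.1 this
  exact (h1.inv_left.mul_left h2).mul_left h1

theorem pair' {w : Fin m → F} (hw : w l = 0) : S.cv (Pi.single l 1 + w) = S.c * S.M w * S.cv w := S.pair w hw

theorem commute_c_off {v : Fin m → F} {i : Fin m} (hi : i ≠ l) (hvi : v i ≠ 0) : Commute S.c (S.cv v) := by
  set w := v - Pi.single l (v l) with hw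
  have hwl : w l = 0 := by simp [hw]
  have hwi : w i = v i := by simp [hw, hi]
  set g := rowE l (Pi.single i (v l / w i))
  have hgl : ap g (Pi.single l 1) = Pi.single l 1 := by
    rw [ap_rowE, killAt_of (Pi.single_eq_of_ne (Ne.symm hi) _), single_dotProduct, Pi.single_eq_of_ne hi, mul_zero,
      Pi.single_zero, add_zero]
  have hgw : ap g w = v := by
    rw [ap_rowE, killAt_of (Pi.single_eq_of_ne (Ne.symm hi) _), single_dotProduct,
      div_mul_cancel₀ _ (hwi ▸ hvi), hw, sub_add_cancel]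
  have hc : S.ψ g * S.c * (S.ψ g)⁻¹ = S.c := by rw [← S.cv_l, S.cv_conj, hgl, S.cv_l]
  rw [← hgw, ← S.cv_conj g w, ← hc]
  exact (S.cComm w hwl).map (MulAut.conj (S.ψ g)).toMonoidHom

theorem commute_c (v : Fin m → F) : Commute S.c (S.cv v) := by
  by_cases h : ∃ i, i ≠ l ∧ v i ≠ 0
  · obtain ⟨i, hi, hvi⟩ := h; exact S.commute_c_off hi hvi
  push Not at h
  -- reduce to the line at `k`
  set β := v l
  have hv : v = Pi.single l β := funext fun i => by
    by_cases hi : i = l
    · subst hi; simp [β]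
    · rw [Pi.single_eq_of_ne hi, h i hi]
  have hsw : ∀ a : F, ap (sw hlk.symm : Matrix.SpecialLinearGroup (Fin m) F) (Pi.single l a) = Pi.single k a := ap_sw_single_right hlk.symm
  have key : Commute (S.cv (Pi.single k 1)) (S.cv (Pi.single k β)) := by
    rcases eq_or_ne β 0 with hβ | hβ
    · rw [hβ, Pi.single_zero, cv_zero]; exact Commute.one_right _
    set w : Fin m → F := Pi.single k β
    have hwl : w l = 0 := Pi.single_eq_of_ne hlk _
    have h1 : Commute S.c (S.cv (Pi.single k 1)) := S.cComm _ (Pi.single_eq_of_ne hlk _)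
    have h2 : Commute (S.M w) (S.cv (Pi.single k 1)) := S.M_commute_cv (Pi.single_eq_of_ne hlk _)
    have h3 : Commute (S.cv (Pi.single l 1 + w)) (S.cv (Pi.single k 1)) := by
      have hg : ap (sw hlk.symm : Matrix.SpecialLinearGroup (Fin m) F) (Pi.single l 1) = Pi.single k 1 := hsw 1
      set x := ap (sw hlk.symm : Matrix.SpecialLinearGroup (Fin m) F)⁻¹ (Pi.single l 1 + w) with hx
      have hxk : x k ≠ 0 := by
        have e := congrFun (ap_ap_inv (sw hlk.symm : Matrix.SpecialLinearGroup (Fin m) F) (Pi.single l 1 + w)) l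
        rw [ap_sw, if_neg hlk, if_pos rfl, ← hx, Pi.add_apply, Pi.single_eq_same, hwl, add_zero] at e
        intro e'; rw [e', neg_zero] at e; exact zero_ne_one e
      have := ((S.commute_c_off hlk.symm hxk).map (MulAut.conj (S.ψ (sw hlk.symm))).toMonoidHom).symm
      simp only [MulEquiv.coe_toMonoidHom, MulAut.conj_apply] at this
      rw [S.cv_conj, hx, ap_ap_inv, ← S.cv_l, S.cv_conj, hg] at this
      exact this
    have h4 : S.cv w = (S.c * S.M w)⁻¹ * S.cv (Pi.single l 1 + w) := by
      rw [S.pair' hwl, inv_mul_cancel_left]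
    rw [h4]
    exact ((h1.mul_left h2).inv_left.mul_left h3).symm
  have h5 := key.map (MulAut.conj (S.ψ (sw hlk.symm))⁻¹).toMonoidHom
  simp only [MulEquiv.coe_toMonoidHom, map_inv, MulAut.inv_def, MulAut.conj_symm_apply] at h5
  have hback : ∀ a : F, (S.ψ (sw hlk.symm))⁻¹ * S.cv (Pi.single k a) * S.ψ (sw hlk.symm) = S.cv (Pi.single l a) := by
    intro a
    rw [← hsw a, ← S.cv_conj]; group
  rw [hback, hback, S.cv_l] at h5
  rw [hv]; exact h5

theorem comm (v w : Fin m → F) : Commute (S.cv v) (S.cv w) := by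
  rcases eq_or_ne v 0 with rfl | hv
  · rw [cv_zero]; exact Commute.one_left _
  obtain ⟨g, hg⟩ := exists_first hlk hv
  rw [← hg, ← S.cv_conj g, S.cv_l, ← ap_ap_inv g w, ← S.cv_conj g (ap g⁻¹ w)]
  exact (S.commute_c _).map (MulAut.conj (S.ψ g)).toMonoidHom

/-- The group of the conjugates. -/
def R : Subgroup G := Subgroup.closure (Set.range S.cv)

theorem cv_mem (v : Fin m → F) : S.cv v ∈ S.R := Subgroup.subset_closure (Set.mem_range_self v)

theorem R_comm : ∀ x ∈ S.R, ∀ y ∈ S.R, x * y = y * x := by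
  intro x hx y hy
  induction hx, hy using Subgroup.closure_induction₂ with
  | mem a b ha hb => obtain ⟨v, rfl⟩ := ha; obtain ⟨w, rfl⟩ := hb; exact (S.comm v w).eq
  | one_left a _ => simp
  | one_right a _ => simp
  | mul_left a b c _ _ _ h1 h2 => exact (Commute.mul_left h1 h2).eq
  | mul_right a b c _ _ _ h1 h2 => exact (Commute.mul_right h1 h2).eq
  | inv_left a b _ _ h => exact (Commute.inv_left h).eq
  | inv_right a b _ _ h => exact (Commute.inv_right h).eq

theorem R_conj (g : Matrix.SpecialLinearGroup (Fin m) F) {r : G} (hr : r ∈ S.R) :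
    S.ψ g * r * (S.ψ g)⁻¹ ∈ S.R :=
  (Subgroup.closure_le (S.R.comap (MulAut.conj (S.ψ g)).toMonoidHom)).2
    (by rintro _ ⟨v, rfl⟩; show S.ψ g * S.cv v * (S.ψ g)⁻¹ ∈ S.R; rw [S.cv_conj]; exact S.cv_mem _) hr

theorem M_mem {w : Fin m → F} (hw : w l = 0) : S.M w ∈ S.R := by
  have e : S.M w = (S.cv (Pi.single l 1))⁻¹ * S.cv (Pi.single l 1 + w) * (S.cv w)⁻¹ := by
    rw [S.pair' hw, cv_l]; group
  rw [e]
  exact mul_mem (mul_mem (inv_mem (S.cv_mem _)) (S.cv_mem _)) (inv_mem (S.cv_mem _))

/-- The group of the conjugates written additively. -/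
abbrev A (S : Sys hF Φ hlk G) : Type _ := Additive S.R

noncomputable instance instA : AddCommGroup S.A :=
  { (inferInstance : AddGroup (Additive S.R)) with
    add_comm := fun a b => congrArg Additive.ofMul
      (Subtype.ext (S.R_comm (Additive.toMul a).1 (Additive.toMul a).2 (Additive.toMul b).1 (Additive.toMul b).2)) }

/-- The value in the group. -/
def val (a : S.A) : G := (Additive.toMul a : S.R).1

theorem val_add (a b : S.A) : S.val (a + b) = S.val a * S.val b := rfl
theorem val_neg (a : S.A) : S.val (-a) = (S.val a)⁻¹ := rfl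
theorem val_zero : S.val (0 : S.A) = 1 := rfl
theorem val_inj {a b : S.A} (h : S.val a = S.val b) : a = b := Additive.toMul.injective (Subtype.ext h)

/-- The conjugates, additively. -/
noncomputable def C (v : Fin m → F) : S.A := Additive.ofMul ⟨S.cv v, S.cv_mem v⟩

theorem val_C (v : Fin m → F) : S.val (S.C v) = S.cv v := rfl

theorem C_zero : S.C 0 = 0 := S.val_inj (by rw [val_C, cv_zero, val_zero])

theorem C_zeta {z : F} (hz : z ^ (q + 1) = 1) (v : Fin m → F) : S.C (z • v) = S.C v :=
  S.val_inj (by rw [val_C, val_C, S.cv_zeta hz])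

/-- The action of SL_m. -/
noncomputable def act (g : Matrix.SpecialLinearGroup (Fin m) F) : S.A →+ S.A :=
  AddMonoidHom.mk' (fun a => Additive.ofMul ⟨S.ψ g * S.val a * (S.ψ g)⁻¹, S.R_conj g (Additive.toMul a).2⟩)
    fun a b => S.val_inj (by
      show S.ψ g * S.val (a + b) * (S.ψ g)⁻¹ = S.ψ g * S.val a * (S.ψ g)⁻¹ * (S.ψ g * S.val b * (S.ψ g)⁻¹)
      rw [val_add]; group)

theorem act_C (g : Matrix.SpecialLinearGroup (Fin m) F) (v : Fin m → F) : S.act g (S.C v) = S.C (ap g v) :=
  S.val_inj (S.cv_conj g v)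

/-- The defect of additivity. -/
noncomputable def B (v w : Fin m → F) : S.A := S.C (v + w) - S.C v - S.C w

theorem B_comm (v w : Fin m → F) : S.B v w = S.B w v := by rw [B, B, add_comm v w]; abel

theorem act_B (g : Matrix.SpecialLinearGroup (Fin m) F) (v w : Fin m → F) :
    S.act g (S.B v w) = S.B (ap g v) (ap g w) := by
  rw [B, B, map_sub, map_sub, act_C, act_C, act_C, ap_add]

theorem B_zero_left (w : Fin m → F) : S.B 0 w = 0 := by rw [B, zero_add, C_zero]; abel

theorem B_zeta {z : F} (hz : z ^ (q + 1) = 1) (v w : Fin m → F) : S.B (z • v) (z • w) = S.B v w := by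
  rw [B, B, ← smul_add, S.C_zeta hz, S.C_zeta hz, S.C_zeta hz]

theorem B_eq_M {w : Fin m → F} (hw : w l = 0) :
    S.B (Pi.single l 1) w = Additive.ofMul ⟨S.M w, S.M_mem hw⟩ := by
  have e : S.C (Pi.single l 1 + w) =
      S.C (Pi.single l 1) + Additive.ofMul (⟨S.M w, S.M_mem hw⟩ : S.R) + S.C w :=
    S.val_inj (by rw [val_add, val_add, val_C, val_C, val_C, S.pair' hw, cv_l]; rfl)
  rw [B, e]; abel

theorem B_l_add {w w' : Fin m → F} (hw : w l = 0) (hw' : w' l = 0) :
    S.B (Pi.single l 1) (w + w') = S.B (Pi.single l 1) w + S.B (Pi.single l 1) w' := by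
  rw [S.B_eq_M hw, S.B_eq_M hw', S.B_eq_M (show (w + w') l = 0 by simp [hw, hw'])]
  exact S.val_inj (S.M_add w w')

theorem B_add {i : Fin m} (a : F) {x x' : Fin m → F} (hx : x i = 0) (hx' : x' i = 0) :
    S.B (Pi.single i a) (x + x') = S.B (Pi.single i a) x + S.B (Pi.single i a) x' := by
  rcases eq_or_ne a 0 with rfl | ha
  · simp [B_zero_left]
  obtain ⟨g, g1, g2⟩ := exists_mono (F := F) hlk i (Units.mk0 a ha)
  have hz : ∀ y : Fin m → F, y i = 0 → ap g⁻¹ y l = 0 := fun y hy => by
    have := g2 (ap g⁻¹ y)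
    rw [ap_ap_inv, hy, Units.val_mk0] at this
    exact (mul_eq_zero.1 this.symm).resolve_left ha
  have := congrArg (S.act g) (S.B_l_add (hz x hx) (hz x' hx'))
  rw [Units.val_mk0] at g1
  rw [map_add, act_B, act_B, act_B, g1, ap_add, ap_ap_inv, ap_ap_inv] at this
  exact this

/-- The biadditive part. -/
noncomputable def Om (i j : Fin m) (a b : F) : S.A := S.B (Pi.single i a) (Pi.single j b)

theorem Om_comm (i j : Fin m) (a b : F) : S.Om i j a b = S.Om j i b a := S.B_comm _ _

theorem Om_add_right {i j : Fin m} (h : i ≠ j) (a b b' : F) : S.Om i j a (b + b') = S.Om i j a b + S.Om i j a b' := by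
  rw [Om, Om, Om, Pi.single_add, S.B_add a (Pi.single_eq_of_ne h _) (Pi.single_eq_of_ne h _)]

theorem Om_add_left {i j : Fin m} (h : i ≠ j) (a a' b : F) : S.Om i j (a + a') b = S.Om i j a b + S.Om i j a' b := by
  rw [S.Om_comm, S.Om_add_right h.symm, S.Om_comm j i b a, S.Om_comm j i b a']

theorem Om_balanced {i j : Fin m} (h : i ≠ j) (z a b : F) : S.Om i j (z * a) b = S.Om i j a (z ^ q * b) := by
  let T : Subring F :=
    { carrier := {z | ∀ a b, S.Om i j (z * a) b = S.Om i j a (z ^ q * b)}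
      one_mem' := fun a b => by rw [one_pow, one_mul, one_mul]
      mul_mem' := fun {x y} hx hy a b => by rw [mul_assoc, hx, hy, mul_pow, ← mul_assoc, mul_comm (y ^ q)]
      zero_mem' := fun a b => by
        have e1 : ∀ b, S.Om i j 0 b = 0 := fun b => by rw [Om, Pi.single_zero, B_zero_left]
        have e2 : ∀ a, S.Om i j a 0 = 0 := fun a => by rw [S.Om_comm, Om, Pi.single_zero, B_zero_left]
        rw [zero_mul, zero_pow_q hF, zero_mul, e1, e2]
      add_mem' := fun {x y} hx hy a b => by
        rw [add_mul, S.Om_add_left h, hx, hy, add_pow_q hF, add_mul, S.Om_add_right h]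
      neg_mem' := fun {x} hx a b => by
        rw [neg_mul_comm, hx, neg_pow_q hF]
        have h1 := S.Om_add_left h a (-a) (x ^ q * b)
        have h2 := S.Om_add_right h a (x ^ q * b) (-(x ^ q * b))
        rw [add_neg_cancel] at h1 h2
        rw [Om, Pi.single_zero, B_zero_left] at h1
        rw [S.Om_comm i j a 0, Om, Pi.single_zero, B_zero_left] at h2
        rw [neg_mul]
        exact add_left_cancel (h1.symm.trans h2) }
  obtain ⟨ζ, hζ, hord⟩ := exists_norm_one_gen hF
  have hz : ζ ∈ T := fun a b => by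
    have hi : ζ ^ q * ζ = 1 := by rw [← pow_succ]; exact hζ
    show S.Om i j (ζ * a) b = S.Om i j a (ζ ^ q * b)
    conv_lhs => rw [show b = ζ * (ζ ^ q * b) by rw [← mul_assoc, mul_comm ζ, hi, one_mul]]
    rw [Om, Om, ← smul_eq_mul, ← smul_eq_mul ζ (ζ ^ q * b), Pi.single_smul', Pi.single_smul', S.B_zeta hζ]
  have hq := two_le_q hF
  have hgen : Subring.closure ({ζ} : Set F) = ⊤ := by
    refine SUPresent.closure_of_bound hF (fun e => ?_) (k := 3 * (q + 1)) (fun d hd => ?_) fun l' r hl hr hlr hdvd => ?_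
    · rw [e, zero_pow (Nat.succ_ne_zero q)] at hζ; exact zero_ne_one hζ
    · exact mul_dvd_mul_left 3 (hord ▸ orderOf_dvd_of_pow_eq_one hd)
    · have h1 := Nat.le_of_dvd (by omega) (Nat.dvd_of_mul_dvd_mul_left (by norm_num) hdvd)
      have : q ^ 2 < l' ^ r := lt_of_lt_of_le (Nat.pow_lt_pow_left (by omega) two_ne_zero)
        (Nat.pow_le_pow_right (by omega) hr)
      omega
  have : z ∈ T := (Subring.closure_le.2 (Set.singleton_subset_iff.2 hz)) (hgen ▸ Subring.mem_top z)
  exact this a b

/-- The linear form of the biadditive part. -/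
noncomputable def om {i j : Fin m} (h : i ≠ j) : F →+ S.A :=
  AddMonoidHom.mk' (fun x => S.Om i j x 1) fun a b => S.Om_add_left h a b 1

theorem Om_eq {i j : Fin m} (h : i ≠ j) (a b : F) : S.Om i j a b = S.om h (a * b ^ q) := by
  show _ = S.Om i j (a * b ^ q) 1
  rw [mul_comm a, S.Om_balanced h, pow_q_pow_q hF, mul_one]

theorem om_swap {i j : Fin m} (h : i ≠ j) (x : F) : S.om h x = S.om h.symm (x ^ q) := by
  show S.Om i j x 1 = _
  rw [S.Om_comm, S.Om_eq h.symm, one_mul]

/-- The quadratic part. -/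
noncomputable def th (i : Fin m) : F →+ S.A :=
  (S.act (tv (exists_other hlk i).choose_spec 1)).comp (S.om (exists_other hlk i).choose_spec) -
    S.om (exists_other hlk i).choose_spec

theorem C_add (i : Fin m) (γ β : F) :
    S.C (Pi.single i (γ + β)) = S.C (Pi.single i γ) + S.C (Pi.single i β) + S.th i (γ * β ^ q) := by
  set p := (exists_other hlk i).choose with hp
  have hip : i ≠ p := (exists_other hlk i).choose_spec
  show _ = _ + (S.act (tv hip 1) (S.om hip (γ * β ^ q)) - S.om hip (γ * β ^ q))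
  have key : ∀ a b : F, S.C (Pi.single i a + Pi.single p b) =
      S.C (Pi.single i a) + S.C (Pi.single p b) + S.om hip (a * b ^ q) := fun a b => by
    rw [← S.Om_eq hip, Om, B]; abel
  have h1 : ap (tv hip (1 : F)) (Pi.single i γ + Pi.single p β) = Pi.single i (γ + β) + Pi.single p β := by
    rw [ap_tv, one_mul, Pi.add_apply, Pi.single_eq_of_ne hip.symm, Pi.single_eq_same, zero_add, Pi.single_add]; abel
  have h2 : ap (tv hip (1 : F)) (Pi.single i γ) = Pi.single i γ := by
    rw [ap_tv, one_mul, Pi.single_eq_of_ne hip.symm, Pi.single_zero, add_zero]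
  have h3 : ap (tv hip (1 : F)) (Pi.single p β) = Pi.single i β + Pi.single p β := by
    rw [ap_tv, one_mul, Pi.single_eq_same, add_comm]
  have h := congrArg (S.act (tv hip 1)) (key γ β)
  rw [map_add, map_add, act_C, act_C, act_C, h1, h2, h3, key, key, add_mul, map_add] at h
  set X := S.C (Pi.single p β)
  set Y := S.om hip (β * β ^ q)
  set Z := S.om hip (γ * β ^ q)
  set W := S.act (tv hip 1) Z
  have e : S.C (Pi.single i (γ + β)) = S.C (Pi.single i γ) + (S.C (Pi.single i β) + X + Y) + W - X - (Z + Y) := by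
    rw [← h]; abel
  rw [e]; abel

theorem th_conj (i : Fin m) (x : F) : S.th i (x ^ q) = S.th i x := by
  have h1 := S.C_add i x 1
  have h2 := S.C_add i 1 x
  rw [one_pow, mul_one] at h1
  rw [one_mul, add_comm 1 x, add_comm (S.C (Pi.single i 1))] at h2
  exact add_left_cancel (h2.symm.trans h1)

theorem th_trace_zero (i : Fin m) {x : F} (hx : x + x ^ q = 0) : S.th i x = 0 := by
  obtain ⟨τ, hτ⟩ := exists_trace_eq hF (c := (1 : F)) (one_pow q)
  have e : x = τ * x - (τ * x) ^ q := by
    rw [mul_pow, show x ^ q = -x by linear_combination hx]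
    linear_combination -x * hτ
  rw [e, map_sub, S.th_conj, sub_self]

theorem th_congr (i : Fin m) {x y : F} (h : x + x ^ q = y + y ^ q) : S.th i x = S.th i y := by
  rw [← sub_eq_zero, ← map_sub]
  refine S.th_trace_zero i ?_
  rw [sub_pow_q hF]
  linear_combination h

theorem C_line (i : Fin m) (τ : F) (hτ : τ + τ ^ q = 1) (β : F) :
    S.C (Pi.single i β) = S.th i (τ * β ^ (q + 1)) := by
  have hfix : ∀ x : F, (x ^ (q + 1)) ^ q = x ^ (q + 1) := fun x => pow_q_succ_fixed hF x
  let g : F →+ S.A := AddMonoidHom.mk' (fun β => S.C (Pi.single i β) - S.th i (τ * β ^ (q + 1))) fun γ β => by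
    have e : S.th i (τ * (γ + β) ^ (q + 1)) =
        S.th i (τ * γ ^ (q + 1)) + S.th i (τ * β ^ (q + 1)) + S.th i (γ * β ^ q) := by
      rw [← map_add, ← map_add]
      refine S.th_congr i ?_
      simp only [mul_pow, add_pow_q hF, hfix]
      simp only [pow_succ, mul_pow, add_pow_q hF, pow_q_pow_q hF]
      linear_combination (γ ^ q * β + β ^ q * γ) * hτ
    rw [S.C_add, e]; abel
  obtain ⟨ζ, hζ, hord⟩ := exists_norm_one_gen hF
  have hne : ζ - 1 ≠ 0 := sub_ne_zero.2 fun e => by
    rw [e, orderOf_one] at hord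
    have := two_le_q hF
    omega
  have hg : ∀ y, g ((ζ - 1) * y) = 0 := fun y => by
    rw [sub_mul, one_mul, map_sub, sub_eq_zero]
    show S.C (Pi.single i (ζ * y)) - _ = S.C (Pi.single i y) - _
    rw [show (Pi.single i (ζ * y) : Fin m → F) = ζ • Pi.single i y by rw [← Pi.single_smul', smul_eq_mul],
      S.C_zeta hζ, mul_pow, hζ, one_mul]
  have := hg ((ζ - 1)⁻¹ * β)
  rw [← mul_assoc, mul_inv_cancel₀ hne, one_mul] at this
  exact sub_eq_zero.1 this

open scoped Classical in
/-- The coordinates. -/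
noncomputable def coord (τ : F) (i j : Fin m) : F →+ S.A :=
  if i = j then (S.th i).comp (AddMonoidHom.mulLeft τ) else if h : i < j then S.om h.ne else 0

/-- The normal form. -/
noncomputable def nf (τ : F) : (Fin m → Fin m → F) →+ S.A :=
  ∑ i, ∑ j, (S.coord τ i j).comp ((Pi.evalAddMonoidHom (fun _ : Fin m => F) j).comp
    (Pi.evalAddMonoidHom (fun _ : Fin m => Fin m → F) i))

theorem nf_apply (τ : F) (x : Fin m → Fin m → F) : S.nf τ x = ∑ i, ∑ j, S.coord τ i j (x i j) := by
  simp [nf]

theorem coord_mem (τ : F) (i j : Fin m) (x : F) : S.coord τ i j x ∈ (S.nf τ).range := by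
  refine ⟨Pi.single i (Pi.single j x), ?_⟩
  rw [nf_apply, Finset.sum_eq_single i (fun a _ ha => Finset.sum_eq_zero fun b _ => by
      rw [Pi.single_eq_of_ne ha]; exact map_zero _) (by simp), Finset.sum_eq_single j (fun b _ hb => by
      rw [Pi.single_eq_same, Pi.single_eq_of_ne hb]; exact map_zero _) (by simp), Pi.single_eq_same, Pi.single_eq_same]

theorem om_mem_nf (τ : F) {i j : Fin m} (h : i ≠ j) (x : F) : S.om h x ∈ (S.nf τ).range := by
  rcases lt_or_gt_of_ne h with hlt | hlt
  · have e : S.coord τ i j x = S.om h x := by rw [coord, if_neg h, dif_pos hlt]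
    exact e ▸ S.coord_mem τ i j x
  · have e : S.coord τ j i (x ^ q) = S.om h x := by rw [coord, if_neg h.symm, dif_pos hlt, S.om_swap h]
    exact e ▸ S.coord_mem τ j i _

theorem C_mem_nf (τ : F) (hτ : τ + τ ^ q = 1) (v : Fin m → F) : S.C v ∈ (S.nf τ).range := by
  classical
  rw [← Finset.univ_sum_single v]
  induction (Finset.univ : Finset (Fin m)) using Finset.induction_on with
  | empty => rw [Finset.sum_empty, C_zero]; exact zero_mem _
  | insert i s hi ih =>
    rw [Finset.sum_insert hi]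
    set x := ∑ j ∈ s, Pi.single j (v j) with hx
    have hdef : S.C (Pi.single i (v i) + x) = S.C (Pi.single i (v i)) + S.C x + S.B (Pi.single i (v i)) x := by
      rw [B]; abel
    rw [hdef]
    refine add_mem (add_mem ?_ ih) ?_
    · rw [S.C_line i τ hτ]
      have e : S.coord τ i i (v i ^ (q + 1)) = S.th i (τ * v i ^ (q + 1)) := by rw [coord, if_pos rfl]; rfl
      exact e ▸ S.coord_mem τ i i _
    · rw [hx]
      clear hdef ih hx x
      induction s using Finset.induction_on with
      | empty => rw [Finset.sum_empty, B_comm, B_zero_left]; exact zero_mem _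
      | insert j t hj ih' =>
        rw [Finset.mem_insert, not_or] at hi
        rw [Finset.sum_insert hj, S.B_add (v i) (Pi.single_eq_of_ne hi.1 _)
          (by rw [Finset.sum_apply]; exact Finset.sum_eq_zero fun p hp =>
            Pi.single_eq_of_ne (show i ≠ p from fun e => hi.2 (e.symm ▸ hp)) _)]
        refine add_mem ?_ (ih' hi.2)
        show S.Om i j (v i) (v j) ∈ _
        rw [S.Om_eq hi.1]
        exact S.om_mem_nf τ hi.1 _

theorem nf_surj (τ : F) (hτ : τ + τ ^ q = 1) (a : S.A) : a ∈ (S.nf τ).range := by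
  suffices ∀ g (hg : g ∈ S.R), (Additive.ofMul (⟨g, hg⟩ : S.R) : S.A) ∈ (S.nf τ).range from
    this (S.val a) (Additive.toMul a).2
  intro g hg
  induction hg using Subgroup.closure_induction with
  | mem x hx => obtain ⟨v, rfl⟩ := hx; exact S.C_mem_nf τ hτ v
  | one => exact zero_mem _
  | mul x y _ _ hx hy => exact add_mem hx hy
  | inv x _ hx => exact neg_mem hx

/-- The elements fixing the isotropic subspace and inducing the identity on the quotient by it. -/
def radE {F : Type*} [Field F] [Fintype F] {q n m : ℕ} (hF : Fintype.card F = q ^ 2) (Φ : Frame n F q m) :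
    Subgroup (Cfsg.SU n F q) where
  carrier := {g | (∀ v, suAct g (vE Φ v) = vE Φ v) ∧ suAct g Φ.u = Φ.u ∧
    ∀ j, ∃ v, suAct g (Φ.f j) = Φ.f j + vE Φ v}
  one_mem' := ⟨fun v => suAct_one _, suAct_one _, fun j => ⟨0, by rw [suAct_one, vE_zero, add_zero]⟩⟩
  mul_mem' := fun {g h} hg hh => ⟨fun v => by rw [suAct_mul, hh.1, hg.1], by rw [suAct_mul, hh.2.1, hg.2.1],
    fun j => by
      obtain ⟨v, hv⟩ := hh.2.2 j
      obtain ⟨v', hv'⟩ := hg.2.2 j
      exact ⟨v' + v, by rw [suAct_mul, hv, suAct_add, hv', hg.1, vE_add, add_assoc]⟩⟩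
  inv_mem' := fun {g} hg => ⟨fun v => by conv_lhs => rw [← hg.1 v, suAct_inv_suAct],
    by conv_lhs => rw [← hg.2.1, suAct_inv_suAct],
    fun j => by
      obtain ⟨v, hv⟩ := hg.2.2 j
      refine ⟨-v, suAct_inj g ?_⟩
      rw [suAct_suAct_inv, suAct_add, hg.1, hv, add_assoc, ← vE_add, add_neg_cancel, vE_zero, add_zero]⟩

theorem π_mem_radE {r : G} (hr : r ∈ S.R) : S.π r ∈ radE hF Φ :=
  (Subgroup.closure_le ((radE hF Φ).comap S.π)).2 (by
    rintro _ ⟨v, rfl⟩
    show S.π (S.cv v) ∈ radE hF Φ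
    rw [S.π_cv]
    exact ⟨fun w => by rw [suAct_cM, h_vv hF, mul_zero, zero_smul, add_zero], cM_u hF Φ v,
      fun j => ⟨(skew hF * v j ^ q) • v, by rw [cM_f, vE_smul]⟩⟩) hr

/-- The matrix entries. -/
noncomputable def entry (i j : Fin m) : S.A →+ F :=
  AddMonoidHom.mk' (fun a => Cfsg.hermForm n F q (suAct (S.π (S.val a)) (Φ.f j)) (Φ.f i)) fun a b => by
    have H := hermForm_isHerm hF n
    obtain ⟨v, hv⟩ := (S.π_mem_radE (Additive.toMul b).2).2.2 j
    have ha := (S.π_mem_radE (Additive.toMul a).2).1 v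
    show Cfsg.hermForm n F q (suAct (S.π (S.val a * S.val b)) (Φ.f j)) (Φ.f i) = _
    rw [map_mul, suAct_mul]
    show Cfsg.hermForm n F q (suAct (S.π (S.val a)) (suAct (S.π (S.val b)) (Φ.f j))) (Φ.f i) = _
    rw [show suAct (S.π (S.val b)) (Φ.f j) = Φ.f j + vE Φ v from hv, suAct_add,
      show suAct (S.π (S.val a)) (vE Φ v) = vE Φ v from ha, H.add_left, H.add_left, Φ.ff, zero_add]

theorem entry_C (i j : Fin m) (v : Fin m → F) : S.entry i j (S.C v) = skew hF * v j ^ q * v i := by
  show Cfsg.hermForm n F q (suAct (S.π (S.cv v)) (Φ.f j)) (Φ.f i) = _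
  have H := hermForm_isHerm hF n
  rw [S.π_cv, cM_f, H.add_left, H.smul_left, Φ.ff, h_vf hF, zero_add]

theorem entry_om (i j a b : Fin m) (h : a ≠ b) (x : F) :
    S.entry i j (S.om h x) =
      (if i = a ∧ j = b then skew hF * x else 0) + (if i = b ∧ j = a then skew hF * x ^ q else 0) := by
  show S.entry i j (S.Om a b x 1) = _
  simp only [Om, B, map_sub, entry_C, Pi.add_apply, Pi.single_apply]
  by_cases h1 : i = a <;> by_cases h2 : i = b <;> by_cases h3 : j = a <;> by_cases h4 : j = b <;>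
    first
      | (exfalso; exact h (h1.symm.trans h2))
      | (exfalso; exact h (h3.symm.trans h4))
      | (simp [h1, h2, h3, h4, h, Ne.symm h, zero_pow_q hF, add_pow_q hF] <;> ring)

theorem entry_th (i j a : Fin m) (x : F) :
    S.entry i j (S.th a x) = if i = a ∧ j = a then skew hF * (x + x ^ q) else 0 := by
  have e : S.th a x = S.C (Pi.single a (x + 1)) - S.C (Pi.single a x) - S.C (Pi.single a 1) := by
    rw [S.C_add, one_pow, mul_one]; abel
  rw [e]
  simp only [map_sub, entry_C, Pi.single_apply]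
  by_cases h1 : i = a <;> by_cases h2 : j = a <;> simp [h1, h2, zero_pow_q hF, add_pow_q hF] <;> ring

/-- The map to SU is injective on the group of the conjugates. -/
theorem R_inj {r : G} (hr : r ∈ S.R) (h : S.π r = 1) : r = 1 := by
  classical
  obtain ⟨τ, hτ⟩ := exists_trace_eq hF (c := (1 : F)) (one_pow q)
  obtain ⟨x, hx⟩ := S.nf_surj τ hτ (Additive.ofMul ⟨r, hr⟩)
  have h0 : ∀ i j, S.entry i j (S.nf τ x) = 0 := fun i j => by
    rw [hx]
    show Cfsg.hermForm n F q (suAct (S.π r) (Φ.f j)) (Φ.f i) = 0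
    rw [h, suAct_one, Φ.ff]
  have hs : (skew hF : F) ≠ 0 := skew_ne_zero hF
  have key : ∀ a b, S.coord τ a b (x a b) = 0 := by
    intro a b
    rcases lt_trichotomy a b with hab | hab | hab
    · rw [coord, if_neg hab.ne, dif_pos hab]
      have := h0 a b
      simp only [nf_apply, map_sum] at this
      rw [Finset.sum_eq_single a, Finset.sum_eq_single b] at this
      · rw [coord, if_neg hab.ne, dif_pos hab, entry_om, if_pos ⟨rfl, rfl⟩,
          if_neg (fun e => hab.ne e.1), add_zero] at this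
        rw [(mul_eq_zero.1 this).resolve_left hs, map_zero]
      · intro b' _ hb'
        rw [coord]
        split_ifs with h1 h2
        · rw [AddMonoidHom.comp_apply, entry_th, if_neg (fun e => hab.ne e.2.symm)]
        · rw [entry_om, if_neg (fun e => hb' e.2.symm), if_neg (fun e => hab.ne e.2.symm), add_zero]
        · simp
      · simp
      · intro a' _ ha'
        refine Finset.sum_eq_zero fun b' _ => ?_
        rw [coord]
        split_ifs with h1 h2
        · rw [AddMonoidHom.comp_apply, entry_th, if_neg (fun e => ha' e.1.symm)]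
        · rw [entry_om, if_neg (fun e => ha' e.1.symm),
            if_neg (fun e : a = b' ∧ b = a' => absurd (show b < a by rw [e.1, e.2]; exact h2) (not_lt.2 hab.le)), add_zero]
        · simp
      · simp
    · subst hab
      rw [coord, if_pos rfl]
      have := h0 a a
      simp only [nf_apply, map_sum] at this
      rw [Finset.sum_eq_single a, Finset.sum_eq_single a] at this
      · rw [coord, if_pos rfl, AddMonoidHom.comp_apply, entry_th, if_pos ⟨rfl, rfl⟩] at this
        exact S.th_trace_zero a ((mul_eq_zero.1 this).resolve_left hs)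
      · intro b' _ hb'
        rw [coord, if_neg (Ne.symm hb')]
        split_ifs with h2
        · rw [entry_om, if_neg (fun e => hb' e.2.symm), if_neg (fun e => hb' e.1.symm), add_zero]
        · simp
      · simp
      · intro a' _ ha'
        refine Finset.sum_eq_zero fun b' _ => ?_
        rw [coord]
        split_ifs with h1 h2
        · rw [AddMonoidHom.comp_apply, entry_th, if_neg (fun e => ha' e.1.symm)]
        · rw [entry_om, if_neg (fun e => ha' e.1.symm), if_neg (fun e => ha' e.2.symm), add_zero]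
        · simp
      · simp
    · rw [coord, if_neg hab.ne', dif_neg hab.not_gt]; rfl
  have : (Additive.ofMul (⟨r, hr⟩ : S.R) : S.A) = 0 := by
    rw [← hx, nf_apply]
    exact Finset.sum_eq_zero fun a _ => Finset.sum_eq_zero fun b _ => key a b
  exact congrArg S.val this

/-- Every element is one outside the corner times one at `l`. -/
theorem exists_split_R (K : Subgroup G) (h1 : ∀ w, w l = 0 → S.cv w ∈ K)
    (h2 : ∀ (a : Fˣ) (w : Fin m → F), w l = 0 → S.ψ (hd hlk a) * S.M w * (S.ψ (hd hlk a))⁻¹ ∈ K) {r : G}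
    (hr : r ∈ S.R) : ∃ y ∈ K, ∃ γ : F, r = y * S.cv (Pi.single l γ) := by
  classical
  obtain ⟨τ, hτ⟩ := exists_trace_eq hF (c := (1 : F)) (one_pow q)
  let N : AddSubgroup S.A :=
    { carrier := {a | S.val a ∈ K}
      zero_mem' := one_mem K
      add_mem' := fun {a b} ha hb => (mul_mem ha hb : S.val a * S.val b ∈ K)
      neg_mem' := fun {a} ha => (inv_mem ha : (S.val a)⁻¹ ∈ K) }
  have hN : ∀ w, w l = 0 → S.C w ∈ N := h1
  have hB : ∀ (a : F) (w : Fin m → F), w l = 0 → S.B (Pi.single l a) w ∈ N := fun a w hw => by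
    rcases eq_or_ne a 0 with rfl | ha
    · rw [Pi.single_zero, B_zero_left]; exact zero_mem _
    set g : Matrix.SpecialLinearGroup (Fin m) F := hd hlk (Units.mk0 a ha)
    have hgl : ap g (Pi.single l 1) = Pi.single l a := by rw [ap_hd_single, if_pos rfl, mul_one, Units.val_mk0]
    have hwl : ap g⁻¹ w l = 0 := by
      have := congrFun (ap_ap_inv g w) l
      rw [ap_hd, if_pos rfl, hw] at this
      exact (mul_eq_zero.1 this).resolve_left (Units.mk0 a ha).ne_zero
    have e : S.B (Pi.single l a) w = S.act g (S.B (Pi.single l 1) (ap g⁻¹ w)) := by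
      rw [act_B, hgl, ap_ap_inv]
    show S.val _ ∈ K
    rw [e, S.B_eq_M hwl]
    exact h2 _ _ hwl
  have hom : ∀ {i j : Fin m} (h : i ≠ j) (x : F), S.om h x ∈ N := by
    intro i j h x
    show S.Om i j x 1 ∈ N
    rcases eq_or_ne i l with rfl | hil
    · exact hB x _ (Pi.single_eq_of_ne h _)
    rcases eq_or_ne j l with rfl | hjl
    · rw [S.Om_comm]; exact hB 1 _ (Pi.single_eq_of_ne hil.symm _)
    exact sub_mem (sub_mem (hN _ (by simp [hil.symm, hjl.symm])) (hN _ (Pi.single_eq_of_ne hil.symm _)))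
      (hN _ (Pi.single_eq_of_ne hjl.symm _))
  have hth : ∀ {i : Fin m}, i ≠ l → ∀ x, S.th i x ∈ N := by
    intro i hi x
    have e : S.th i x = S.C (Pi.single i (x + 1)) - S.C (Pi.single i x) - S.C (Pi.single i 1) := by
      rw [S.C_add, one_pow, mul_one]; abel
    rw [e]
    exact sub_mem (sub_mem (hN _ (Pi.single_eq_of_ne hi.symm _)) (hN _ (Pi.single_eq_of_ne hi.symm _)))
      (hN _ (Pi.single_eq_of_ne hi.symm _))
  obtain ⟨x, hx⟩ := S.nf_surj τ hτ (Additive.ofMul ⟨r, hr⟩)
  obtain ⟨γ, hγ⟩ := exists_norm_eq hF (c := τ * x l l + (τ * x l l) ^ q)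
    (by rw [add_pow_q hF, pow_q_pow_q hF, add_comm])
  have hl : S.coord τ l l (x l l) = S.C (Pi.single l γ) := by
    rw [coord, if_pos rfl, S.C_line l τ hτ γ]
    show S.th l (τ * x l l) = _
    refine S.th_congr l ?_
    rw [hγ, mul_pow τ (τ * x l l + _), add_pow_q hF, pow_q_pow_q hF]
    linear_combination -(τ * x l l + (τ * x l l) ^ q) * hτ
  set y : S.A := S.nf τ x - S.C (Pi.single l γ) with hy
  have hyN : y ∈ N := by
    rw [hy, nf_apply, ← hl]
    have : ∀ a b, S.coord τ a b (x a b) - (if a = l ∧ b = l then S.coord τ l l (x l l) else 0) ∈ N := fun a b => by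
      by_cases h : a = l ∧ b = l
      · rw [if_pos h, h.1, h.2, sub_self]; exact zero_mem _
      rw [if_neg h, sub_zero, coord]
      split_ifs with h3 h4
      · exact hth (fun e => h ⟨e, h3 ▸ e⟩) _
      · exact hom _ _
      · exact zero_mem _
    have hsum := sum_mem (S := N) (t := (Finset.univ : Finset (Fin m))) fun a _ => sum_mem
      (t := (Finset.univ : Finset (Fin m))) fun b _ => this a b
    simp only [Finset.sum_sub_distrib] at hsum
    convert hsum using 2
    rw [Finset.sum_eq_single l (fun a _ ha => Finset.sum_eq_zero fun b _ => if_neg fun e => ha e.1) (by simp),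
      Finset.sum_eq_single l (fun b _ hb => if_neg fun e => hb e.2) (by simp), if_pos ⟨rfl, rfl⟩]
  refine ⟨S.val y, hyN, γ, ?_⟩
  rw [← val_C, ← val_add, hy, sub_add_cancel, hx]
  rfl

end Sys

end Cfsg.Agent.SUNPresent
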