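/-
The element `d` and its consequences.

* `DSys`: the relations of `d` with SL_m, the flip and the root element.
* `DSys.t_zeta`, `DSys.d_inj`: the flip commutes with the torus elements of norm one, and `d` has the order of its image.
* `DSys.Zt`: conjugates of the root elements at `l` by the flip.
-/
import Cfsg.Agent.Lib.SUNPresent.Herm
import Cfsg.Agent.Lib.SUNPresent.Core

set_option autoImplicit false
set_option linter.unusedSectionVars false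
set_option linter.unusedSimpArgs false

open Matrix

namespace Cfsg.Agent.SUNPresent

open Cfsg.Agent.Unitary Cfsg.Agent.UFus Cfsg.Agent.UnitaryBN

local notation "tv" => Matrix.SpecialLinearGroup.transvection

/-- The relations of `d`. -/
structure DSys {F : Type*} [Field F] [Fintype F] {q n m : ℕ} (hF : Fintype.card F = q ^ 2) (Φ : Frame n F q m)
    {l k : Fin m} (hlk : l ≠ k) (G : Type*) [Group G] extends Sys hF Φ hlk G where
  d : G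
  θ : Fˣ
  α : Fˣ
  γ : Fˣ
  f : ℤ
  hθ : ∀ x : Fˣ, x ∈ Subgroup.zpowers θ
  hf : f ≠ 0
  hord : ∀ i : ℤ, α ^ i = 1 → f * ((q : ℤ) - 1) ∣ i
  hγ : γ ^ (f * ((q : ℤ) - 1)) = 1
  dψ : ∀ a, d * ψ a * d⁻¹ = ψ (cjD l α a)
  πd : ∀ i, suAct (π d) (Φ.e i) = (if i = l then (α : F) else 1) • Φ.e i
  dc : d * c * d⁻¹ = cvF hlk ψ c (Pi.single l (γ : F))
  tsq : t * t ∈ Subgroup.zpowers d
  td : t * d * t⁻¹ ∈ Subgroup.zpowers d
  thθ : t * ψ (hd hlk θ) * t⁻¹ = ψ (hd hlk θ) * d ^ f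
  R1 : t * c * t⁻¹ = c⁻¹ * t * c⁻¹
  tt : ∀ j, j ≠ l → Commute t (tjF hlk ψ t j)

theorem orderOf_gen {F : Type*} [Field F] [Fintype F] {q : ℕ} (hF : Fintype.card F = q ^ 2) {θ : Fˣ}
    (hθ : ∀ x : Fˣ, x ∈ Subgroup.zpowers θ) : (orderOf θ : ℤ) = ((q : ℤ) - 1) * ((q : ℤ) + 1) := by
  rw [orderOf_eq_card_of_forall_mem_zpowers hθ, Nat.card_units, Nat.card_eq_fintype_card, hF]
  have := two_le_q hF
  rw [Nat.cast_sub (Nat.one_le_pow _ _ (by omega))]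
  push_cast
  ring

theorem exists_zeta_pow {F : Type*} [Field F] [Fintype F] {q : ℕ} (hF : Fintype.card F = q ^ 2) {θ : Fˣ}
    (hθ : ∀ x : Fˣ, x ∈ Subgroup.zpowers θ) {z : Fˣ} (hz : (z : F) ^ (q + 1) = 1) :
    ∃ i : ℤ, z = θ ^ (((q : ℤ) - 1) * i) := by
  obtain ⟨j, rfl⟩ := Subgroup.mem_zpowers_iff.1 (hθ z)
  have h1 : θ ^ (j * ((q : ℤ) + 1)) = 1 := by
    rw [_root_.zpow_mul, show ((q : ℤ) + 1) = ((q + 1 : ℕ) : ℤ) by push_cast; rfl, zpow_natCast]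
    exact Units.ext (by rw [Units.val_pow_eq_pow_val, hz, Units.val_one])
  rw [← orderOf_dvd_iff_zpow_eq_one, orderOf_gen hF hθ] at h1
  obtain ⟨i, hi⟩ := Int.dvd_of_mul_dvd_mul_right (by positivity) h1
  exact ⟨i, by rw [hi]⟩

namespace DSys

variable {F : Type*} [Field F] [Fintype F] {q n m : ℕ} {hF : Fintype.card F = q ^ 2} {Φ : Frame n F q m}
  {l k : Fin m} {hlk : l ≠ k} {G : Type*} [Group G] (S : DSys hF Φ hlk G)

/-- The conjugates of `c`. -/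
noncomputable abbrev cv (v : Fin m → F) : G := S.toSys.cv v

theorem d_hd (u : Fˣ) : Commute S.d (S.ψ (hd hlk u)) := by
  have := S.dψ (hd hlk u)
  rw [cjD_hd] at this
  exact mul_inv_eq_iff_eq_mul.1 this

theorem dc_line {x : F} (hx : x ≠ 0) : S.d * S.cv (Pi.single l x) * S.d⁻¹ = S.cv (Pi.single l ((S.γ : F) * x)) := by
  have e : ap (hd hlk (Units.mk0 x hx)) (Pi.single l 1) = Pi.single l x := by
    rw [ap_hd_single, if_pos rfl, mul_one, Units.val_mk0]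
  have e' : ap (hd hlk (Units.mk0 x hx)) (Pi.single l (S.γ : F)) = Pi.single l ((S.γ : F) * x) := by
    rw [ap_hd_single, if_pos rfl, Units.val_mk0, mul_comm]
  rw [← e']
  show S.d * S.toSys.cv _ * S.d⁻¹ = S.toSys.cv _
  rw [S.toSys.cv_eq e, ← S.toSys.cv_conj, show S.toSys.cv (Pi.single l (S.γ : F)) = S.d * S.c * S.d⁻¹ from
    S.dc.symm]
  have hc := (S.d_hd (Units.mk0 x hx))
  set A := S.ψ (hd hlk (Units.mk0 x hx))
  calc S.d * (A * S.c * A⁻¹) * S.d⁻¹ = (S.d * A) * S.c * (A⁻¹ * S.d⁻¹) := by group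
    _ = _ := by rw [hc.eq, hc.inv_inv.symm.eq]; group

theorem dc_pow (i : ℤ) {x : F} (hx : x ≠ 0) :
    S.d ^ i * S.cv (Pi.single l x) * (S.d ^ i)⁻¹ = S.cv (Pi.single l (((S.γ ^ i : Fˣ) : F) * x)) := by
  induction i using Int.induction_on generalizing x with
  | zero => simp
  | succ i ih =>
    rw [_root_.zpow_add_one, _root_.mul_inv_rev, show S.d ^ (i : ℤ) * S.d * S.cv (Pi.single l x) * (S.d⁻¹ * (S.d ^ (i : ℤ))⁻¹) =
      S.d ^ (i : ℤ) * (S.d * S.cv (Pi.single l x) * S.d⁻¹) * (S.d ^ (i : ℤ))⁻¹ by group, S.dc_line hx,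
      ih (mul_ne_zero S.γ.ne_zero hx), _root_.zpow_add_one, Units.val_mul, mul_assoc]
  | pred i ih =>
    set y : F := ((S.γ⁻¹ : Fˣ) : F) * x
    have hy : y ≠ 0 := mul_ne_zero (Units.ne_zero _) hx
    have e := S.dc_line hy
    rw [← mul_assoc, ← Units.val_mul, mul_inv_cancel, Units.val_one, one_mul] at e
    rw [← e, show S.d ^ (-(i : ℤ) - 1) * (S.d * S.cv (Pi.single l y) * S.d⁻¹) * (S.d ^ (-(i : ℤ) - 1))⁻¹ =
      S.d ^ (-(i : ℤ)) * S.cv (Pi.single l y) * (S.d ^ (-(i : ℤ)))⁻¹ by group, ih hy, _root_.zpow_sub_one, Units.val_mul,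
      mul_assoc]

theorem dc_pow_c (i : ℤ) : S.d ^ i * S.c * (S.d ^ i)⁻¹ = S.cv (Pi.single l ((S.γ ^ i : Fˣ) : F)) := by
  have := S.dc_pow i (one_ne_zero (α := F))
  rwa [mul_one, cv, S.toSys.cv_l] at this

theorem thθ' : S.t⁻¹ * S.ψ (hd hlk S.θ) * S.t = S.ψ (hd hlk S.θ) * S.d ^ S.f := by
  obtain ⟨j, hj⟩ := Subgroup.mem_zpowers_iff.1 S.tsq
  have hc : Commute (S.d ^ j) (S.ψ (hd hlk S.θ) * S.d ^ S.f) :=
    ((S.d_hd S.θ).zpow_left j).mul_right (Commute.zpow_zpow_self _ _ _)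
  calc S.t⁻¹ * S.ψ (hd hlk S.θ) * S.t
      = (S.t * S.t)⁻¹ * (S.t * S.ψ (hd hlk S.θ) * S.t⁻¹) * (S.t * S.t) := by group
    _ = _ := by rw [S.thθ, ← hj, mul_assoc, ← hc.eq, inv_mul_cancel_left]

theorem zpow_hd (i : ℤ) : S.ψ (hd hlk (S.θ ^ i)) = S.ψ (hd hlk S.θ) ^ i := by
  rw [← map_zpow, ← hdHom_apply hlk, ← hdHom_apply hlk, map_zpow]

theorem th_pow (i : ℤ) : S.t * S.ψ (hd hlk (S.θ ^ i)) * S.t⁻¹ = S.ψ (hd hlk (S.θ ^ i)) * S.d ^ (S.f * i) := by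
  rw [S.zpow_hd, ← conj_zpow, S.thθ, ((S.d_hd S.θ).zpow_left S.f).symm.mul_zpow, ← _root_.zpow_mul]

theorem z0_commute : Commute S.t (S.ψ (hd hlk (S.θ ^ ((q : ℤ) - 1)))) ∧ S.d ^ (S.f * ((q : ℤ) - 1)) = 1 := by
  set N := S.f * ((q : ℤ) - 1) with hN
  set z := S.ψ (hd hlk (S.θ ^ ((q : ℤ) - 1))) with hz
  have hzc : Commute z S.c := S.cZeta _ (by
    rw [← Units.val_pow_eq_pow_val, ← zpow_natCast, ← _root_.zpow_mul, Units.val_eq_one]
    rw [← orderOf_dvd_iff_zpow_eq_one, orderOf_gen hF S.hθ]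
    exact dvd_of_eq (by push_cast; ring))
  have hdc : S.d ^ N * S.c * (S.d ^ N)⁻¹ = S.c := by
    rw [S.dc_pow_c, hN, S.hγ, Units.val_one, cv, S.toSys.cv_l]
  have ht : S.t⁻¹ * z * S.t = z * S.d ^ N := by
    have h := congrArg (fun y => y ^ ((q : ℤ) - 1)) S.thθ'
    rw [show S.t⁻¹ * S.ψ (hd hlk S.θ) * S.t = S.t⁻¹ * S.ψ (hd hlk S.θ) * S.t⁻¹⁻¹ by rw [inv_inv], conj_zpow,
      inv_inv, ((S.d_hd S.θ).zpow_left S.f).symm.mul_zpow, ← _root_.zpow_mul, ← S.zpow_hd] at h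
    exact h
  have hct : Commute (S.t⁻¹ * z * S.t) S.c := by
    rw [ht]; exact hzc.mul_left (mul_inv_eq_iff_eq_mul.1 hdc)
  have hu : Commute z (S.t * S.c * S.t⁻¹) := by
    have := hct.map (MulAut.conj S.t).toMonoidHom
    simp only [MulEquiv.coe_toMonoidHom, MulAut.conj_apply] at this
    rwa [show S.t * (S.t⁻¹ * z * S.t) * S.t⁻¹ = z by group] at this
  have hte : S.t = S.c * (S.t * S.c * S.t⁻¹) * S.c := by rw [S.R1]; group
  have hzt : Commute z S.t := by rw [hte]; exact (hzc.mul_right hu).mul_right hzc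
  refine ⟨hzt.symm, ?_⟩
  rw [mul_assoc, hzt.eq, inv_mul_cancel_left] at ht
  exact left_eq_mul.1 ht

theorem d_zpow_eq_one {i : ℤ} (h : S.f * ((q : ℤ) - 1) ∣ i) : S.d ^ i = 1 := by
  obtain ⟨j, rfl⟩ := h
  rw [_root_.zpow_mul, S.z0_commute.2, _root_.one_zpow]

theorem d_inj (i : ℕ) (h : S.α ^ i = 1) : S.d ^ i = 1 := by
  rw [← zpow_natCast]
  exact S.d_zpow_eq_one (S.hord i (by rw [zpow_natCast]; exact h))

theorem dN : IsOfFinOrder S.d := by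
  refine isOfFinOrder_iff_zpow_eq_one.2 ⟨_, mul_ne_zero S.hf ?_, S.z0_commute.2⟩
  have := two_le_q hF
  omega

theorem t_zeta (z : Fˣ) (hz : (z : F) ^ (q + 1) = 1) : Commute S.t (S.ψ (hd hlk z)) := by
  obtain ⟨i, rfl⟩ := exists_zeta_pow hF S.hθ hz
  rw [S.zpow_hd, _root_.zpow_mul, ← S.zpow_hd]
  exact S.z0_commute.1.zpow_right i

theorem exists_H (u : Fˣ) : ∃ s : ℤ, S.t * S.ψ (hd hlk u) * S.t⁻¹ = S.ψ (hd hlk u) * S.d ^ s := by
  obtain ⟨i, rfl⟩ := Subgroup.mem_zpowers_iff.1 (S.hθ u)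
  exact ⟨_, S.th_pow i⟩

theorem zpow_mem_PF (R : Subgroup G) (i : ℤ) : S.d ^ i ∈ PF S.ψ S.d R :=
  Subgroup.mem_sup_left (Subgroup.mem_sup_right (zpow_mem (Subgroup.mem_zpowers _) i))

theorem ψ_mem_PF (R : Subgroup G) (a : Matrix.SpecialLinearGroup (Fin m) F) : S.ψ a ∈ PF S.ψ S.d R :=
  Subgroup.mem_sup_left (Subgroup.mem_sup_left ⟨a, rfl⟩)

theorem th (R : Subgroup G) (u : Fˣ) : S.t * S.ψ (hd hlk u) * S.t⁻¹ ∈ PF S.ψ S.d R := by
  obtain ⟨s, hs⟩ := S.exists_H u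
  rw [hs]; exact mul_mem (S.ψ_mem_PF R _) (S.zpow_mem_PF R _)

theorem conj_d_mem_PF (R : Subgroup G) (i : ℤ) : S.t * S.d ^ i * S.t⁻¹ ∈ PF S.ψ S.d R := by
  rw [← conj_zpow]
  exact zpow_mem (Subgroup.mem_sup_left (Subgroup.mem_sup_right S.td)) i

theorem line_inv (x : F) : ∃ y, (S.cv (Pi.single l x))⁻¹ = S.cv (Pi.single l y) := by
  obtain ⟨τ, hτ⟩ := exists_trace_eq hF (c := (1 : F)) (one_pow q)
  obtain ⟨y, hy⟩ := exists_norm_eq hF (c := -x ^ (q + 1)) (by rw [neg_pow_q hF, pow_q_succ_fixed hF])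
  refine ⟨y, ?_⟩
  have e : S.toSys.C (Pi.single l y) = -S.toSys.C (Pi.single l x) := by
    rw [S.toSys.C_line l τ hτ, S.toSys.C_line l τ hτ, hy, mul_neg, map_neg]
  exact (congrArg S.toSys.val e).symm

theorem line_mul (x y : F) : ∃ z, S.cv (Pi.single l x) * S.cv (Pi.single l y) = S.cv (Pi.single l z) := by
  obtain ⟨τ, hτ⟩ := exists_trace_eq hF (c := (1 : F)) (one_pow q)
  obtain ⟨z, hz⟩ := exists_norm_eq hF (c := x ^ (q + 1) + y ^ (q + 1))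
    (by rw [add_pow_q hF, pow_q_succ_fixed hF, pow_q_succ_fixed hF])
  refine ⟨z, ?_⟩
  have e : S.toSys.C (Pi.single l z) = S.toSys.C (Pi.single l x) + S.toSys.C (Pi.single l y) := by
    rw [S.toSys.C_line l τ hτ, S.toSys.C_line l τ hτ, S.toSys.C_line l τ hτ, hz, mul_add, map_add]
  exact (congrArg S.toSys.val e).symm

theorem line_tj (x : F) (j : Fin m) (hj : j ≠ l) : Commute (S.cv (Pi.single l x)) (tjF hlk S.ψ S.t j) := by
  obtain ⟨g1, g2⟩ := (exists_isMono (F := F) hlk j 1).choose_spec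
  set g := (exists_isMono (F := F) hlk j 1).choose
  have hw : ap g⁻¹ (Pi.single l x) l = 0 := by
    have := g2 (ap g⁻¹ (Pi.single l x))
    rwa [ap_ap_inv, Pi.single_eq_of_ne hj, Units.val_one, one_mul, eq_comm] at this
  have e : S.cv (Pi.single l x) = S.ψ g * S.cv (ap g⁻¹ (Pi.single l x)) * (S.ψ g)⁻¹ := by
    rw [cv, cv, S.toSys.cv_conj, ap_ap_inv]
  rw [e]
  exact ((S.tc _ hw).symm).map (MulAut.conj (S.ψ g)).toMonoidHom

/-- Conjugates of the root elements at `l` by the flip. -/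
theorem Zt (R : Subgroup G) (hR : ∀ v, S.cv v ∈ R) (x : F) :
    S.t * S.cv (Pi.single l x) * S.t⁻¹ ∈ PF S.ψ S.d R ∨
      ∃ y ∈ PF S.ψ S.d R, ∃ x', S.t * S.cv (Pi.single l x) * S.t⁻¹ = y * S.t * S.cv (Pi.single l x') := by
  rcases eq_or_ne x 0 with rfl | hx
  · left; rw [Pi.single_zero, cv, Sys.cv_zero, mul_one, mul_inv_cancel]; exact one_mem _
  right
  set u := Units.mk0 x hx
  obtain ⟨s, hs⟩ := S.exists_H u
  have e : S.cv (Pi.single l x) = S.ψ (hd hlk u) * S.c * (S.ψ (hd hlk u))⁻¹ :=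
    S.toSys.cv_eq (by rw [ap_hd_single, if_pos rfl, mul_one, Units.val_mk0])
  set H := S.ψ (hd hlk u) * S.d ^ s with hH
  have hHP : S.t * H⁻¹ * S.t⁻¹ ∈ PF S.ψ S.d R := by
    rw [show S.t * H⁻¹ * S.t⁻¹ = (S.t * H * S.t⁻¹)⁻¹ by group, hH,
      show S.t * (S.ψ (hd hlk u) * S.d ^ s) * S.t⁻¹ =
        (S.t * S.ψ (hd hlk u) * S.t⁻¹) * (S.t * S.d ^ s * S.t⁻¹) by group]
    exact inv_mem (mul_mem (S.th R u) (S.conj_d_mem_PF R s))
  have hcc : H * S.c * H⁻¹ = S.cv (Pi.single l (x * ((S.γ ^ s : Fˣ) : F))) := by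
    rw [hH, show S.ψ (hd hlk u) * S.d ^ s * S.c * (S.ψ (hd hlk u) * S.d ^ s)⁻¹ =
      S.ψ (hd hlk u) * (S.d ^ s * S.c * (S.d ^ s)⁻¹) * (S.ψ (hd hlk u))⁻¹ by group, S.dc_pow_c, cv, S.toSys.cv_conj,
      ap_hd_single, if_pos rfl, Units.val_mk0]
  obtain ⟨x', hx'⟩ := S.line_inv (x * ((S.γ ^ s : Fˣ) : F))
  refine ⟨H * S.c⁻¹ * (S.t * H⁻¹ * S.t⁻¹),
    mul_mem (mul_mem (hs ▸ S.th R u) (inv_mem (Subgroup.mem_sup_right (by simpa [cv, Sys.cv_l] using hR (Pi.single l 1))))) hHP,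
    x', ?_⟩
  rw [← hx', ← hcc, e, show S.t * (S.ψ (hd hlk u) * S.c * (S.ψ (hd hlk u))⁻¹) * S.t⁻¹ =
    (S.t * S.ψ (hd hlk u) * S.t⁻¹) * (S.t * S.c * S.t⁻¹) * (S.t * S.ψ (hd hlk u) * S.t⁻¹)⁻¹ by group, hs, S.R1]
  group

theorem d_R {r : G} (hr : r ∈ S.toSys.R) : S.d * r * S.d⁻¹ ∈ S.toSys.R := by
  refine (Subgroup.closure_le (S.toSys.R.comap (MulAut.conj S.d).toMonoidHom)).2 ?_ hr
  rintro _ ⟨v, rfl⟩
  show S.d * S.toSys.cv v * S.d⁻¹ ∈ S.toSys.R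
  rcases eq_or_ne v 0 with rfl | hv
  · rw [Sys.cv_zero, mul_one, mul_inv_cancel]; exact one_mem _
  obtain ⟨g, hg⟩ := exists_first hlk hv
  rw [S.toSys.cv_eq hg, show S.d * (S.ψ g * S.c * (S.ψ g)⁻¹) * S.d⁻¹ =
    (S.d * S.ψ g * S.d⁻¹) * (S.d * S.c * S.d⁻¹) * (S.d * S.ψ g * S.d⁻¹)⁻¹ by group, S.dψ, S.dc]
  exact S.toSys.R_conj _ (S.toSys.cv_mem _)

/-- The part of the unipotent group moved into the parabolic subgroup by the flip. -/
def inner (R : Subgroup G) : Subgroup G := R ⊓ (PF S.ψ S.d R).comap (MulAut.conj S.t).toMonoidHom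

theorem mem_inner_cv (R : Subgroup G) (hR : ∀ v, S.cv v ∈ R) {w : Fin m → F} (hw : w l = 0) :
    S.cv w ∈ S.inner R := by
  refine ⟨hR w, ?_⟩
  show S.t * S.cv w * S.t⁻¹ ∈ PF S.ψ S.d R
  rw [show Commute S.t (S.cv w) from S.tc w hw |>.eq, mul_inv_cancel_right]
  exact Subgroup.mem_sup_right (hR w)

theorem mem_inner_M (R : Subgroup G) (hM : ∀ w : Fin m → F, w l = 0 → S.toSys.M w ∈ R)
    (hc : ∀ a, ∀ r ∈ R, S.ψ a * r * (S.ψ a)⁻¹ ∈ R) (a : Fˣ) {w : Fin m → F} (hw : w l = 0) :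
    S.ψ (hd hlk a) * S.toSys.M w * (S.ψ (hd hlk a))⁻¹ ∈ S.inner R := by
  refine ⟨hc _ _ (hM w hw), ?_⟩
  show S.t * (S.ψ (hd hlk a) * S.toSys.M w * (S.ψ (hd hlk a))⁻¹) * S.t⁻¹ ∈ PF S.ψ S.d R
  rw [show S.t * (S.ψ (hd hlk a) * S.toSys.M w * (S.ψ (hd hlk a))⁻¹) * S.t⁻¹ =
    (S.t * S.ψ (hd hlk a) * S.t⁻¹) * S.ψ (colE l w) * (S.t * S.ψ (hd hlk a) * S.t⁻¹)⁻¹ by
      rw [Sys.M, MF]; group]
  exact mul_mem (mul_mem (S.th R a) (S.ψ_mem_PF R _)) (inv_mem (S.th R a))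

/-- The data of the cells in the case without an anisotropic vector. -/
noncomputable def toCore (hgen : Subgroup.closure (Set.range S.ψ ∪ (S.toSys.R : Set G) ∪ {S.t}) = ⊤) :
    Core hF Φ hlk G where
  ψ := S.ψ
  t := S.t
  d := S.d
  R := S.toSys.R
  Z := Set.range fun x : F => S.cv (Pi.single l x)
  α := S.α
  π := S.π
  πψ := S.πψ
  πt := S.πt
  tFix := S.tFix
  tζ := S.t_zeta
  tt := S.tt
  Rψ := fun a _ hr => S.toSys.R_conj a hr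
  Rd := fun _ hr => S.d_R hr
  dN := S.dN
  dψ := S.dψ
  πd := S.πd
  d_inj := S.d_inj
  td := S.td
  tsq := S.tsq
  th := S.th _
  MR := fun _ hw => S.toSys.M_mem hw
  ZR := by rintro _ ⟨x, rfl⟩; exact S.toSys.cv_mem _
  Zc := by rintro _ ⟨x, rfl⟩ j hj; exact S.line_tj x j hj
  Zt := by
    rintro _ ⟨x, rfl⟩
    rcases S.Zt S.toSys.R S.toSys.cv_mem x with h | ⟨y, hy, x', e⟩
    · exact Or.inl h
    · exact Or.inr ⟨y, hy, _, ⟨x', rfl⟩, e⟩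
  tR := fun r hr => by
    obtain ⟨y, hy, γ, e⟩ := S.toSys.exists_split_R (S.inner S.toSys.R)
      (fun w hw => S.mem_inner_cv _ S.toSys.cv_mem hw)
      (fun a w hw => S.mem_inner_M _ (fun w hw => S.toSys.M_mem hw) (fun a _ h => S.toSys.R_conj a h) a hw) hr
    exact ⟨y, hy.1, _, ⟨γ, rfl⟩, e, hy.2⟩
  Re := fun r hr i => by
    have h := (S.toSys.π_mem_radE hr).1 (Pi.single i 1)
    rwa [vE_one] at h
  Rinj := fun _ hr h => S.toSys.R_inj hr h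
  gen := hgen

/-- The homomorphism is injective in the case without an anisotropic vector. -/
theorem inj (hgen : Subgroup.closure (Set.range S.ψ ∪ (S.toSys.R : Set G) ∪ {S.t}) = ⊤) : Function.Injective S.π :=
  (S.toCore hgen).inj

end DSys

end Cfsg.Agent.SUNPresent
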