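/-
The case of an anisotropic vector.

* `fM`: the root element moving the anisotropic vector.
* `OSys`: the relations of a second root element.
* `OSys.mul_fv`, `OSys.spec_all`, `OSys.inj`: the unipotent group, the rank one step and injectivity.
-/
import Cfsg.Agent.Lib.SUNPresent.Diag

set_option autoImplicit false
set_option linter.unusedSectionVars false
set_option linter.unusedSimpArgs false

open Matrix

namespace Cfsg.Agent.SUNPresent

open Cfsg.Agent.Unitary Cfsg.Agent.UFus Cfsg.Agent.UnitaryBN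

local notation "tv" => Matrix.SpecialLinearGroup.transvection

/-- The constants of the second root element. -/
structure OConst {F : Type*} [Field F] [Fintype F] {q n m : ℕ} (hF : Fintype.card F = q ^ 2) (Φ : Frame n F q m) where
  a0 : F
  b0 : F
  ha0 : a0 ≠ 0
  huu : Cfsg.hermForm n F q Φ.u Φ.u = 1
  hab : b0 + b0 ^ q + a0 ^ (q + 1) = 0

namespace OConst

variable {F : Type*} [Field F] [Fintype F] {q n m : ℕ} {hF : Fintype.card F = q ^ 2} {Φ : Frame n F q m}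
  (O : OConst hF Φ)

theorem ok (v : Fin m → F) : Ok q (vE Φ v) (O.a0 • Φ.u) O.b0 := by
  have H := hermForm_isHerm hF n
  refine ⟨h_vv hF Φ v v, by rw [H.smul_left, h_uv hF, mul_zero], ?_⟩
  rw [H.smul_left, H.smul_right, O.huu, mul_one]
  linear_combination O.hab

/-- The root element moving the anisotropic vector. -/
noncomputable def fM (v : Fin m → F) : Cfsg.SU n F q := eich hF (O.ok v)

theorem fM_e (v : Fin m → F) (i : Fin m) : suAct (O.fM v) (Φ.e i) = Φ.e i := by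
  rw [fM, suAct_eich, (hermForm_isHerm hF n).smul_right, Φ.eu, h_ev hF]; simp

theorem fM_vE (v w : Fin m → F) : suAct (O.fM v) (vE Φ w) = vE Φ w := by
  rw [fM, suAct_eich, (hermForm_isHerm hF n).smul_right, h_vu hF, h_vv hF]; simp

theorem fM_u (v : Fin m → F) : suAct (O.fM v) Φ.u = Φ.u + O.a0 ^ q • vE Φ v := by
  rw [fM, suAct_eich, (hermForm_isHerm hF n).smul_right, O.huu, h_uv hF]; simp

theorem fM_f (v : Fin m → F) (i : Fin m) :
    suAct (O.fM v) (Φ.f i) = Φ.f i + (O.b0 * v i ^ q) • vE Φ v - (O.a0 * v i ^ q) • Φ.u := by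
  rw [fM, suAct_eich, (hermForm_isHerm hF n).smul_right, Φ.fu, h_fv hF, mul_zero, zero_add, smul_smul,
    mul_comm (v i ^ q)]

theorem fM_zero : O.fM 0 = 1 := suAct_ext fun x => by
  rw [fM, suAct_eich, suAct_one, vE_zero, (hermForm_isHerm hF n).zero_right hF]; simp

theorem psi0_fM (a : Matrix.SpecialLinearGroup (Fin m) F) (v : Fin m → F) :
    psi0 hF Φ a * O.fM v * (psi0 hF Φ a)⁻¹ = O.fM (ap a v) := by
  rw [fM, eich_conj hF]
  exact eich_congr hF _ _ (psi0_vE hF Φ a v) (by rw [suAct_smul, psi0_u]) rfl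

end OConst

/-- The relations of the second root element. -/
structure OSys {F : Type*} [Field F] [Fintype F] {q n m : ℕ} (hF : Fintype.card F = q ^ 2) (Φ : Frame n F q m)
    {l k : Fin m} (hlk : l ≠ k) (G : Type*) [Group G] extends DSys hF Φ hlk G where
  O : OConst hF Φ
  u : G
  hκ : -(O.b0 ^ q) / O.b0 = (θ : F) ^ q / (θ : F)
  πu : π u = O.fM (Pi.single l 1)
  uStab : ∀ g, ap g (Pi.single l 1) = Pi.single l 1 → Commute (ψ g) u
  uComm : ∀ w, w l = 0 → Commute c (cvF hlk ψ u w)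
  uP : ∀ w, w l = 0 → ∃ y ∈ Subgroup.closure (Set.range (cvF hlk ψ c)),
    cvF hlk ψ u (Pi.single l 1 + w) = u * cvF hlk ψ u w * y
  tu : ∀ w, w l = 0 → Commute t (cvF hlk ψ u w)
  du : d * u * d⁻¹ = cvF hlk ψ u (Pi.single l (γ : F))
  hT : ∃ a1 x1 a2 x2 : F, t * u * t⁻¹ = cvF hlk ψ u (Pi.single l a1) * cvF hlk ψ c (Pi.single l x1) * d * t *
    (cvF hlk ψ u (Pi.single l a2) * cvF hlk ψ c (Pi.single l x2))

namespace OSys

variable {F : Type*} [Field F] [Fintype F] {q n m : ℕ} {hF : Fintype.card F = q ^ 2} {Φ : Frame n F q m}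
  {l k : Fin m} {hlk : l ≠ k} {G : Type*} [Group G] (S : OSys hF Φ hlk G)

/-- The conjugates of `c`. -/
noncomputable abbrev cv (v : Fin m → F) : G := S.toDSys.toSys.cv v

/-- The abelian group of the conjugates of `c`. -/
abbrev R : Subgroup G := S.toDSys.toSys.R

/-- The conjugates of `u`. -/
noncomputable def fv (v : Fin m → F) : G := cvF hlk S.ψ S.u v

theorem fv_zero : S.fv 0 = 1 := by simp [fv, cvF]

theorem fv_eq {g : Matrix.SpecialLinearGroup (Fin m) F} {v : Fin m → F} (hg : ap g (Pi.single l 1) = v) :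
    S.fv v = S.ψ g * S.u * (S.ψ g)⁻¹ := by
  have hv : v ≠ 0 := hg ▸ ap_ne_zero g (fun e => one_ne_zero (α := F) (by simpa using congrFun e l))
  rw [fv, cvF, dif_neg hv]
  set g' := (exists_first hlk hv).choose
  have hg' : ap g' (Pi.single l 1) = v := (exists_first hlk hv).choose_spec
  have h1 : Commute (S.ψ (g⁻¹ * g')) S.u := S.uStab _ (by rw [ap_mul, hg', ← hg, ap_inv_ap])
  have e : S.ψ g' = S.ψ g * S.ψ (g⁻¹ * g') := by rw [← map_mul, mul_inv_cancel_left]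
  rw [e, _root_.mul_inv_rev, mul_assoc (S.ψ g), h1.eq]
  group

theorem fv_l : S.fv (Pi.single l 1) = S.u := by
  rw [S.fv_eq (g := 1) (ap_one _), map_one]; group

theorem fv_conj (g : Matrix.SpecialLinearGroup (Fin m) F) (v : Fin m → F) :
    S.ψ g * S.fv v * (S.ψ g)⁻¹ = S.fv (ap g v) := by
  rcases eq_or_ne v 0 with rfl | hv
  · rw [ap_zero, fv_zero, mul_one, mul_inv_cancel]
  obtain ⟨g', hg'⟩ := exists_first hlk hv
  rw [S.fv_eq hg', S.fv_eq (g := g * g') (by rw [ap_mul, hg']), map_mul]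
  group

theorem π_fv (v : Fin m → F) : S.π (S.fv v) = S.O.fM v := by
  rcases eq_or_ne v 0 with rfl | hv
  · rw [fv_zero, map_one, S.O.fM_zero]
  obtain ⟨g, hg⟩ := exists_first hlk hv
  rw [S.fv_eq hg, map_mul, map_mul, map_inv, S.πψ, S.πu, OConst.psi0_fM, hg]

theorem P_single (i : Fin m) (a : F) {x : Fin m → F} (hx : x i = 0) :
    ∃ y ∈ S.R, S.fv (Pi.single i a + x) = S.fv (Pi.single i a) * S.fv x * y := by
  rcases eq_or_ne a 0 with rfl | ha
  · exact ⟨1, one_mem _, by rw [Pi.single_zero, fv_zero, zero_add, mul_one, one_mul]⟩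
  obtain ⟨g, g1, g2⟩ := exists_mono (F := F) hlk i (Units.mk0 a ha)
  rw [Units.val_mk0] at g1
  have hw : ap g⁻¹ x l = 0 := by
    have := g2 (ap g⁻¹ x)
    rw [ap_ap_inv, hx, Units.val_mk0] at this
    exact (mul_eq_zero.1 this.symm).resolve_left ha
  obtain ⟨y, hy, e⟩ := S.uP _ hw
  refine ⟨S.ψ g * y * (S.ψ g)⁻¹, S.toDSys.toSys.R_conj g hy, ?_⟩
  have e1 : S.fv (Pi.single i a + x) = S.ψ g * S.fv (Pi.single l 1 + ap g⁻¹ x) * (S.ψ g)⁻¹ := by
    rw [S.fv_conj, ap_add, g1, ap_ap_inv]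
  have e2 : S.fv (Pi.single i a) = S.ψ g * S.u * (S.ψ g)⁻¹ := S.fv_eq g1
  have e3 : S.fv x = S.ψ g * S.fv (ap g⁻¹ x) * (S.ψ g)⁻¹ := by rw [S.fv_conj, ap_ap_inv]
  have e' : S.fv (Pi.single l 1 + ap g⁻¹ x) = S.u * S.fv (ap g⁻¹ x) * y := e
  rw [e1, e2, e3, e']
  group

theorem c_central (v : Fin m → F) : Commute S.c (S.fv v) := by
  have off : ∀ {v : Fin m → F} {i : Fin m}, i ≠ l → v i ≠ 0 → Commute S.c (S.fv v) := by
    intro v i hi hvi
    set w := v - Pi.single l (v l) with hw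
    have hwl : w l = 0 := by simp [hw]
    have hwi : w i = v i := by simp [hw, hi]
    set g := rowE l (Pi.single i (v l / w i))
    have hgl : ap g (Pi.single l 1) = Pi.single l 1 := by
      rw [ap_rowE, killAt_of (Pi.single_eq_of_ne (Ne.symm hi) _), single_dotProduct, Pi.single_eq_of_ne hi, mul_zero,
        Pi.single_zero, add_zero]
    have hgw : ap g w = v := by
      rw [ap_rowE, killAt_of (Pi.single_eq_of_ne (Ne.symm hi) _), single_dotProduct,
        div_mul_cancel₀ _ (hwi ▸ hvi), hw, sub_add_cancel]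
    have hc : S.ψ g * S.c * (S.ψ g)⁻¹ = S.c := by rw [(S.cStab g hgl).eq, mul_inv_cancel_right]
    rw [← hgw, ← S.fv_conj g w, ← hc]
    exact (S.uComm w hwl).map (MulAut.conj (S.ψ g)).toMonoidHom
  by_cases h : ∃ i, i ≠ l ∧ v i ≠ 0
  · obtain ⟨i, hi, hvi⟩ := h; exact off hi hvi
  push Not at h
  have hv : v = Pi.single l (v l) := funext fun i => by
    by_cases hi : i = l
    · subst hi; simp
    · rw [Pi.single_eq_of_ne hi, h i hi]
  rw [hv]
  obtain ⟨y, hy, e⟩ := S.P_single k 1 (x := Pi.single l (v l)) (Pi.single_eq_of_ne hlk.symm _)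
  have hyc : Commute S.c y := S.toDSys.toSys.R_comm _ (by simpa [Sys.cv_l] using S.toDSys.toSys.cv_mem (Pi.single l 1)) _ hy
  rw [show S.fv (Pi.single l (v l)) =
    (S.fv (Pi.single k 1))⁻¹ * S.fv (Pi.single k 1 + Pi.single l (v l)) * y⁻¹ by rw [e]; group]
  exact (((off hlk.symm (by simp)).inv_right).mul_right (off hlk.symm (by simp [hlk.symm]))).mul_right hyc.inv_right

theorem R_central {y : G} (hy : y ∈ S.R) (v : Fin m → F) : Commute y (S.fv v) := by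
  induction hy using Subgroup.closure_induction with
  | mem x hx =>
    obtain ⟨w, rfl⟩ := hx
    rcases eq_or_ne w 0 with rfl | hw
    · rw [Sys.cv_zero]; exact Commute.one_left _
    obtain ⟨g, hg⟩ := exists_first hlk hw
    rw [← ap_ap_inv g v, ← S.fv_conj g (ap g⁻¹ v), S.toDSys.toSys.cv_eq hg]
    exact (S.c_central _).map (MulAut.conj (S.ψ g)).toMonoidHom
  | one => exact Commute.one_left _
  | mul a b _ _ ha hb => exact ha.mul_left hb
  | inv a _ ha => exact ha.inv_left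

/-- Congruence modulo the central part. -/
def Cg (x y : G) : Prop := ∃ r ∈ S.R, x = y * r

theorem mul_single (i : Fin m) (a : F) (w : Fin m → F) :
    S.Cg (S.fv (Pi.single i a) * S.fv w) (S.fv (Pi.single i a + w)) := by
  set b := w i
  set w' := w - Pi.single i b with hw'
  have hw'i : w' i = 0 := by simp [hw', b]
  have hw : w = Pi.single i b + w' := by simp [hw']
  obtain ⟨y1, hy1, e1⟩ := S.P_single i b hw'i
  obtain ⟨y2, hy2, e2⟩ := S.P_single i (a + b) hw'i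
  -- addition on one line
  obtain ⟨p, hip⟩ := exists_other hlk i
  obtain ⟨y3, hy3, e3⟩ := S.P_single i a (x := Pi.single p 1) (Pi.single_eq_of_ne hip _)
  obtain ⟨y4, hy4, e4⟩ := S.P_single i b (x := Pi.single p 1) (Pi.single_eq_of_ne hip _)
  obtain ⟨y5, hy5, e5⟩ := S.P_single i (a + b) (x := Pi.single p 1) (Pi.single_eq_of_ne hip _)
  have hline : ∃ r ∈ S.R, S.fv (Pi.single i a) * S.fv (Pi.single i b) = S.fv (Pi.single i (a + b)) * r := by
    set g : Matrix.SpecialLinearGroup (Fin m) F := tv hip b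
    have g1 : ap g (Pi.single i a) = Pi.single i a := by
      rw [ap_tv, Pi.single_eq_of_ne hip.symm, mul_zero, Pi.single_zero, add_zero]
    have g2 : ap g (Pi.single p 1) = Pi.single i b + Pi.single p 1 := by
      rw [ap_tv, Pi.single_eq_same, mul_one, add_comm]
    have h := congrArg (fun x => S.ψ g * x * (S.ψ g)⁻¹) e3
    try simp only at h
    rw [show S.ψ g * (S.fv (Pi.single i a) * S.fv (Pi.single p 1) * y3) * (S.ψ g)⁻¹ =
      (S.ψ g * S.fv (Pi.single i a) * (S.ψ g)⁻¹) * (S.ψ g * S.fv (Pi.single p 1) * (S.ψ g)⁻¹) *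
        (S.ψ g * y3 * (S.ψ g)⁻¹) by group, S.fv_conj, S.fv_conj, S.fv_conj, ap_add, g1, g2, ← add_assoc,
      ← Pi.single_add, e5, e4] at h
    set y3' := S.ψ g * y3 * (S.ψ g)⁻¹
    have hy3' : y3' ∈ S.R := S.toDSys.toSys.R_conj g hy3
    refine ⟨y5 * (y4 * y3')⁻¹, mul_mem hy5 (inv_mem (mul_mem hy4 hy3')), ?_⟩
    have hc : Commute (y5 * (y4 * y3')⁻¹) (S.fv (Pi.single p 1)) :=
      S.R_central (mul_mem hy5 (inv_mem (mul_mem hy4 hy3'))) _
    calc S.fv (Pi.single i a) * S.fv (Pi.single i b)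
        = (S.fv (Pi.single i a) * (S.fv (Pi.single i b) * S.fv (Pi.single p 1) * y4) * y3') * (y4 * y3')⁻¹ *
            (S.fv (Pi.single p 1))⁻¹ := by group
      _ = S.fv (Pi.single i (a + b)) * (S.fv (Pi.single p 1) * (y5 * (y4 * y3')⁻¹)) * (S.fv (Pi.single p 1))⁻¹ := by
          rw [← h]; group
      _ = _ := by rw [← hc.eq]; group
  obtain ⟨r, hr, e⟩ := hline
  refine ⟨y2⁻¹ * (r * y1), mul_mem (inv_mem hy2) (mul_mem hr hy1), ?_⟩
  rw [hw, e1, ← add_assoc, ← Pi.single_add, e2]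
  calc S.fv (Pi.single i a) * (S.fv (Pi.single i b) * S.fv w' * y1)
      = (S.fv (Pi.single i a) * S.fv (Pi.single i b)) * S.fv w' * y1 := by group
    _ = S.fv (Pi.single i (a + b)) * (r * S.fv w') * y1 := by rw [e]; group
    _ = _ := by rw [(S.R_central hr w').eq]; group

/-- Addition modulo the central part. -/
theorem mul_fv (v w : Fin m → F) : S.Cg (S.fv v * S.fv w) (S.fv (v + w)) := by
  rw [← Finset.univ_sum_single v]
  induction (Finset.univ : Finset (Fin m)) using Finset.induction_on generalizing w with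
  | empty => exact ⟨1, one_mem _, by rw [Finset.sum_empty, fv_zero, zero_add, one_mul, mul_one]⟩
  | insert i s hi ih =>
    rw [Finset.sum_insert hi]
    set x := ∑ j ∈ s, Pi.single j (v j)
    obtain ⟨r1, hr1, e1⟩ := S.P_single i (v i) (x := x) (by
      show (∑ j ∈ s, Pi.single j (v j)) i = 0
      rw [Finset.sum_apply]; exact Finset.sum_eq_zero fun j hj => Pi.single_eq_of_ne (fun e => hi (by rwa [e])) _)
    obtain ⟨r2, hr2, e2⟩ := ih w
    obtain ⟨r3, hr3, e3⟩ := S.mul_single i (v i) (x + w)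
    refine ⟨r3 * (r2 * r1), mul_mem hr3 (mul_mem hr2 hr1), ?_⟩
    calc S.fv (Pi.single i (v i) + x) * S.fv w
        = S.fv (Pi.single i (v i)) * (S.fv x * (r1 * S.fv w)) := by rw [e1]; group
      _ = S.fv (Pi.single i (v i)) * (S.fv x * S.fv w) * r1 := by rw [(S.R_central hr1 w).eq]; group
      _ = (S.fv (Pi.single i (v i)) * S.fv (x + w)) * (r2 * r1) := by rw [e2]; group
      _ = _ := by rw [e3, add_assoc]; group

/-- The unipotent group. -/
def Q : Subgroup G where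
  carrier := {g | ∃ v, ∃ r ∈ S.R, g = S.fv v * r}
  one_mem' := ⟨0, 1, one_mem _, by rw [fv_zero, one_mul]⟩
  mul_mem' := by
    rintro _ _ ⟨v, r, hr, rfl⟩ ⟨w, r', hr', rfl⟩
    obtain ⟨r'', hr'', e⟩ := S.mul_fv v w
    refine ⟨v + w, r'' * (r * r'), mul_mem hr'' (mul_mem hr hr'), ?_⟩
    calc S.fv v * r * (S.fv w * r') = S.fv v * (r * S.fv w) * r' := by group
      _ = (S.fv v * S.fv w) * (r * r') := by rw [(S.R_central hr w).eq]; group
      _ = _ := by rw [e]; group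
  inv_mem' := by
    rintro _ ⟨v, r, hr, rfl⟩
    obtain ⟨r', hr', e⟩ := S.mul_fv v (-v)
    rw [add_neg_cancel, fv_zero, one_mul] at e
    refine ⟨-v, r'⁻¹ * r⁻¹, mul_mem (inv_mem hr') (inv_mem hr), ?_⟩
    have hc : Commute r⁻¹ (S.fv (-v) * r'⁻¹) :=
      (S.R_central (inv_mem hr) _).mul_right (S.toDSys.toSys.R_comm _ (inv_mem hr) _ (inv_mem hr'))
    rw [← e]
    calc (S.fv v * r)⁻¹ = r⁻¹ * (S.fv v)⁻¹ := by group
      _ = r⁻¹ * (S.fv (-v) * (S.fv v * S.fv (-v))⁻¹) := by group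
      _ = _ := by rw [e, hc.eq]; group

theorem R_le_Q {r : G} (hr : r ∈ S.R) : r ∈ S.Q := ⟨0, r, hr, by rw [fv_zero, one_mul]⟩

theorem fv_mem_Q (v : Fin m → F) : S.fv v ∈ S.Q := ⟨v, 1, one_mem _, by rw [mul_one]⟩

theorem Q_conj (a : Matrix.SpecialLinearGroup (Fin m) F) {r : G} (hr : r ∈ S.Q) : S.ψ a * r * (S.ψ a)⁻¹ ∈ S.Q := by
  obtain ⟨v, r, hr, rfl⟩ := hr
  exact ⟨ap a v, _, S.toDSys.toSys.R_conj a hr, by rw [← S.fv_conj]; group⟩

theorem du_line {x : F} (hx : x ≠ 0) :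
    S.d * S.fv (Pi.single l x) * S.d⁻¹ = S.fv (Pi.single l ((S.γ : F) * x)) := by
  have e : ap (hd hlk (Units.mk0 x hx)) (Pi.single l 1) = Pi.single l x := by
    rw [ap_hd_single, if_pos rfl, mul_one, Units.val_mk0]
  have e' : ap (hd hlk (Units.mk0 x hx)) (Pi.single l (S.γ : F)) = Pi.single l ((S.γ : F) * x) := by
    rw [ap_hd_single, if_pos rfl, Units.val_mk0, mul_comm]
  rw [S.fv_eq e, ← e', ← S.fv_conj, show S.fv (Pi.single l (S.γ : F)) = S.d * S.u * S.d⁻¹ from S.du.symm]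
  have hc := S.toDSys.d_hd (Units.mk0 x hx)
  set A := S.ψ (hd hlk (Units.mk0 x hx))
  calc S.d * (A * S.u * A⁻¹) * S.d⁻¹ = (S.d * A) * S.u * (A⁻¹ * S.d⁻¹) := by group
    _ = _ := by rw [hc.eq, hc.inv_inv.symm.eq]; group

theorem d_Q {r : G} (hr : r ∈ S.Q) : S.d * r * S.d⁻¹ ∈ S.Q := by
  obtain ⟨v, r, hr, rfl⟩ := hr
  rw [show S.d * (S.fv v * r) * S.d⁻¹ = (S.d * S.fv v * S.d⁻¹) * (S.d * r * S.d⁻¹) by group]
  refine mul_mem ?_ (S.R_le_Q (S.toDSys.d_R hr))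
  rcases eq_or_ne v 0 with rfl | hv
  · rw [fv_zero, mul_one, mul_inv_cancel]; exact one_mem _
  obtain ⟨g, hg⟩ := exists_first hlk hv
  rw [S.fv_eq hg, show S.d * (S.ψ g * S.u * (S.ψ g)⁻¹) * S.d⁻¹ =
    (S.d * S.ψ g * S.d⁻¹) * (S.d * S.u * S.d⁻¹) * (S.d * S.ψ g * S.d⁻¹)⁻¹ by group, S.dψ, S.du]
  exact S.Q_conj _ (S.fv_mem_Q _)

theorem π_Q_vE {r : G} (hr : r ∈ S.Q) (w : Fin m → F) : suAct (S.π r) (vE Φ w) = vE Φ w := by
  obtain ⟨v, r, hr, rfl⟩ := hr
  rw [map_mul, suAct_mul, (S.toDSys.toSys.π_mem_radE hr).1, π_fv, S.O.fM_vE]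

theorem Q_inj {r : G} (hr : r ∈ S.Q) (h : S.π r = 1) : r = 1 := by
  obtain ⟨v, r, hr, rfl⟩ := hr
  have hu := congrArg (fun g => suAct g Φ.u) h
  simp only [suAct_one, map_mul, suAct_mul, π_fv] at hu
  rw [(S.toDSys.toSys.π_mem_radE hr).2.1, S.O.fM_u, add_eq_left, ← vE_smul, ← vE_zero Φ] at hu
  have hv : v = 0 := (smul_eq_zero.1 (vE_injective hF Φ hu)).resolve_left (pow_ne_zero _ S.O.ha0)
  subst hv
  rw [fv_zero, one_mul] at h ⊢
  exact S.toDSys.toSys.R_inj hr h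

/-- An element of the root group at `l`. -/
noncomputable def zz (a x : F) : G := S.fv (Pi.single l a) * S.cv (Pi.single l x)

/-- The root group at `l`. -/
def Z : Set G := {g | ∃ a x, g = S.zz a x}

theorem zz_mem (a x : F) : S.zz a x ∈ S.Z := ⟨a, x, rfl⟩

theorem Z_Q {g : G} (hg : g ∈ S.Z) : g ∈ S.Q := by
  obtain ⟨a, x, rfl⟩ := hg
  exact mul_mem (S.fv_mem_Q _) (S.R_le_Q (S.toDSys.toSys.cv_mem _))

theorem zz_mul_cv (a x y : F) : ∃ z, S.zz a x * S.cv (Pi.single l y) = S.zz a z := by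
  obtain ⟨z, hz⟩ := S.toDSys.line_mul x y
  exact ⟨z, by rw [zz, zz, mul_assoc]; exact congrArg _ hz⟩

/-- The torus. -/
def TT : Subgroup G := Subgroup.closure (Set.range (fun u : Fˣ => S.ψ (hd hlk u)) ∪ {S.d})

theorem TT_le : S.TT ≤ PF S.ψ S.d S.Q := by
  rw [TT, Subgroup.closure_le]
  rintro _ (⟨u, rfl⟩ | rfl)
  · exact S.toDSys.ψ_mem_PF _ _
  · exact Subgroup.mem_sup_left (Subgroup.mem_sup_right (Subgroup.mem_zpowers _))

theorem t_TT {T : G} (hT : T ∈ S.TT) : S.t * T * S.t⁻¹ ∈ S.TT := by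
  have hd' : S.d ∈ S.TT := Subgroup.subset_closure (Or.inr rfl)
  refine (Subgroup.closure_le (S.TT.comap (MulAut.conj S.t).toMonoidHom)).2 ?_ hT
  rintro _ (⟨u, rfl⟩ | rfl)
  · show S.t * S.ψ (hd hlk u) * S.t⁻¹ ∈ S.TT
    obtain ⟨s, hs⟩ := S.toDSys.exists_H u
    rw [hs]
    exact mul_mem (Subgroup.subset_closure (Or.inl ⟨u, rfl⟩)) (zpow_mem hd' s)
  · show S.t * S.d * S.t⁻¹ ∈ S.TT
    exact (Subgroup.zpowers_le.2 hd') S.td

theorem TT_fin {x : G} (hx : x ∈ S.TT) : ∃ (u : Fˣ) (i : ℕ), x = S.ψ (hd hlk u) * S.d ^ i := by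
  induction hx using Subgroup.closure_induction with
  | mem y hy =>
    rcases hy with ⟨u, rfl⟩ | rfl
    · exact ⟨u, 0, by rw [pow_zero, mul_one]⟩
    · exact ⟨1, 1, by rw [show (hd hlk (1 : Fˣ) : Matrix.SpecialLinearGroup (Fin m) F) = 1 from
        map_one (hdHom hlk), map_one, one_mul, pow_one]⟩
  | one => exact ⟨1, 0, by rw [show (hd hlk (1 : Fˣ) : Matrix.SpecialLinearGroup (Fin m) F) = 1 from
      map_one (hdHom hlk), map_one, pow_zero, mul_one]⟩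
  | mul a b _ _ ha hb =>
    obtain ⟨u, i, rfl⟩ := ha
    obtain ⟨u', i', rfl⟩ := hb
    refine ⟨u * u', i + i', ?_⟩
    rw [hd_mul, map_mul, pow_add, mul_assoc (S.ψ _), ← mul_assoc (S.d ^ i), ((S.toDSys.d_hd u').pow_left i).eq]
    group
  | inv a _ ha =>
    obtain ⟨u, i, rfl⟩ := ha
    obtain ⟨j, hj⟩ : ∃ j : ℕ, (S.d ^ i)⁻¹ = S.d ^ j := by
      obtain ⟨N, hN, hN'⟩ := S.toDSys.dN.exists_pow_eq_one
      refine ⟨i * (N - 1), inv_eq_of_mul_eq_one_right ?_⟩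
      rw [← pow_add, show i + i * (N - 1) = N * i by
        obtain ⟨N', rfl⟩ : ∃ N', N = N' + 1 := ⟨N - 1, by omega⟩
        rw [Nat.add_sub_cancel]; ring, pow_mul, hN', one_pow]
    refine ⟨u⁻¹, j, ?_⟩
    rw [_root_.mul_inv_rev, hj, ← map_inv S.ψ, ← hdHom_apply hlk u, ← map_inv, hdHom_apply,
      ((S.toDSys.d_hd u⁻¹).pow_left j).eq]

theorem TT_Z {T g : G} (hT : T ∈ S.TT) (hg : g ∈ S.Z) : T * g * T⁻¹ ∈ S.Z := by
  obtain ⟨u, i, rfl⟩ := S.TT_fin hT
  have hd1 : ∀ g ∈ S.Z, S.d * g * S.d⁻¹ ∈ S.Z := by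
    rintro _ ⟨a, x, rfl⟩
    have e1 : ∀ a : F, S.d * S.fv (Pi.single l a) * S.d⁻¹ = S.fv (Pi.single l ((S.γ : F) * a)) := fun a => by
      rcases eq_or_ne a 0 with rfl | ha
      · rw [mul_zero, Pi.single_zero, fv_zero, mul_one, mul_inv_cancel]
      · exact S.du_line ha
    have e2 : ∀ x : F, S.d * S.cv (Pi.single l x) * S.d⁻¹ = S.cv (Pi.single l ((S.γ : F) * x)) := fun x => by
      rcases eq_or_ne x 0 with rfl | hx
      · rw [mul_zero, Pi.single_zero]; show S.d * S.toDSys.toSys.cv 0 * S.d⁻¹ = S.toDSys.toSys.cv 0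
        rw [Sys.cv_zero, mul_one, mul_inv_cancel]
      · exact S.toDSys.dc_line hx
    exact ⟨(S.γ : F) * a, (S.γ : F) * x, by rw [zz, zz, ← e1, ← e2]; group⟩
  have hdi : S.d ^ i * g * (S.d ^ i)⁻¹ ∈ S.Z := by
    clear hT
    induction i with
    | zero => simpa using hg
    | succ i ih =>
      have := hd1 _ ih
      rwa [show S.d * (S.d ^ i * g * (S.d ^ i)⁻¹) * S.d⁻¹ = S.d ^ (i + 1) * g * (S.d ^ (i + 1))⁻¹ by
        rw [pow_succ']; group] at this
  rw [show S.ψ (hd hlk u) * S.d ^ i * g * (S.ψ (hd hlk u) * S.d ^ i)⁻¹ =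
    S.ψ (hd hlk u) * (S.d ^ i * g * (S.d ^ i)⁻¹) * (S.ψ (hd hlk u))⁻¹ by group]
  obtain ⟨a, x, e⟩ := hdi
  refine ⟨(u : F) * a, (u : F) * x, ?_⟩
  rw [e, zz, zz, show S.ψ (hd hlk u) * (S.fv (Pi.single l a) * S.cv (Pi.single l x)) * (S.ψ (hd hlk u))⁻¹ =
    (S.ψ (hd hlk u) * S.fv (Pi.single l a) * (S.ψ (hd hlk u))⁻¹) *
      (S.ψ (hd hlk u) * S.toDSys.toSys.cv (Pi.single l x) * (S.ψ (hd hlk u))⁻¹) by group, S.fv_conj,
    Sys.cv_conj, ap_hd_single, if_pos rfl, ap_hd_single, if_pos rfl]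

/-- The coordinate on the anisotropic vector. -/
def az (g : G) : F := Cfsg.hermForm n F q (suAct (S.π g) (Φ.f l)) Φ.u

/-- The coordinate on `e l`. -/
def bz (g : G) : F := Cfsg.hermForm n F q (suAct (S.π g) (Φ.f l)) (Φ.f l)

theorem act_zz (a x : F) :
    suAct (S.π (S.zz a x)) (Φ.f l) = Φ.f l + (S.O.b0 * a ^ (q + 1) + skew hF * x ^ (q + 1)) • Φ.e l -
      (S.O.a0 * a ^ q) • Φ.u ∧
    suAct (S.π (S.zz a x)) (Φ.e l) = Φ.e l ∧
    suAct (S.π (S.zz a x)) Φ.u = Φ.u + (S.O.a0 ^ q * a) • Φ.e l := by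
  have hc : S.π (S.cv (Pi.single l x)) = cM hF Φ (Pi.single l x) := S.toDSys.toSys.π_cv _
  refine ⟨?_, ?_, ?_⟩ <;> rw [zz, map_mul, suAct_mul, π_fv, hc]
  · rw [cM_f, Pi.single_eq_same, suAct_add, suAct_smul, S.O.fM_vE, S.O.fM_f, Pi.single_eq_same, vE_single,
      vE_single, smul_smul, smul_smul]
    rw [pow_succ, pow_succ]
    module
  · rw [cM_e, S.O.fM_e]
  · rw [cM_u, S.O.fM_u, vE_single, smul_smul]

theorem az_zz (a x : F) : S.az (S.zz a x) = -(S.O.a0 * a ^ q) := by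
  have H := hermForm_isHerm hF n
  rw [az, (S.act_zz a x).1, H.sub_left, H.add_left, H.smul_left, H.smul_left, Φ.fu, Φ.eu, S.O.huu]; ring

theorem bz_zz (a x : F) : S.bz (S.zz a x) = S.O.b0 * a ^ (q + 1) + skew hF * x ^ (q + 1) := by
  have H := hermForm_isHerm hF n
  rw [bz, (S.act_zz a x).1, H.sub_left, H.add_left, H.smul_left, H.smul_left, Φ.ff, Φ.ef, if_pos rfl, Φ.uf hF]; ring

theorem trace_zz (a x : F) : S.bz (S.zz a x) + S.bz (S.zz a x) ^ q + S.az (S.zz a x) ^ (q + 1) = 0 := by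
  simp only [az_zz, bz_zz, add_pow_q hF, mul_pow, pow_q_succ_fixed hF, skew_pow hF, pow_succ (-(S.O.a0 * a ^ q)),
    neg_pow_q hF, pow_q_pow_q hF]
  have h := S.O.hab
  simp only [pow_succ, mul_pow, pow_q_pow_q hF] at h ⊢
  linear_combination (a ^ q * a) * h

theorem zz_ext {a a' x x' : F} (h1 : S.az (S.zz a x) = S.az (S.zz a' x'))
    (h2 : S.bz (S.zz a x) = S.bz (S.zz a' x')) : S.zz a x = S.zz a' x' := by
  rw [az_zz, az_zz, neg_inj] at h1
  have ha : a = a' := pow_q_injective hF (mul_left_cancel₀ S.O.ha0 h1)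
  subst ha
  rw [bz_zz, bz_zz, add_right_inj] at h2
  have hx := mul_left_cancel₀ (skew_ne_zero hF) h2
  obtain ⟨τ, hτ⟩ := exists_trace_eq hF (c := (1 : F)) (one_pow q)
  have e : S.toDSys.toSys.C (Pi.single l x) = S.toDSys.toSys.C (Pi.single l x') := by
    rw [Sys.C_line _ l τ hτ, Sys.C_line _ l τ hτ, hx]
  rw [zz, zz]
  exact congrArg (S.fv (Pi.single l a) * ·) (congrArg S.toDSys.toSys.val e)

/-- The conjugate by the flip is in the big cell. -/
def Spec (g : G) : Prop := ∃ y ∈ PF S.ψ S.d S.Q, ∃ z ∈ S.Z, S.t * g * S.t⁻¹ = y * S.t * z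

theorem spec_conj {g T : G} (hT : T ∈ S.TT) (h : S.Spec g) : S.Spec (T * g * T⁻¹) := by
  obtain ⟨y, hy, z, hz, e⟩ := h
  set H := S.t * T * S.t⁻¹
  have hH : H ∈ S.TT := S.t_TT hT
  refine ⟨H * y * (S.t * H⁻¹ * S.t⁻¹), mul_mem (mul_mem (S.TT_le hH) hy) (S.TT_le (S.t_TT (inv_mem hH))),
    H * z * H⁻¹, S.TT_Z hH hz, ?_⟩
  rw [show S.t * (T * g * T⁻¹) * S.t⁻¹ = H * (S.t * g * S.t⁻¹) * H⁻¹ by simp only [H]; group, e]
  group

theorem π_PF {p : G} (hp : p ∈ PF S.ψ S.d S.Q) (v : Fin m → F) : ∃ w, suAct (S.π p) (vE Φ v) = vE Φ w := by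
  let T : Subgroup G :=
    { carrier := {g | (∀ v, ∃ w, suAct (S.π g) (vE Φ v) = vE Φ w) ∧ ∀ v, ∃ w, suAct (S.π g⁻¹) (vE Φ v) = vE Φ w}
      one_mem' := ⟨fun v => ⟨v, by rw [map_one, suAct_one]⟩, fun v => ⟨v, by rw [inv_one, map_one, suAct_one]⟩⟩
      mul_mem' := fun {a b} ha hb => ⟨fun v => by
          obtain ⟨w, hw⟩ := hb.1 v
          obtain ⟨w', hw'⟩ := ha.1 w
          exact ⟨w', by rw [map_mul, suAct_mul, hw, hw']⟩,
        fun v => by
          obtain ⟨w, hw⟩ := ha.2 v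
          obtain ⟨w', hw'⟩ := hb.2 w
          exact ⟨w', by rw [_root_.mul_inv_rev, map_mul, suAct_mul, hw, hw']⟩⟩
      inv_mem' := fun {a} ha => ⟨ha.2, by rw [inv_inv]; exact ha.1⟩ }
  have hle : PF S.ψ S.d S.Q ≤ T := by
    refine sup_le (sup_le ?_ ?_) fun r hr => ⟨fun v => ⟨v, S.π_Q_vE hr v⟩, fun v => ⟨v, S.π_Q_vE (inv_mem hr) v⟩⟩
    · rintro _ ⟨a, rfl⟩
      exact ⟨fun v => ⟨_, by rw [S.πψ, psi0_vE]⟩, fun v => ⟨_, by rw [← map_inv, S.πψ, psi0_vE]⟩⟩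
    · rw [Subgroup.zpowers_le]
      have h1 : ∀ v, suAct (S.π S.d) (vE Φ v) = vE Φ (fun i => (if i = l then (S.α : F) else 1) * v i) := fun v => by
        simp only [vE, suAct, Matrix.mulVec_sum, Matrix.mulVec_smul]
        refine Finset.sum_congr rfl fun i _ => ?_
        have := S.πd i
        simp only [suAct] at this
        rw [this, smul_smul, mul_comm]
      refine ⟨fun v => ⟨_, h1 v⟩, fun v => ⟨fun i => (if i = l then (S.α : F)⁻¹ else 1) * v i, ?_⟩⟩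
      refine suAct_inj (S.π S.d) ?_
      rw [map_inv, suAct_suAct_inv, h1]
      congr 1
      funext i
      split_ifs <;> simp
  exact (hle hp).1 v

theorem param {g y : G} (hy : y ∈ PF S.ψ S.d S.Q) {a x a2 x2 : F} (hg : g = S.zz a x)
    (hb : S.bz g ≠ 0) (e : S.t * g * S.t⁻¹ = y * S.t * S.zz a2 x2) :
    S.bz (S.zz a2 x2) = -(skew hF ^ 2) / S.bz g ∧ S.az (S.zz a2 x2) = -(S.az g * skew hF) / S.bz g ^ q := by
  have H := hermForm_isHerm hF n
  subst hg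
  have hs : (skew hF : F) ≠ 0 := skew_ne_zero hF
  set b := S.bz (S.zz a x) with hbdef
  set a' := S.az (S.zz a x)
  set b2 := S.bz (S.zz a2 x2) with hb2def
  set a2' := S.az (S.zz a2 x2)
  have act : ∀ a x, suAct (S.π (S.zz a x)) (Φ.f l) = Φ.f l + S.bz (S.zz a x) • Φ.e l + S.az (S.zz a x) • Φ.u ∧
      suAct (S.π (S.zz a x)) (Φ.e l) = Φ.e l ∧
      suAct (S.π (S.zz a x)) Φ.u = Φ.u + (-(S.az (S.zz a x) ^ q)) • Φ.e l := fun a x => by
    obtain ⟨h1, h2, h3⟩ := S.act_zz a x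
    refine ⟨?_, h2, ?_⟩
    · rw [h1, az_zz, bz_zz, neg_smul, sub_eq_add_neg]
    · rw [h3, az_zz, neg_pow_q hF, mul_pow, pow_q_pow_q hF, neg_neg]
  -- the preimage of `f l` under the last factor
  set v := (1 : F) • Φ.f l + b2 ^ q • Φ.e l + (-a2') • Φ.u with hv
  have hinv : suAct (S.π (S.zz a2 x2)) v = Φ.f l := by
    obtain ⟨h1, h2, h3⟩ := act a2 x2
    rw [hv, suAct_add, suAct_add, suAct_smul, suAct_smul, suAct_smul, h1, h2, h3]
    have htr := S.trace_zz a2 x2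
    rw [← hb2def, pow_succ] at htr
    simp only [show S.bz (S.zz a2 x2) = b2 from rfl, show S.az (S.zz a2 x2) = a2' from rfl] at htr ⊢
    match_scalars <;> first | linear_combination htr | ring1
  -- so the image of `v` under the left hand side lies in the isotropic subspace
  have hM : suAct (S.π (S.t * S.zz a x * S.t⁻¹ * (S.zz a2 x2)⁻¹ * S.t⁻¹)) (Φ.e l) =
      suAct (S.π y) (Φ.e l) := by
    rw [e]; congr 2; group
  obtain ⟨w, hw⟩ := S.π_PF hy (Pi.single l 1)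
  rw [vE_one] at hw
  rw [hw] at hM
  obtain ⟨i1, i2⟩ := t0_inv hF Φ l
  have iu : suAct (t0 hF Φ l)⁻¹ Φ.u = Φ.u := suAct_inj (t0 hF Φ l) (by rw [suAct_suAct_inv, t0_u])
  have hz2 : suAct (S.π (S.zz a2 x2))⁻¹ (Φ.f l) = v := by rw [← hinv, suAct_inv_suAct]
  obtain ⟨h1, h2, h3⟩ := act a x
  simp only [map_mul, map_inv, suAct_mul, S.πt, i2, suAct_smul, hz2, hv, suAct_add, i1, iu, one_smul, h1, h2, h3,
    t0_e, t0_f, t0_u] at hM
  have eu := congrArg (fun z => Cfsg.hermForm n F q z Φ.u) hM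
  have ee := congrArg (fun z => Cfsg.hermForm n F q z (Φ.e l)) hM
  simp only [H.add_left, H.smul_left, H.sub_left, H.neg_left, h_vu hF, h_ve hF, Φ.eu, Φ.fu, Φ.ee, Φ.fe hF, Φ.ue hF, Φ.ef,
    Φ.ff, Φ.uf hF, S.O.huu, ↓reduceIte, mul_zero, add_zero, zero_add, mul_one] at eu ee
  have htr : b + b ^ q + a' ^ (q + 1) = 0 := S.trace_zz a x
  rw [pow_succ] at htr
  rw [mul_eq_zero, or_iff_right (inv_ne_zero hs)] at eu
  field_simp at ee eu
  have hbq : b ^ q ≠ 0 := pow_ne_zero _ hb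
  have k1 : b ^ q * b2 ^ q = -(skew hF ^ 2) := by
    linear_combination ee + b2 ^ q * htr - a' ^ q * eu
  have k2 : b2 * b = -(skew hF ^ 2) := by
    have := congrArg (· ^ q) k1
    simp only [mul_pow, pow_q_pow_q hF, neg_pow_q hF] at this
    rw [← pow_mul, mul_comm 2 q, pow_mul, skew_pow hF, neg_sq] at this
    linear_combination this
  refine ⟨by rw [eq_div_iff hb, k2], ?_⟩
  rw [eq_div_iff hbq]
  refine mul_left_cancel₀ hs ?_
  linear_combination -(b ^ q) * eu + a' * k1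

theorem spec_cv {x : F} (hx : x ≠ 0) : ∃ T ∈ S.TT, ∃ x', x' ≠ 0 ∧
    S.t * S.cv (Pi.single l x) * S.t⁻¹ = S.cv (Pi.single l x') * T * S.t * S.cv (Pi.single l x') := by
  set u := Units.mk0 x hx
  obtain ⟨s, hs⟩ := S.toDSys.exists_H u
  have hd' : S.d ∈ S.TT := Subgroup.subset_closure (Or.inr rfl)
  set H := S.ψ (hd hlk u) * S.d ^ s with hH
  have hHT : H ∈ S.TT := mul_mem (Subgroup.subset_closure (Or.inl ⟨u, rfl⟩)) (zpow_mem hd' s)
  have hcc : H * S.c * H⁻¹ = S.cv (Pi.single l (x * ((S.γ ^ s : Fˣ) : F))) := by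
    rw [hH, show S.ψ (hd hlk u) * S.d ^ s * S.c * (S.ψ (hd hlk u) * S.d ^ s)⁻¹ =
      S.ψ (hd hlk u) * (S.d ^ s * S.c * (S.d ^ s)⁻¹) * (S.ψ (hd hlk u))⁻¹ by group, S.toDSys.dc_pow_c]
    show S.ψ (hd hlk u) * S.toDSys.toSys.cv _ * _ = S.toDSys.toSys.cv _
    rw [Sys.cv_conj, ap_hd_single, if_pos rfl, Units.val_mk0]
  obtain ⟨x', hx'⟩ := S.toDSys.line_inv (x * ((S.γ ^ s : Fˣ) : F))
  refine ⟨H * (S.t * H⁻¹ * S.t⁻¹), mul_mem hHT (S.t_TT (inv_mem hHT)), x', ?_, ?_⟩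
  · intro e0
    have hone : S.cv (Pi.single l (x * ((S.γ ^ s : Fˣ) : F))) = 1 := by
      rw [← inv_eq_one]
      refine hx'.trans ?_
      rw [e0, Pi.single_zero]; exact S.toDSys.toSys.cv_zero
    have := congrArg (fun g => suAct (S.π g) (Φ.f l)) hone
    simp only [map_one, suAct_one, Sys.π_cv, cM_f, Pi.single_eq_same, vE_single, smul_smul, add_eq_left] at this
    have h0 := congrArg (fun z => Cfsg.hermForm n F q z (Φ.f l)) this
    simp only [(hermForm_isHerm hF n).smul_left, Φ.ef, ↓reduceIte, mul_one, (hermForm_isHerm hF n).zero_left] at h0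
    exact mul_ne_zero (mul_ne_zero (skew_ne_zero hF) (pow_ne_zero _ (mul_ne_zero hx (Units.ne_zero _))))
      (mul_ne_zero hx (Units.ne_zero _)) h0
  · have e : S.cv (Pi.single l x) = S.ψ (hd hlk u) * S.c * (S.ψ (hd hlk u))⁻¹ :=
      S.toDSys.toSys.cv_eq (by rw [ap_hd_single, if_pos rfl, mul_one, Units.val_mk0])
    have hx'' : (S.cv (Pi.single l x') : G) = (H * S.c * H⁻¹)⁻¹ := by rw [hcc]; exact hx'.symm
    rw [hx'', e, show S.t * (S.ψ (hd hlk u) * S.c * (S.ψ (hd hlk u))⁻¹) * S.t⁻¹ =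
      (S.t * S.ψ (hd hlk u) * S.t⁻¹) * (S.t * S.c * S.t⁻¹) * (S.t * S.ψ (hd hlk u) * S.t⁻¹)⁻¹ by group, hs, S.R1]
    group

theorem spec_u : S.Spec (S.zz 1 0) := by
  obtain ⟨a1, x1, a2, x2, e⟩ := S.hT
  refine ⟨S.zz a1 x1 * S.d, mul_mem (Subgroup.mem_sup_right (S.Z_Q (S.zz_mem _ _)))
    (Subgroup.mem_sup_left (Subgroup.mem_sup_right (Subgroup.mem_zpowers _))), _, S.zz_mem a2 x2, ?_⟩
  rw [show S.zz 1 0 = S.u by
    rw [zz, Pi.single_zero, S.fv_l]
    show S.u * S.toDSys.toSys.cv 0 = S.u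
    rw [Sys.cv_zero, mul_one]]
  exact e

theorem bz_ne_zero {a x : F} (ha : S.az (S.zz a x) ≠ 0) : S.bz (S.zz a x) ≠ 0 := fun e => by
  have := S.trace_zz a x
  rw [e, zero_pow_q hF, zero_add, zero_add] at this
  exact pow_ne_zero _ ha this

theorem spec_base {a x : F} (ha : S.az (S.zz a x) ≠ 0)
    (hκ : -(S.bz (S.zz a x) ^ q) / S.bz (S.zz a x) = (S.θ : F) ^ q / (S.θ : F)) : S.Spec (S.zz a x) := by
  have hb := S.bz_ne_zero ha
  have ha' : a ≠ 0 := fun e => ha (by rw [az_zz, e, zero_pow_q hF, mul_zero, neg_zero])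
  set u := Units.mk0 a ha'
  have h := S.spec_conj (T := S.ψ (hd hlk u)) (Subgroup.subset_closure (Or.inl ⟨u, rfl⟩)) S.spec_u
  have e : S.ψ (hd hlk u) * S.zz 1 0 * (S.ψ (hd hlk u))⁻¹ = S.zz a 0 := by
    rw [zz, zz, Pi.single_zero, show S.cv 0 = (1 : G) from S.toDSys.toSys.cv_zero, mul_one, mul_one, S.fv_conj,
      ap_hd_single, if_pos rfl, mul_one, Units.val_mk0]
  rw [e] at h
  rwa [S.zz_ext (a := a) (x := x) (a' := a) (x' := 0) (by rw [az_zz, az_zz]) ?_]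
  set b := S.bz (S.zz a x) with hbdef
  set b' := S.bz (S.zz a 0) with hbdef'
  have h1 : b + b ^ q + S.az (S.zz a x) ^ (q + 1) = 0 := S.trace_zz a x
  have h2 : b' + b' ^ q + S.az (S.zz a x) ^ (q + 1) = 0 := by
    have := S.trace_zz a 0
    rwa [show S.az (S.zz a 0) = S.az (S.zz a x) by rw [az_zz, az_zz]] at this
  have hb' : b' = S.O.b0 * a ^ (q + 1) := by rw [hbdef', bz_zz, zero_pow (Nat.succ_ne_zero q), mul_zero, add_zero]
  have hb0 : S.O.b0 ≠ 0 := fun e => by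
    have := S.O.hab
    rw [e, zero_pow_q hF, zero_add, zero_add] at this
    exact pow_ne_zero _ S.O.ha0 this
  have hr : b ^ q * b' = b' ^ q * b := by
    have h3 : -(b ^ q) / b = -(S.O.b0 ^ q) / S.O.b0 := hκ.trans S.hκ.symm
    rw [div_eq_div_iff hb hb0] at h3
    rw [hb', mul_pow, pow_q_succ_fixed hF]
    linear_combination -(a ^ (q + 1)) * h3
  have hne : S.az (S.zz a x) ^ (q + 1) ≠ 0 := pow_ne_zero _ ha
  refine mul_left_cancel₀ hne ?_
  linear_combination b * h2 - b' * h1 + hr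

theorem spec_all (n' : ℕ) : 1 ≤ n' → ∀ a x, S.az (S.zz a x) ≠ 0 →
    -(S.bz (S.zz a x) ^ q) / S.bz (S.zz a x) = ((S.θ : F) ^ q / (S.θ : F)) ^ n' → S.Spec (S.zz a x) := by
  intro hn'
  induction n', hn' using Nat.le_induction with
  | base => intro a x ha hκ; exact S.spec_base ha (by rwa [pow_one] at hκ)
  | succ n' hn' ih =>
    intro a x ha hκ
    set κ0 := (S.θ : F) ^ q / (S.θ : F) with hκ0
    have hκne : κ0 ≠ 0 := div_ne_zero (pow_ne_zero _ S.θ.ne_zero) S.θ.ne_zero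
    have ha' : a ≠ 0 := fun e => ha (by rw [az_zz, e, zero_pow_q hF, mul_zero, neg_zero])
    -- the element of the first class with the same coordinate
    have hA : S.az (S.zz a 0) = S.az (S.zz a x) := by rw [az_zz, az_zz]
    have hB : -(S.bz (S.zz a 0) ^ q) / S.bz (S.zz a 0) = κ0 := by
      rw [hκ0, ← S.hκ, bz_zz, zero_pow (Nat.succ_ne_zero q), mul_zero, add_zero, mul_pow, pow_q_succ_fixed hF,
        ← neg_mul, mul_div_mul_right _ _ (pow_ne_zero _ ha')]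
    rcases eq_or_ne (S.bz (S.zz a x)) (S.bz (S.zz a 0)) with he | hne
    · rw [S.zz_ext (a := a) (x := x) (a' := a) (x' := 0) hA.symm he]
      exact S.spec_base (hA ▸ ha) hB
    obtain ⟨y, hy, z, ⟨a2, x2, rfl⟩, e⟩ := S.spec_base (hA ▸ ha) hB
    have hb0 : S.bz (S.zz a 0) ≠ 0 := S.bz_ne_zero (hA ▸ ha)
    obtain ⟨p1, p2⟩ := S.param hy rfl hb0 e
    -- the difference
    have hzx : S.zz a x = S.zz a 0 * S.cv (Pi.single l x) := by
      rw [zz, zz, Pi.single_zero, show S.cv 0 = (1 : G) from S.toDSys.toSys.cv_zero, mul_one]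
    have hx : x ≠ 0 := fun e0 => hne (by rw [e0])
    obtain ⟨T, hT, x', hx'0, ec⟩ := S.spec_cv hx
    have hc0 : S.cv (Pi.single l x) = S.zz 0 x := by rw [zz, Pi.single_zero, fv_zero, one_mul]
    have hbx : S.bz (S.zz 0 x) ≠ 0 := by
      rw [bz_zz, zero_pow (Nat.succ_ne_zero q), mul_zero, zero_add]
      exact mul_ne_zero (skew_ne_zero hF) (pow_ne_zero _ hx)
    have hy' : S.cv (Pi.single l x') * T ∈ PF S.ψ S.d S.Q :=
      mul_mem (Subgroup.mem_sup_right (S.R_le_Q (S.toDSys.toSys.cv_mem _))) (S.TT_le hT)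
    obtain ⟨p3, -⟩ := S.param hy' hc0 (by rw [hc0]; exact hbx) (a2 := 0) (x2 := x') (by
      rw [ec, zz, Pi.single_zero, fv_zero, one_mul])
    obtain ⟨x3, hx3⟩ := S.zz_mul_cv a2 x2 x'
    have hb3 : S.bz (S.zz a2 x3) = S.bz (S.zz a2 x2) + S.bz (S.zz 0 x') := by
      have h1 := (S.act_zz 0 x').1
      have h2 : S.zz a2 x3 = S.zz a2 x2 * S.zz 0 x' := by
        rw [← hx3]; congr 1; rw [zz, Pi.single_zero, fv_zero, one_mul]
      obtain ⟨u1, u2, -⟩ := S.act_zz a2 x2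
      rw [h2, bz, map_mul, suAct_mul, h1, zero_pow (Nat.succ_ne_zero q), zero_pow_q hF, mul_zero, mul_zero, zero_add,
        zero_smul, sub_zero, suAct_add, suAct_smul, u1, u2, bz_zz, bz_zz, zero_pow (Nat.succ_ne_zero q), mul_zero,
        zero_add]
      have H := hermForm_isHerm hF n
      simp only [H.add_left, H.sub_left, H.smul_left, Φ.ef, Φ.ff, Φ.uf hF, ↓reduceIte]
      ring
    set b := S.bz (S.zz a 0) with hbdef
    set b' := S.bz (S.zz a x) with hbdef'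
    have hd : b' - b = S.bz (S.zz 0 x) := by
      rw [hbdef, hbdef', bz_zz, bz_zz, bz_zz, zero_pow (Nat.succ_ne_zero q)]; ring
    have hb'0 : b' ≠ 0 := S.bz_ne_zero ha
    have hdne : b' - b ≠ 0 := sub_ne_zero.2 hne
    have hb3' : S.bz (S.zz a2 x3) = -(skew hF ^ 2) * b' / (b * (b' - b)) := by
      rw [hb3, p1, p3, hc0, ← hd]
      field_simp
      ring
    have hmid : S.Spec (S.zz a2 x3) := by
      refine ih a2 x3 ?_ ?_
      · rw [show S.az (S.zz a2 x3) = S.az (S.zz a2 x2) by rw [az_zz, az_zz], p2]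
        exact div_ne_zero (neg_ne_zero.2 (mul_ne_zero (hA ▸ ha) (skew_ne_zero hF))) (pow_ne_zero _ hb0)
      · have hsk : (skew hF ^ 2 : F) ^ q = skew hF ^ 2 := by
          rw [← pow_mul, mul_comm, pow_mul, skew_pow hF, neg_sq]
        have hdq : (b' - b) ^ q = -(b' - b) := by
          have h1 := S.trace_zz a x
          have h2 := S.trace_zz a 0
          rw [hA] at h2
          rw [sub_pow_q hF]
          linear_combination h1 - h2
        rw [hb3', div_pow, neg_mul, neg_pow_q hF, mul_pow, mul_pow, hsk, hdq]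
        have hbq : b ^ q ≠ 0 := pow_ne_zero _ hb0
        have hκ' : -(b' ^ q) = κ0 ^ (n' + 1) * b' := by rw [← hκ, div_mul_cancel₀ _ hb'0]
        have hB' : -(b ^ q) = κ0 * b := by rw [← hB, div_mul_cancel₀ _ hb0]
        rw [show (b' : F) ^ q = -(κ0 ^ (n' + 1) * b') by rw [← hκ', neg_neg],
          show (b : F) ^ q = -(κ0 * b) by rw [← hB', neg_neg]]
        have hs2 : (skew hF ^ 2 : F) ≠ 0 := pow_ne_zero _ (skew_ne_zero hF)
        field_simp [skew_ne_zero hF]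
        ring
    obtain ⟨y3, hy3, z3, hz3, e3⟩ := hmid
    set T' := S.t * T * S.t⁻¹ * (S.t * S.t) with hT'
    have hsq : S.t * S.t ∈ S.TT :=
      (Subgroup.zpowers_le.2 (show S.d ∈ S.TT from Subgroup.subset_closure (Or.inr rfl))) S.tsq
    have hT'T : T' ∈ S.TT := mul_mem (S.t_TT hT) hsq
    have hfin : T'⁻¹ * z3 * T'⁻¹⁻¹ ∈ S.Z := S.TT_Z (inv_mem hT'T) hz3
    obtain ⟨a4, x4, e4⟩ := hfin
    obtain ⟨x5, hx5⟩ := S.zz_mul_cv a4 x4 x'
    refine ⟨y * y3 * (S.t * T' * S.t⁻¹), mul_mem (mul_mem hy hy3) (S.TT_le (S.t_TT hT'T)), _, S.zz_mem a4 x5, ?_⟩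
    rw [hzx, show S.t * (S.zz a 0 * S.cv (Pi.single l x)) * S.t⁻¹ =
      (S.t * S.zz a 0 * S.t⁻¹) * (S.t * S.cv (Pi.single l x) * S.t⁻¹) by group, e, ec,
      show y * S.t * S.zz a2 x2 * (S.cv (Pi.single l x') * T * S.t * S.cv (Pi.single l x')) =
        y * (S.t * (S.zz a2 x2 * S.cv (Pi.single l x')) * S.t⁻¹) * T' * S.cv (Pi.single l x') by
          rw [hT']; group, hx3, e3, ← hx5, ← e4]
    group

/-- The conjugates of the root group by the flip. -/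
theorem Zt {z : G} (hz : z ∈ S.Z) :
    S.t * z * S.t⁻¹ ∈ PF S.ψ S.d S.Q ∨ ∃ y ∈ PF S.ψ S.d S.Q, ∃ y' ∈ S.Z, S.t * z * S.t⁻¹ = y * S.t * y' := by
  obtain ⟨a, x, rfl⟩ := hz
  rcases eq_or_ne a 0 with rfl | ha
  · rw [zz, Pi.single_zero, fv_zero, one_mul]
    rcases S.toDSys.Zt S.Q (fun v => S.R_le_Q (S.toDSys.toSys.cv_mem v)) x with h | ⟨y, hy, x', e⟩
    · exact Or.inl h
    · exact Or.inr ⟨y, hy, _, S.zz_mem 0 x', by rw [zz, Pi.single_zero, fv_zero, one_mul]; exact e⟩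
  · right
    have ha' : S.az (S.zz a x) ≠ 0 := by
      rw [az_zz]; exact neg_ne_zero.2 (mul_ne_zero S.O.ha0 (pow_ne_zero _ ha))
    have hb := S.bz_ne_zero ha'
    set r := -(S.bz (S.zz a x) ^ q) / S.bz (S.zz a x) with hr
    have hr1 : r ^ (q + 1) = 1 := by
      rw [hr, div_pow, pow_succ, neg_pow_q hF, pow_q_pow_q hF, neg_mul_neg, mul_comm, ← pow_succ,
        div_self (pow_ne_zero _ hb)]
    have hrne : r ≠ 0 := div_ne_zero (neg_ne_zero.2 (pow_ne_zero _ hb)) hb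
    obtain ⟨i, hi⟩ := exists_zeta_pow hF S.hθ (z := Units.mk0 r hrne) hr1
    set N := orderOf S.θ
    have hN : (N : ℤ) = ((q : ℤ) - 1) * ((q : ℤ) + 1) := orderOf_gen hF S.hθ
    set n' : ℕ := (i % ((q : ℤ) + 1)).toNat + (q + 1)
    obtain ⟨y, hy, y', hy', e⟩ := S.spec_all n' (by omega) a x ha' (by
      have hu : Units.mk0 r hrne = (S.θ ^ ((q : ℤ) - 1)) ^ n' := by
        have hper : (S.θ ^ ((q : ℤ) - 1)) ^ ((q : ℤ) + 1) = 1 := by
          rw [← _root_.zpow_mul, ← hN, zpow_natCast, pow_orderOf_eq_one]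
        have hn : (n' : ℤ) = i + ((q : ℤ) + 1) * (1 - i / ((q : ℤ) + 1)) := by
          simp only [n', Nat.cast_add, Int.toNat_of_nonneg (Int.emod_nonneg i (show ((q : ℤ) + 1) ≠ 0 by omega))]
          rw [Int.emod_def]
          push_cast
          ring
        rw [hi, _root_.zpow_mul, ← zpow_natCast _ n', hn, _root_.zpow_add, _root_.zpow_mul _ ((q : ℤ) + 1), hper,
          _root_.one_zpow, mul_one]
      have := congrArg Units.val hu
      rw [Units.val_mk0, Units.val_pow_eq_pow_val, _root_.zpow_sub, zpow_natCast, zpow_one, Units.val_mul,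
        Units.val_pow_eq_pow_val, Units.val_inv_eq_inv_val] at this
      rw [hr] at this
      rw [this, div_eq_mul_inv])
    exact ⟨y, hy, y', hy', e⟩

theorem fv_tj (a : F) (j : Fin m) (hj : j ≠ l) : Commute (S.fv (Pi.single l a)) (tjF hlk S.ψ S.t j) := by
  obtain ⟨g1, g2⟩ := (exists_isMono (F := F) hlk j 1).choose_spec
  set g := (exists_isMono (F := F) hlk j 1).choose
  have hw : ap g⁻¹ (Pi.single l a) l = 0 := by
    have := g2 (ap g⁻¹ (Pi.single l a))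
    rwa [ap_ap_inv, Pi.single_eq_of_ne hj, Units.val_one, one_mul, eq_comm] at this
  have e : S.fv (Pi.single l a) = S.ψ g * S.fv (ap g⁻¹ (Pi.single l a)) * (S.ψ g)⁻¹ := by
    rw [S.fv_conj, ap_ap_inv]
  rw [e]
  exact ((S.tu _ hw).symm).map (MulAut.conj (S.ψ g)).toMonoidHom

theorem split {r : G} (hr : r ∈ S.Q) :
    ∃ x ∈ S.Q, ∃ z ∈ S.Z, r = x * z ∧ S.t * x * S.t⁻¹ ∈ PF S.ψ S.d S.Q := by
  obtain ⟨v, r, hr, rfl⟩ := hr
  set w := v - Pi.single l (v l) with hw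
  have hwl : w l = 0 := by simp [hw]
  obtain ⟨r', hr', e⟩ := S.mul_fv w (Pi.single l (v l))
  rw [hw, sub_add_cancel, ← hw] at e
  have hr'' : r'⁻¹ * r ∈ S.R := mul_mem (inv_mem hr') hr
  obtain ⟨y, hy, γ, ey⟩ := S.toDSys.toSys.exists_split_R (S.R ⊓ (PF S.ψ S.d S.Q).comap (MulAut.conj S.t).toMonoidHom)
    (fun w hw => ⟨S.toDSys.toSys.cv_mem w,
      (S.toDSys.mem_inner_cv S.Q (fun v => S.R_le_Q (S.toDSys.toSys.cv_mem v)) hw).2⟩)
    (fun a w hw => ⟨S.toDSys.toSys.R_conj _ (S.toDSys.toSys.M_mem hw),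
      (S.toDSys.mem_inner_M S.Q (fun w hw => S.R_le_Q (S.toDSys.toSys.M_mem hw)) (fun a _ h => S.Q_conj a h) a hw).2⟩)
    hr''
  refine ⟨S.fv w * y, mul_mem (S.fv_mem_Q _) (S.R_le_Q hy.1), _, S.zz_mem (v l) γ, ?_, ?_⟩
  · calc S.fv v * r = (S.fv v * r') * (r'⁻¹ * r) := by group
      _ = S.fv w * (S.fv (Pi.single l (v l)) * y) * S.cv (Pi.single l γ) := by rw [← e, ey]; group
      _ = _ := by rw [← (S.R_central hy.1 _).eq, zz]; group
  · rw [show S.t * (S.fv w * y) * S.t⁻¹ = (S.t * S.fv w * S.t⁻¹) * (S.t * y * S.t⁻¹) by group,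
      show Commute S.t (S.fv w) from S.tu w hwl |>.eq, mul_inv_cancel_right]
    exact mul_mem (Subgroup.mem_sup_right (S.fv_mem_Q _)) hy.2

/-- The data of the cells. -/
noncomputable def toCore (hgen : Subgroup.closure (Set.range S.ψ ∪ (S.Q : Set G) ∪ {S.t}) = ⊤) :
    Core hF Φ hlk G where
  ψ := S.ψ
  t := S.t
  d := S.d
  R := S.Q
  Z := S.Z
  α := S.α
  π := S.π
  πψ := S.πψ
  πt := S.πt
  tFix := S.tFix
  tζ := S.toDSys.t_zeta
  tt := S.tt
  Rψ := fun a _ hr => S.Q_conj a hr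
  Rd := fun _ hr => S.d_Q hr
  dN := S.toDSys.dN
  dψ := S.dψ
  πd := S.πd
  d_inj := S.toDSys.d_inj
  td := S.td
  tsq := S.tsq
  th := S.toDSys.th _
  MR := fun _ hw => S.R_le_Q (S.toDSys.toSys.M_mem hw)
  ZR := fun _ hz => S.Z_Q hz
  Zc := by
    rintro _ ⟨a, x, rfl⟩ j hj
    exact (S.fv_tj a j hj).mul_left (S.toDSys.line_tj x j hj)
  Zt := fun _ hz => S.Zt hz
  tR := fun _ hr => S.split hr
  Re := fun r hr i => by
    have h := S.π_Q_vE hr (Pi.single i 1)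
    rwa [vE_one] at h
  Rinj := fun _ hr h => S.Q_inj hr h
  gen := hgen

/-- The homomorphism is injective. -/
theorem inj (hgen : Subgroup.closure (Set.range S.ψ ∪ (S.Q : Set G) ∪ {S.t}) = ⊤) : Function.Injective S.π :=
  (S.toCore hgen).inj

end OSys

end Cfsg.Agent.SUNPresent
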