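/-
Generation of SU_n.

* `eq_top_of_mem`: the copy of SL_m, the flip, the root elements and a torus complement generate.
-/
import Cfsg.Agent.Lib.SUNPresent.Odd

set_option autoImplicit false
set_option linter.unusedSectionVars false
set_option linter.unusedSimpArgs false

open Matrix

namespace Cfsg.Agent.SUNPresent

open Cfsg.Agent.Unitary Cfsg.Agent.UFus Cfsg.Agent.UnitaryBN

variable {F : Type*} [Field F] [Fintype F] {q n m : ℕ}
variable (hF : Fintype.card F = q ^ 2) (Φ : Frame n F q m)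

local notation "tv" => Matrix.SpecialLinearGroup.transvection

include hF

theorem psi0_hd_torus {i j : Fin m} (h : i ≠ j) (a : Fˣ) : psi0 hF Φ (hd h a) ∈ torus hF Φ := by
  rintro (x | x)
  · refine ⟨if x = i then (a : F) else if x = j then ((a⁻¹ : Fˣ) : F) else 1, ?_⟩
    show suAct _ (Φ.e x) = _ • Φ.e x
    rw [psi0_e, ap_hd_single, mul_one, vE_single]
  · refine ⟨(if x = i then ((a⁻¹ : Fˣ) : F) else if x = j then (a : F) else 1) ^ q, ?_⟩
    show suAct _ (Φ.f x) = _ • Φ.f x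
    refine psi0_f_of_row hF Φ fun v => ?_
    rw [show (hd h a)⁻¹ = (hdHom h a)⁻¹ from rfl, ← map_inv, hdHom_apply, ap_hd, inv_inv]

theorem torus_act {g : Cfsg.SU n F q} (hg : g ∈ torus hF Φ) (i : Fin m) :
    (∃ a : F, a ≠ 0 ∧ suAct g (Φ.e i) = a • Φ.e i) ∧
      ∀ a : F, suAct g (Φ.e i) = a • Φ.e i → suAct g (Φ.f i) = (a ^ q)⁻¹ • Φ.f i := by
  have H := hermForm_isHerm hF n
  obtain ⟨a, ha⟩ := hg (Sum.inl i)
  obtain ⟨b, hb⟩ := hg (Sum.inr i)
  have ha' : suAct g (Φ.e i) = a • Φ.e i := ha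
  have hb' : suAct g (Φ.f i) = b • Φ.f i := hb
  have key : ∀ a' : F, suAct g (Φ.e i) = a' • Φ.e i → b * a' ^ q = 1 := fun a' e => by
    have h := suAct_herm g (Φ.f i) (Φ.e i)
    rwa [e, hb', H.smul_left, H.smul_right, Φ.fe hF, if_pos rfl, mul_one] at h
  refine ⟨⟨a, fun e => ?_, ha'⟩, fun a' e => ?_⟩
  · have := key a ha'
    rw [e, zero_pow_q hF, mul_zero] at this
    exact zero_ne_one this
  · rw [hb', eq_inv_of_mul_eq_one_left (key a' e)]

/-- A set generating SU. -/
theorem eq_top_of_mem {l k : Fin m} (hlk : l ≠ k) (H : Subgroup (Cfsg.SU n F q)) (hψ : ∀ a, psi0 hF Φ a ∈ H)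
    (ht : t0 hF Φ l ∈ H) (hc : cM hF Φ (Pi.single l 1) ∈ H)
    (hu : Φ.u = 0 ∨ ∃ O : OConst hF Φ, O.fM (Pi.single l 1) ∈ H)
    (hd' : ∀ α : F, α ≠ 0 → (Φ.u = 0 → α ^ q = α) → ∃ g ∈ H, g ∈ torus hF Φ ∧
      ∀ i, suAct g (Φ.e i) = (if i = l then α else 1) • Φ.e i) : H = ⊤ := by
  classical
  have Hh := hermForm_isHerm hF n
  -- the torus
  have htor : ∀ g ∈ torus hF Φ, g ∈ H := by
    intro g hg
    obtain ⟨g1, hg1, hg1t, hfix⟩ : ∃ g1, g1 ∈ H ∧ g1 ∈ torus hF Φ ∧
        ∀ i, i ≠ l → suAct (g1 * g) (Φ.e i) = Φ.e i := by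
      suffices ∀ s : Finset (Fin m), l ∉ s → ∃ g1, g1 ∈ H ∧ g1 ∈ torus hF Φ ∧
          ∀ i ∈ s, suAct (g1 * g) (Φ.e i) = Φ.e i by
        obtain ⟨g1, a, b, c⟩ := this (Finset.univ.erase l) (by simp)
        exact ⟨g1, a, b, fun i hi => c i (by simp [hi])⟩
      intro s
      induction s using Finset.induction_on with
      | empty => exact fun _ => ⟨1, one_mem _, one_mem _, by simp⟩
      | insert i s hi ih =>
        intro hl
        rw [Finset.mem_insert, not_or] at hl
        obtain ⟨g1, h1, h2, h3⟩ := ih hl.2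
        obtain ⟨⟨a, ha0, ha⟩, -⟩ := torus_act hF Φ (mul_mem h2 hg) i
        refine ⟨psi0 hF Φ (hd (Ne.symm hl.1) (Units.mk0 a ha0)⁻¹) * g1, mul_mem (hψ _) h1,
          mul_mem (psi0_hd_torus hF Φ _ _) h2, fun x hx => ?_⟩
        rw [mul_assoc, suAct_mul]
        rcases Finset.mem_insert.1 hx with rfl | hx
        · rw [ha, suAct_smul, psi0_e, ap_hd_single, if_pos rfl, mul_one, vE_single, smul_smul, Units.val_inv_eq_inv_val,
            Units.val_mk0, mul_inv_cancel₀ ha0, one_smul]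
        · rw [h3 x hx, psi0_e, ap_hd_single, if_neg (fun e => hi (by rwa [← e])),
            if_neg (fun e => hl.2 (by rwa [← e])), one_mul, vE_one]
    set g' := g1 * g
    have hg't : g' ∈ torus hF Φ := mul_mem hg1t hg
    obtain ⟨⟨α, hα0, hα⟩, hf⟩ := torus_act hF Φ hg't l
    have hbeta : ∀ {x : Cfsg.SU n F q}, x ∈ torus hF Φ → ∀ a : F, (∀ i, i ≠ l → suAct x (Φ.e i) = Φ.e i) →
        suAct x (Φ.e l) = a • Φ.e l →
        a * (a ^ q)⁻¹ * (1 + (Cfsg.hermForm n F q (suAct x Φ.u) Φ.u - 1) * Cfsg.hermForm n F q Φ.u Φ.u) = 1 := by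
      intro x hx a h1 h2
      refine det_diag hF Φ l h1 h2 (fun i hi => ?_) ((torus_act hF Φ hx l).2 a h2)
        (mono_u hF Φ (torus_le_mono hF Φ hx))
      rw [(torus_act hF Φ hx i).2 1 (by rw [h1 i hi, one_smul]), one_pow, inv_one, one_smul]
    have hα' : Φ.u = 0 → α ^ q = α := fun h0 => by
      have := hbeta hg't α hfix hα
      rw [h0, Hh.zero_left, mul_zero, add_zero, mul_one, mul_inv_eq_one₀ (pow_ne_zero _ hα0)] at this
      exact this.symm
    obtain ⟨h, hh, hht, hhe⟩ := hd' α hα0 hα'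
    set x := h⁻¹ * g' with hxdef
    have hxt : x ∈ torus hF Φ := mul_mem (inv_mem hht) hg't
    have hxe : ∀ i, suAct x (Φ.e i) = Φ.e i := fun i => by
      refine suAct_inj h ?_
      rw [hxdef, suAct_mul, suAct_suAct_inv, hhe]
      by_cases hi : i = l
      · subst hi; rw [if_pos rfl, hα]
      · rw [if_neg hi, one_smul, hfix i hi]
    have hx1 : x = 1 := by
      refine ext_frame hF Φ (fun i => by rw [hxe, suAct_one]) (fun i => ?_) ?_
      · rw [(torus_act hF Φ hxt i).2 1 (by rw [hxe, one_smul]), one_pow, inv_one, one_smul, suAct_one]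
      · rw [suAct_one]
        rcases Φ.hu with h0 | h1
        · rw [h0, suAct_zero]
        · have := hbeta hxt 1 (fun i _ => hxe i) (by rw [hxe, one_smul])
          rw [one_pow, inv_one, mul_one, one_mul, h1, mul_one, add_sub_cancel] at this
          rw [mono_u hF Φ (torus_le_mono hF Φ hxt), this, one_smul]
    have : g' ∈ H := by
      have e : g' = h * x := by rw [hxdef, mul_inv_cancel_left]
      rw [e, hx1, mul_one]; exact hh
    have := mul_mem (inv_mem hg1) this
    rwa [inv_mul_cancel_left] at this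
  -- Eichler elements
  have hmono : ∀ (i : Fin m) (a : Fˣ), ∃ g : Matrix.SpecialLinearGroup (Fin m) F, IsMono l g i a :=
    fun i a => exists_isMono hlk i a
  have hcM : ∀ v, cM hF Φ v ∈ H := fun v => by
    rcases eq_or_ne v 0 with rfl | hv
    · rw [cM_zero]; exact one_mem _
    obtain ⟨g, hg⟩ := exists_first hlk hv
    rw [← hg, ← psi0_cM]
    exact mul_mem (mul_mem (hψ _) hc) (inv_mem (hψ _))
  have heich : ∀ (κ : Fin m) (w : Fin n → F) (c : F) (h : Ok q (Φ.e κ) w c), eich hF h ∈ H := by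
    intro κ
    let W : AddSubgroup (Fin n → F) :=
      { carrier := {w | ∃ (c : F) (h : Ok q (Φ.e κ) w c), eich hF h ∈ H}
        zero_mem' := ⟨0, ok_zero hF (Φ.ee κ κ), by
          rw [show eich hF (ok_zero hF (Φ.ee κ κ)) = 1 from suAct_ext fun x => by
            rw [suAct_eich, suAct_one, Hh.zero_right hF]; simp]
          exact one_mem _⟩
        add_mem' := by
          rintro a b ⟨c, h, hm⟩ ⟨c', h', hm'⟩
          exact ⟨_, ok_add hF h h', eich_mul hF h h' ▸ mul_mem hm hm'⟩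
        neg_mem' := by
          rintro a ⟨c, h, hm⟩
          exact ⟨_, ok_neg hF h, eich_inv hF h ▸ inv_mem hm⟩ }
    have he : ∀ (i : Fin m) (a : F), a • Φ.e i ∈ W := by
      intro i a
      rcases eq_or_ne i κ with rfl | hi
      · obtain ⟨c, h, hm⟩ := W.zero_mem
        have h' := ok_shift hF h a
        rw [zero_add] at h'
        refine ⟨_, h', ?_⟩
        rw [eich_congr hF h' (ok_shift hF h a) rfl (zero_add _).symm rfl, ← eich_shift hF h a]
        exact hm
      obtain ⟨g, g1, g2⟩ := hmono κ 1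
      set w := ap g⁻¹ (Pi.single i (-(skew hF)⁻¹ * a))
      have hw : w l = 0 := by
        have := g2 w
        rw [ap_ap_inv, Pi.single_eq_of_ne (Ne.symm hi), Units.val_one, one_mul] at this
        exact this.symm
      have hm : psi0 hF Φ g * eich hF (ok_e_vE hF Φ l w) * (psi0 hF Φ g)⁻¹ ∈ H := by
        rw [← t0_colE hF Φ l hw]
        exact mul_mem (mul_mem (hψ _) (mul_mem (mul_mem (inv_mem ht) (hψ _)) ht)) (inv_mem (hψ _))
      have e1 : suAct (psi0 hF Φ g) (Φ.e l) = Φ.e κ := by rw [psi0_e, g1, Units.val_one, vE_one]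
      have e2 : suAct (psi0 hF Φ g) ((-skew hF) • vE Φ w) = a • Φ.e i := by
        rw [suAct_smul, psi0_vE, ap_ap_inv, vE_single, smul_smul, ← mul_assoc, neg_mul_neg,
          mul_inv_cancel₀ (skew_ne_zero hF), one_mul]
      rw [eich_conj hF] at hm
      have h' : Ok q (Φ.e κ) (a • Φ.e i) 0 := by
        have := ok_conj hF (ok_e_vE hF Φ l w) (psi0 hF Φ g)
        rwa [e1, e2] at this
      exact ⟨_, h', eich_congr hF _ h' e1 e2 rfl ▸ hm⟩
    have hf : ∀ (i : Fin m), i ≠ κ → ∀ b : F, b • Φ.f i ∈ W := by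
      intro i hi b
      refine ⟨0, ok_swap hF Φ (Ne.symm hi) b, ?_⟩
      have := hψ (tv (Ne.symm hi) (b ^ q))
      rw [psi0_tv, pow_q_pow_q hF] at this
      exact this
    have huW : ∀ a : F, a • Φ.u ∈ W := by
      intro a
      rcases hu with h0 | ⟨O, hO⟩
      · rw [h0, smul_zero]; exact W.zero_mem
      rcases eq_or_ne a 0 with rfl | ha
      · rw [zero_smul]; exact W.zero_mem
      have hx : a * O.a0⁻¹ ≠ 0 := mul_ne_zero ha (inv_ne_zero O.ha0)
      obtain ⟨g, g1, -⟩ := hmono κ (Units.mk0 _ (pow_ne_zero q hx))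
      have hm : O.fM (Pi.single κ ((a * O.a0⁻¹) ^ q)) ∈ H := by
        rw [← Units.val_mk0 (pow_ne_zero q hx), ← g1, ← OConst.psi0_fM]
        exact mul_mem (mul_mem (hψ _) hO) (inv_mem (hψ _))
      have e1 : vE Φ (Pi.single κ ((a * O.a0⁻¹) ^ q)) = (a * O.a0⁻¹) ^ q • Φ.e κ := vE_single Φ κ _
      have h1 : Ok q ((a * O.a0⁻¹) ^ q • Φ.e κ) (O.a0 • Φ.u) O.b0 := e1 ▸ O.ok _
      have h2 : Ok q (Φ.e κ) (a • Φ.u) (O.b0 * ((a * O.a0⁻¹) ^ q) ^ (q + 1)) := by
        refine ⟨Φ.ee κ κ, by rw [Hh.smul_left, Φ.ue hF, mul_zero], ?_⟩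
        rw [Hh.smul_left, Hh.smul_right, O.huu, mul_one]
        have hab := O.hab
        simp only [mul_pow, pow_succ, inv_pow, pow_q_pow_q hF] at hab ⊢
        have := O.ha0
        field_simp
        linear_combination hab
      have h3 : Ok q (Φ.e κ) (((a * O.a0⁻¹) ^ q) ^ q • O.a0 • Φ.u) (O.b0 * ((a * O.a0⁻¹) ^ q) ^ (q + 1)) := by
        have e : ((a * O.a0⁻¹) ^ q) ^ q • O.a0 • Φ.u = a • Φ.u := by
          rw [smul_smul, pow_q_pow_q hF, inv_mul_cancel_right₀ O.ha0]
        rw [e]; exact h2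
      refine ⟨_, h2, ?_⟩
      rw [eich_congr hF h2 h3 rfl (by rw [smul_smul, pow_q_pow_q hF, inv_mul_cancel_right₀ O.ha0]) rfl,
        ← eich_smul_left hF h1 h3]
      rw [OConst.fM, eich_congr hF (O.ok _) h1 e1 rfl rfl] at hm
      exact hm
    intro w c h
    have hwW : w ∈ W := by
      rw [Φ.decomp hF w]
      refine W.add_mem (W.add_mem (W.sum_mem fun i _ => he i _) (W.sum_mem fun i _ => ?_)) (huW _)
      rcases eq_or_ne i κ with rfl | hi
      · rw [h.orth, zero_smul]; exact W.zero_mem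
      · exact hf i hi _
    obtain ⟨c', h', hm⟩ := hwW
    -- the central part
    obtain ⟨γ, hγ⟩ := exists_norm_eq hF (c := (c - c') * (skew hF)⁻¹) (by
      rw [mul_pow, sub_pow_q hF, inv_pow, skew_pow hF, inv_neg]
      linear_combination (skew hF)⁻¹ * (h'.trace) - (skew hF)⁻¹ * (h.trace))
    have hz : Ok q (Φ.e κ) 0 (c - c') := by
      refine ⟨Φ.ee κ κ, Hh.zero_left _, ?_⟩
      rw [sub_pow_q hF, Hh.zero_left]
      linear_combination h.trace - h'.trace
    have hzm : eich hF hz ∈ H := by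
      have e : eich hF hz = cM hF Φ (Pi.single κ γ) := suAct_ext fun x => by
        rw [suAct_eich, suAct_cM, vE_single, Hh.zero_right hF, Hh.smul_right, smul_smul, smul_zero, sub_zero,
          zero_add]
        congr 2
        rw [pow_succ] at hγ
        field_simp [skew_ne_zero hF] at hγ
        linear_combination -(Cfsg.hermForm n F q x (Φ.e κ)) * hγ
      rw [e]; exact hcM _
    have hprod := ok_add hF h' hz
    have e : eich hF h = eich hF h' * eich hF hz := by
      rw [eich_mul]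
      exact eich_congr hF _ _ rfl (add_zero w).symm (by rw [Hh.zero_left, sub_zero]; ring)
    rw [e]; exact mul_mem hm hzm
  rw [eq_top_iff, ← borel_sup_nGroup hF Φ]
  refine sup_le (fun b hb => ?_) (sup_le ((Subgroup.closure_le _).2 ?_) fun g hg => htor g hg)
  · obtain ⟨t, ht', hbt⟩ := exists_diag_fix hF Φ hb
    have := mul_mem (Φ.unip_le hF (fun κ w c h _ => heich κ w c h) hbt) (inv_mem (htor t ht'))
    rwa [mul_inv_cancel_right] at this
  · rintro _ ⟨j, rfl⟩
    show simp' hF Φ j ∈ H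
    unfold simp'
    split_ifs with hj
    · have hx : ∀ {a b : Fin m} (h : a ≠ b) (t : F), xe hF Φ h t ∈ H := fun h t => by
        have := hψ (tv h (t ^ q))
        rwa [psi0_tv, pow_q_pow_q hF] at this
      exact mul_mem (mul_mem (hx _ _) (hx _ _)) (hx _ _)
    · obtain ⟨g, hg⟩ := hmono j 1
      rw [← t0_conj_mono hF Φ l hg (by simp)]
      exact mul_mem (mul_mem (hψ _) ht) (inv_mem (hψ _))

end Cfsg.Agent.SUNPresent
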