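/-
Facts used for the short lists of relations.

* `torus_ext`, `psi0_cjD`, `flip_comm`: the model.
* `closed_zpowers`: orbits in a finite cyclic group of units.
* `conj_cv`, `tjF_eq`, `cvF_eq`: conjugates in a group satisfying some of the relations.
-/
import Cfsg.Agent.Lib.SUNPresent.Gen

set_option autoImplicit false
set_option linter.unusedSectionVars false
set_option linter.unusedSimpArgs false

open Matrix

namespace Cfsg.Agent.SUNPresent

open Cfsg.Agent.Unitary Cfsg.Agent.UFus Cfsg.Agent.UnitaryBN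

local notation "tv" => Matrix.SpecialLinearGroup.transvection

/-- The scaling of the coordinate `l`. -/
def Dl {F : Type*} [Field F] {m : ℕ} (l : Fin m) (a : F) (v : Fin m → F) : Fin m → F :=
  fun i => (if i = l then a else 1) * v i

theorem Dl_single {F : Type*} [Field F] {m : ℕ} (l i : Fin m) (a x : F) :
    Dl l a (Pi.single i x) = Pi.single i ((if i = l then a else 1) * x) := by
  funext j
  by_cases hj : j = i
  · subst hj; simp [Dl]
  · simp [Dl, hj]

theorem Dl_add {F : Type*} [Field F] {m : ℕ} (l : Fin m) (a : F) (v w : Fin m → F) :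
    Dl l a (v + w) = Dl l a v + Dl l a w := by
  funext j; simp [Dl, mul_add]

theorem Dl_smul {F : Type*} [Field F] {m : ℕ} (l : Fin m) (a b : F) (v : Fin m → F) :
    Dl l a (b • v) = b • Dl l a v := by
  funext j; simp [Dl, mul_left_comm]

theorem ap_cjD_eq {F : Type*} [Field F] {m : ℕ} (l : Fin m) (a : Fˣ) (g : Matrix.SpecialLinearGroup (Fin m) F)
    (v : Fin m → F) : ap (cjD l a g) v = Dl l (a : F) (ap g (Dl l ((a⁻¹ : Fˣ) : F) v)) :=
  funext fun x => ap_cjD l a g v x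

theorem fix1_two {F : Type*} [Field F] {m : ℕ} (hm : m = 2) {l k : Fin m} (hlk : l ≠ k)
    {g : Matrix.SpecialLinearGroup (Fin m) F} (hg : g ∈ Fix1 l) : g = 1 := by
  have hall : ∀ j : Fin m, j = l ∨ j = k := fun j => by
    subst hm
    have h1 := l.isLt
    have h2 := k.isLt
    have h3 := j.isLt
    rcases Fin.val_ne_iff.2 hlk |> fun h => (show (j.val = l.val ∨ j.val = k.val) by omega) with h | h
    · exact Or.inl (Fin.ext h)
    · exact Or.inr (Fin.ext h)
  have hk : ap g (Pi.single k 1) = Pi.single k (g.1 k k) := funext fun j => by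
    rcases hall j with rfl | rfl
    · rw [hg.2, Pi.single_eq_of_ne hlk, Pi.single_eq_of_ne hlk]
    · rw [← coe_eq_ap, Pi.single_eq_same]
  have hA : g.1 = Matrix.diagonal (fun j => if j = k then g.1 k k else 1) := by
    ext i j
    rw [coe_eq_ap, Matrix.diagonal_apply]
    rcases hall j with rfl | rfl
    · rw [hg.1, Pi.single_apply]
      by_cases hi : i = j <;> simp [hi, hlk]
    · rw [hk, Pi.single_apply]
      by_cases hi : i = j <;> simp [hi]
  have hd := g.2
  rw [hA, Matrix.det_diagonal, Finset.prod_ite_eq', if_pos (Finset.mem_univ k)] at hd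
  apply Subtype.ext
  rw [hA, hd]
  simp

theorem exists_fix1_pair {F : Type*} [Field F] [Finite F] {m : ℕ} (hm : 3 ≤ m) (l : Fin m) :
    ∃ a b : Matrix.SpecialLinearGroup (Fin m) F, a ∈ Fix1 l ∧ b ∈ Fix1 l ∧ Fix1 l ≤ Subgroup.closure {a, b} := by
  haveI : Fintype F := Fintype.ofFinite F
  obtain ⟨m', rfl⟩ : ∃ m', m = m' + 1 := ⟨m - 1, by omega⟩
  obtain ⟨x, y, hxy⟩ : ∃ x y : Matrix.SpecialLinearGroup (Fin m') F, Subgroup.closure {x, y} = ⊤ := by
    by_cases h2 : m' = 2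
    · subst h2
      obtain ⟨x, y, h, -⟩ := OrthPresent.exists_pair_sl2 (F := F)
      exact ⟨x, y, h⟩
    · exact OrthPresent.exists_pair_sl m' (by omega)
  let f : Fin m' → Fin (m' + 1) := l.succAbove
  have hf : Function.Injective f := Fin.succAbove_right_injective
  have himg : ∀ z, OrthPresent.emF (F := F) f hf z ∈ Fix1 l := by
    intro z
    have hz : z ∈ (⊤ : Subgroup (Matrix.SpecialLinearGroup (Fin m') F)) := trivial
    rw [← Linear.closure_slTvSet] at hz
    induction hz using Subgroup.closure_induction with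
    | mem x hx =>
      obtain ⟨i, j, h, b, rfl⟩ := hx
      rw [OrthPresent.emF_tv]
      exact tv_mem_fix1 _ (Fin.succAbove_ne l i) (Fin.succAbove_ne l j) b
    | one => rw [map_one]; exact one_mem _
    | mul a b _ _ ha hb => rw [map_mul]; exact mul_mem ha hb
    | inv a _ ha => rw [map_inv]; exact inv_mem ha
  refine ⟨_, _, himg x, himg y, ?_⟩
  have hcl : ∀ z, OrthPresent.emF (F := F) f hf z ∈
      Subgroup.closure {OrthPresent.emF (F := F) f hf x, OrthPresent.emF (F := F) f hf y} := fun z => by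
    have := Subgroup.mem_map_of_mem (OrthPresent.emF (F := F) f hf) (hxy ▸ Subgroup.mem_top z : z ∈ Subgroup.closure {x, y})
    rwa [MonoidHom.map_closure, Set.image_pair] at this
  intro g hg
  -- the block of `g`
  let A : Matrix (Fin m') (Fin m') F := g.1.submatrix f f
  have hrow : ∀ j, g.1 l j = (Pi.single l 1 : Fin (m' + 1) → F) j := fun j => by
    rw [coe_eq_ap, hg.2, Pi.single_apply, Pi.single_apply]; exact if_congr eq_comm rfl rfl
  have hcol : ∀ i, g.1 i l = (Pi.single l 1 : Fin (m' + 1) → F) i := fun i => by rw [coe_eq_ap, hg.1]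
  have hA : A.det = 1 := by
    have := g.2
    rw [Matrix.det_succ_row g.1 l, Finset.sum_eq_single l (fun j _ hj => by
      rw [hrow, Pi.single_eq_of_ne hj]; ring) (by simp), hrow, Pi.single_eq_same] at this
    rwa [← two_mul, pow_mul, neg_one_sq, one_pow, one_mul, one_mul] at this
  have e : OrthPresent.emF (F := F) f hf ⟨A, hA⟩ = g := by
    apply Subtype.ext
    ext i j
    let E : Matrix (Fin (m' + 1)) (Fin m') F := Matrix.of fun i k => if i = f k then (1 : F) else 0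
    have h1 : (OrthPresent.emF (F := F) f hf ⟨A, hA⟩).1 =
        ((1 + E * (A - 1) * E.transpose : Matrix (Fin (m' + 1)) (Fin (m' + 1)) F)) := rfl
    rw [h1]
    rw [Matrix.add_apply, Matrix.mul_apply]
    rcases eq_or_ne i l with rfl | hi
    · rw [hrow, Finset.sum_eq_zero fun b _ => by
        rw [Matrix.mul_apply, Finset.sum_eq_zero fun c _ => ?_, zero_mul]
        simp [E, f, (Fin.succAbove_ne i c).symm], add_zero, Matrix.one_apply, Pi.single_apply]
      exact if_congr eq_comm rfl rfl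
    obtain ⟨i', rfl⟩ := Fin.exists_succAbove_eq hi
    rcases eq_or_ne j l with rfl | hj
    · rw [hcol, Finset.sum_eq_zero fun b _ => by
        simp [E, f, (Fin.succAbove_ne j b).symm], add_zero, Matrix.one_apply, Pi.single_apply]
    obtain ⟨j', rfl⟩ := Fin.exists_succAbove_eq hj
    rw [Finset.sum_eq_single j', Matrix.mul_apply, Finset.sum_eq_single i']
    · simp [E, f, A, Matrix.one_apply]
    · intro b _ hb; simp [E, f, hb.symm]
    · simp
    · intro b _ hb; simp [E, f, hb.symm]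
    · simp
  rw [← e]
  exact hcl _

section Model

variable {F : Type*} [Field F] [Fintype F] {q n m : ℕ}
variable (hF : Fintype.card F = q ^ 2) (Φ : Frame n F q m)
include hF

theorem torus_ext (l : Fin m) {g h : Cfsg.SU n F q} (hg : g ∈ torus hF Φ) (hh : h ∈ torus hF Φ)
    (e : ∀ i, suAct g (Φ.e i) = suAct h (Φ.e i)) : g = h := by
  set x := h⁻¹ * g
  have hx : x ∈ torus hF Φ := mul_mem (inv_mem hh) hg
  have hxe : ∀ i, suAct x (Φ.e i) = Φ.e i := fun i => by rw [suAct_mul, e, suAct_inv_suAct]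
  suffices x = 1 by rw [← mul_inv_cancel_left h g]; show h * x = h; rw [this, mul_one]
  have hxf : ∀ i, suAct x (Φ.f i) = Φ.f i := fun i => by
    rw [(torus_act hF Φ hx i).2 1 (by rw [hxe, one_smul]), one_pow, inv_one, one_smul]
  refine ext_frame hF Φ (fun i => by rw [hxe, suAct_one]) (fun i => by rw [hxf, suAct_one]) ?_
  rw [suAct_one]
  rcases Φ.hu with h0 | h1
  · rw [h0, suAct_zero]
  · have hu := mono_u hF Φ (torus_le_mono hF Φ hx)
    have := det_diag hF Φ l (α := 1) (fun i _ => hxe i) (by rw [hxe, one_smul]) (fun i _ => hxf i)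
      (by rw [hxf, one_pow, inv_one, one_smul]) hu
    rw [one_pow, inv_one, mul_one, one_mul, h1, mul_one, add_sub_cancel] at this
    rw [hu, this, one_smul]

theorem torus_vE {g : Cfsg.SU n F q} {l : Fin m} {α : F}
    (he : ∀ i, suAct g (Φ.e i) = (if i = l then α else 1) • Φ.e i) (v : Fin m → F) :
    suAct g (vE Φ v) = vE Φ (Dl l α v) := by
  simp only [vE, suAct, Matrix.mulVec_sum, Matrix.mulVec_smul]
  refine Finset.sum_congr rfl fun i _ => ?_
  have := he i
  simp only [suAct] at this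
  rw [this, smul_smul, Dl, mul_comm]

theorem torus_cM {g : Cfsg.SU n F q} {l : Fin m} {α : F}
    (he : ∀ i, suAct g (Φ.e i) = (if i = l then α else 1) • Φ.e i) (v : Fin m → F) :
    g * cM hF Φ v * g⁻¹ = cM hF Φ (Dl l α v) := by
  rw [cM, conj_te hF]
  exact te_congr hF _ _ _ _ (torus_vE hF Φ he v) rfl

theorem psi0_cjD {g : Cfsg.SU n F q} (hg : g ∈ torus hF Φ) (l : Fin m) (α : Fˣ)
    (he : ∀ i, suAct g (Φ.e i) = (if i = l then (α : F) else 1) • Φ.e i)
    (a : Matrix.SpecialLinearGroup (Fin m) F) : g * psi0 hF Φ a * g⁻¹ = psi0 hF Φ (cjD l α a) := by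
  have ha : a ∈ (⊤ : Subgroup (Matrix.SpecialLinearGroup (Fin m) F)) := trivial
  rw [← Linear.closure_slTvSet] at ha
  induction ha using Subgroup.closure_induction with
  | mem x hx =>
    obtain ⟨i, j, h, b, rfl⟩ := hx
    rw [cjD_tv, psi0_tv, psi0_tv, xe, xe, eich_conj hF]
    set a : Fin m → F := fun i => if i = l then (α : F) else 1 with hadef
    have hj : suAct g (b ^ q • Φ.f j) = (b ^ q * ((a j) ^ q)⁻¹) • Φ.f j := by
      rw [suAct_smul, (torus_act hF Φ hg j).2 _ (he j), smul_smul]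
    have hok : Ok q (a i • Φ.e i) ((b ^ q * ((a j) ^ q)⁻¹) • Φ.f j) 0 := by
      have := ok_conj hF (ok_swap hF Φ h (b ^ q)) g
      rwa [he, hj] at this
    have hok' : Ok q (Φ.e i) ((a i) ^ q • (b ^ q * ((a j) ^ q)⁻¹) • Φ.f j) (0 * (a i) ^ (q + 1)) := by
      rw [smul_smul, zero_mul]; exact ok_swap hF Φ h _
    rw [eich_congr hF _ hok (he i) hj rfl, eich_smul_left hF hok hok']
    refine eich_congr hF _ _ rfl ?_ (zero_mul _)
    rw [smul_smul]
    congr 1
    have e2 : (if j = l then ((α⁻¹ : Fˣ) : F) else 1) = (a j)⁻¹ := by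
      simp only [hadef]; split_ifs <;> simp
    rw [e2, mul_pow, mul_pow, inv_pow]
    ring
  | one => rw [map_one, mul_one, mul_inv_cancel, show cjD l α 1 = 1 from map_one (cjDHom l α), map_one]
  | mul x y _ _ hx hy =>
    rw [map_mul, cjD_mul, map_mul, ← hx, ← hy]; group
  | inv x _ hx =>
    rw [map_inv, show cjD l α x⁻¹ = (cjD l α x)⁻¹ from map_inv (cjDHom l α) x, map_inv, ← hx]; group

theorem flip_comm {i j : Fin m} (h : i ≠ j) : Commute (flipEl hF Φ i) (flipEl hF Φ j) := by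
  obtain ⟨i1, i2, i3, i4⟩ := suAct_flipEl hF Φ i
  obtain ⟨j1, j2, j3, j4⟩ := suAct_flipEl hF Φ j
  refine ext_frame hF Φ (fun x => ?_) (fun x => ?_) ?_ <;> simp only [suAct_mul]
  · rcases eq_or_ne x i with rfl | hxi
    · rw [i1, suAct_smul, (j4 x h).1, (j4 x h).2, i1]
    rcases eq_or_ne x j with rfl | hxj
    · rw [j1, suAct_smul, (i4 x h.symm).1, (i4 x h.symm).2, j1]
    rw [(i4 x hxi).1, (j4 x hxj).1, (i4 x hxi).1]
  · rcases eq_or_ne x i with rfl | hxi
    · rw [i2, suAct_smul, (j4 x h).1, (j4 x h).2, i2]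
    rcases eq_or_ne x j with rfl | hxj
    · rw [j2, suAct_smul, (i4 x h.symm).1, (i4 x h.symm).2, j2]
    rw [(i4 x hxi).2, (j4 x hxj).2, (i4 x hxi).2]
  · rw [i3, j3, i3]

theorem t0_mem_mono (l : Fin m) : t0 hF Φ l ∈ mono hF Φ := by
  obtain ⟨i1, i2, -, i4⟩ := suAct_flipEl hF Φ l
  rintro (x | x)
  · rcases eq_or_ne x l with rfl | hx
    · exact ⟨Sum.inr x, -(skew hF)⁻¹, i1⟩
    · exact ⟨Sum.inl x, 1, by show suAct _ (Φ.e x) = _; rw [one_smul]; exact (i4 x hx).1⟩
  · rcases eq_or_ne x l with rfl | hx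
    · exact ⟨Sum.inl x, skew hF, i2⟩
    · exact ⟨Sum.inr x, 1, by show suAct _ (Φ.f x) = _; rw [one_smul]; exact (i4 x hx).2⟩

theorem t0_conj_torus {g : Cfsg.SU n F q} (hg : g ∈ torus hF Φ) (l : Fin m) :
    t0 hF Φ l * g * (t0 hF Φ l)⁻¹ ∈ torus hF Φ ∧
    ∀ a : Fin m → F, (∀ i, suAct g (Φ.e i) = a i • Φ.e i) → ∀ i,
      suAct (t0 hF Φ l * g * (t0 hF Φ l)⁻¹) (Φ.e i) = (if i = l then ((a i) ^ q)⁻¹ else a i) • Φ.e i := by
  refine ⟨torus_normalized hF Φ (t0_mem_mono hF Φ l) hg, fun a ha i => ?_⟩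
  rw [suAct_mul, suAct_mul]
  by_cases hi : i = l
  · subst hi
    rw [(t0_inv hF Φ i).2, suAct_smul, (torus_act hF Φ hg i).2 _ (ha i), suAct_smul, suAct_smul, t0_f, if_pos rfl,
      smul_smul, smul_smul]
    congr 1
    field_simp [skew_ne_zero hF]
  · rw [(t0_inv_of hF Φ l hi).1, ha, suAct_smul, (t0_of hF Φ l hi).1, if_neg hi]

theorem t0_sq_torus (l : Fin m) :
    t0 hF Φ l * t0 hF Φ l ∈ torus hF Φ ∧
      ∀ i, suAct (t0 hF Φ l * t0 hF Φ l) (Φ.e i) = (if i = l then (-1 : F) else 1) • Φ.e i := by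
  obtain ⟨i1, i2, -, i4⟩ := suAct_flipEl hF Φ l
  refine ⟨?_, fun i => ?_⟩
  · rintro (x | x)
    · rcases eq_or_ne x l with rfl | hx
      · refine ⟨-1, ?_⟩
        show suAct (flipEl hF Φ x * flipEl hF Φ x) (Φ.e x) = (-1 : F) • Φ.e x
        rw [suAct_mul, i1, suAct_smul, i2, smul_smul, neg_mul, inv_mul_cancel₀ (skew_ne_zero hF)]
      · refine ⟨1, ?_⟩
        show suAct (flipEl hF Φ l * flipEl hF Φ l) (Φ.e x) = (1 : F) • Φ.e x
        rw [suAct_mul, (i4 x hx).1, (i4 x hx).1, one_smul]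
    · rcases eq_or_ne x l with rfl | hx
      · refine ⟨-1, ?_⟩
        show suAct (flipEl hF Φ x * flipEl hF Φ x) (Φ.f x) = (-1 : F) • Φ.f x
        rw [suAct_mul, i2, suAct_smul, i1, smul_smul, mul_neg, mul_inv_cancel₀ (skew_ne_zero hF)]
      · refine ⟨1, ?_⟩
        show suAct (flipEl hF Φ l * flipEl hF Φ l) (Φ.f x) = (1 : F) • Φ.f x
        rw [suAct_mul, (i4 x hx).2, (i4 x hx).2, one_smul]
  · by_cases hi : i = l
    · subst hi
      show suAct (flipEl hF Φ i * flipEl hF Φ i) (Φ.e i) = _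
      rw [suAct_mul, i1, suAct_smul, i2, if_pos rfl, smul_smul, neg_mul, inv_mul_cancel₀ (skew_ne_zero hF)]
    · show suAct (flipEl hF Φ l * flipEl hF Φ l) (Φ.e i) = _
      rw [suAct_mul, (i4 i hi).1, (i4 i hi).1, if_neg hi, one_smul]

theorem torus_pow {g : Cfsg.SU n F q} {l : Fin m} {α : F}
    (he : ∀ i, suAct g (Φ.e i) = (if i = l then α else 1) • Φ.e i) (J : ℕ) (i : Fin m) :
    suAct (g ^ J) (Φ.e i) = (if i = l then α ^ J else 1) • Φ.e i := by
  induction J with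
  | zero => simp
  | succ J ih =>
    rw [pow_succ', suAct_mul, ih, suAct_smul, he, smul_smul]
    congr 1
    split_ifs <;> simp [pow_succ]

end Model

/-- A subset of a finite cyclic group closed under multiplication by some elements. -/
theorem closed_zpowers {A : Type*} [Group A] [Finite A] (S : Set A) {g : A} (h : ∀ x ∈ S, g * x ∈ S) (i : ℤ) :
    ∀ x ∈ S, g ^ i * x ∈ S := by
  intro x hx
  have hnat : ∀ j : ℕ, g ^ j * x ∈ S := fun j => by
    induction j with
    | zero => simpa using hx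
    | succ j ih => rw [pow_succ', mul_assoc]; exact h _ ih
  have hpos : 0 < orderOf g := orderOf_pos g
  have := hnat (i % (orderOf g : ℤ)).toNat
  rwa [← zpow_natCast, Int.toNat_of_nonneg (Int.emod_nonneg i (by omega)), zpow_mod_orderOf] at this

section Abstract

variable {F : Type*} [Field F] {m : ℕ} {G : Type*} [Group G] {l k : Fin m}

theorem cvF_eq (hlk : l ≠ k) (ψ : Matrix.SpecialLinearGroup (Fin m) F →* G) (c : G)
    (hst : ∀ g, ap g (Pi.single l 1) = Pi.single l 1 → Commute (ψ g) c) {g : Matrix.SpecialLinearGroup (Fin m) F}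
    {v : Fin m → F} (hg : ap g (Pi.single l 1) = v) : cvF hlk ψ c v = ψ g * c * (ψ g)⁻¹ := by
  have hv : v ≠ 0 := hg ▸ ap_ne_zero g (fun e => one_ne_zero (α := F) (by simpa using congrFun e l))
  rw [cvF, dif_neg hv]
  set g' := (exists_first hlk hv).choose
  have hg' : ap g' (Pi.single l 1) = v := (exists_first hlk hv).choose_spec
  have h1 : Commute (ψ (g⁻¹ * g')) c := hst _ (by rw [ap_mul, hg', ← hg, ap_inv_ap])
  have e : ψ g' = ψ g * ψ (g⁻¹ * g') := by rw [← map_mul, mul_inv_cancel_left]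
  rw [e, _root_.mul_inv_rev, mul_assoc (ψ g), h1.eq]
  group

theorem cvF_one (hlk : l ≠ k) (ψ : Matrix.SpecialLinearGroup (Fin m) F →* G) (c : G)
    (hst : ∀ g, ap g (Pi.single l 1) = Pi.single l 1 → Commute (ψ g) c) : cvF hlk ψ c (Pi.single l 1) = c := by
  rw [cvF_eq hlk ψ c hst (g := 1) (ap_one _), map_one]; group

theorem cvF_conj (hlk : l ≠ k) (ψ : Matrix.SpecialLinearGroup (Fin m) F →* G) (c : G)
    (hst : ∀ g, ap g (Pi.single l 1) = Pi.single l 1 → Commute (ψ g) c) (g : Matrix.SpecialLinearGroup (Fin m) F)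
    (v : Fin m → F) : ψ g * cvF hlk ψ c v * (ψ g)⁻¹ = cvF hlk ψ c (ap g v) := by
  rcases eq_or_ne v 0 with rfl | hv
  · rw [ap_zero]; simp [cvF]
  obtain ⟨g', hg'⟩ := exists_first hlk hv
  rw [cvF_eq hlk ψ c hst hg', cvF_eq hlk ψ c hst (g := g * g') (by rw [ap_mul, hg']), map_mul]
  group

theorem cvF_d (hlk : l ≠ k) (ψ : Matrix.SpecialLinearGroup (Fin m) F →* G) (c : G)
    (hst : ∀ g, ap g (Pi.single l 1) = Pi.single l 1 → Commute (ψ g) c) {d : G} {α : Fˣ} {γ : F}
    (hdψ : ∀ a, d * ψ a * d⁻¹ = ψ (cjD l α a)) (hdc : d * c * d⁻¹ = cvF hlk ψ c (Pi.single l γ)) (v : Fin m → F) :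
    d * cvF hlk ψ c v * d⁻¹ = cvF hlk ψ c (Dl l (α : F) ((γ / α) • v)) := by
  rcases eq_or_ne v 0 with rfl | hv
  · rw [smul_zero, show Dl l (α : F) (0 : Fin m → F) = 0 from funext fun j => mul_zero _]; simp [cvF]
  obtain ⟨g, hg⟩ := exists_first hlk hv
  rw [cvF_eq hlk ψ c hst hg, show d * (ψ g * c * (ψ g)⁻¹) * d⁻¹ =
    (d * ψ g * d⁻¹) * (d * c * d⁻¹) * (d * ψ g * d⁻¹)⁻¹ by group, hdψ, hdc, cvF_conj hlk ψ c hst]
  congr 1
  rw [ap_cjD_eq, Dl_single, if_pos rfl, ← hg, ← ap_smul, ← Pi.single_smul', smul_eq_mul, mul_one]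
  congr 3
  rw [Units.val_inv_eq_inv_val, div_eq_mul_inv, mul_comm]

theorem tjF_eq (hlk : l ≠ k) (ψ : Matrix.SpecialLinearGroup (Fin m) F →* G) (t : G)
    (hfix : ∀ g ∈ Fix1 l, Commute t (ψ g)) {g : Matrix.SpecialLinearGroup (Fin m) F} {j : Fin m}
    (h : IsMono l g j 1) : ψ g * t * (ψ g)⁻¹ = tjF hlk ψ t j := by
  obtain ⟨x, hx, rfl⟩ := (exists_isMono (F := F) hlk j 1).choose_spec.compare hlk h
  rw [tjF, inv_one, one_mul, show (hd hlk (1 : Fˣ) : Matrix.SpecialLinearGroup (Fin m) F) = 1 from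
    map_one (hdHom hlk), mul_one, map_mul, _root_.mul_inv_rev, mul_assoc (ψ _), ← (hfix x hx).eq]
  group

theorem sw_isMono (hlk : l ≠ k) : IsMono l (sw hlk.symm : Matrix.SpecialLinearGroup (Fin m) F) k 1 := by
  have := ((isMono_one (F := F) l).sw_left hlk.symm.symm).2
  simpa using this

theorem cjD_colE (a : Fˣ) {w : Fin m → F} (hw : w l = 0) :
    cjD l a (colE l w : Matrix.SpecialLinearGroup (Fin m) F) = colE l (((a⁻¹ : Fˣ) : F) • w) := by
  refine ext_ap fun v => funext fun x => ?_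
  rw [ap_cjD_eq, Dl, ap_colE, ap_colE, killAt_of hw,
    killAt_of (show (((a⁻¹ : Fˣ) : F) • w) l = 0 by simp [hw])]
  by_cases hx : x = l
  · subst hx; simp [Dl, hw]
  · simp [Dl, hx]; ring

theorem cjD_cjD (a b : Fˣ) (g : Matrix.SpecialLinearGroup (Fin m) F) : cjD l a (cjD l b g) = cjD l (a * b) g :=
  ext_ap fun v => funext fun x => by
    rw [ap_cjD_eq, ap_cjD_eq, ap_cjD_eq]
    have e : ∀ (a b : F) (v : Fin m → F), Dl l a (Dl l b v) = Dl l (a * b) v := fun a b v => by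
      funext j; simp only [Dl]; split_ifs <;> ring
    rw [e, e, _root_.mul_inv_rev, ← Units.val_mul, ← Units.val_mul]

theorem cjD_unit (g : Matrix.SpecialLinearGroup (Fin m) F) : cjD l (1 : Fˣ) g = g :=
  ext_ap fun v => funext fun x => by
    have e : ∀ v : Fin m → F, Dl l (1 : F) v = v := fun v => funext fun j => by simp [Dl]
    rw [ap_cjD_eq, inv_one, Units.val_one, e, e]

theorem zpow_cjD (ψ : Matrix.SpecialLinearGroup (Fin m) F →* G) {d : G} {α : Fˣ}
    (hdψ : ∀ a, d * ψ a * d⁻¹ = ψ (cjD l α a)) (i : ℤ) (a : Matrix.SpecialLinearGroup (Fin m) F) :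
    d ^ i * ψ a * (d ^ i)⁻¹ = ψ (cjD l (α ^ i) a) := by
  induction i using Int.induction_on generalizing a with
  | zero => rw [zpow_zero, zpow_zero, cjD_unit]; group
  | succ i ih =>
    rw [_root_.zpow_add_one, _root_.zpow_add_one, ← cjD_cjD, ← ih, ← hdψ]
    group
  | pred i ih =>
    have h1 : d⁻¹ * ψ a * d = ψ (cjD l α⁻¹ a) := by
      have h2 := hdψ (cjD l α⁻¹ a)
      rw [cjD_cjD, mul_inv_cancel, cjD_unit] at h2
      rw [← h2]; group
    rw [_root_.zpow_sub_one, _root_.zpow_sub_one, ← cjD_cjD, ← ih, ← h1]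
    group

/-- A subgroup of torus elements acts on the conjugates of column transvections. -/
theorem MF_conj (hlk : l ≠ k) (ψ : Matrix.SpecialLinearGroup (Fin m) F →* G) {d t : G} {α : Fˣ}
    (hdψ : ∀ a, d * ψ a * d⁻¹ = ψ (cjD l α a)) {X : G} {u : Fˣ} {i : ℤ}
    (hX : t * X * t⁻¹ = ψ (hd hlk u) * d ^ i) {w : Fin m → F} (hw : w l = 0) :
    ∃ w', w' l = 0 ∧ X * MF l ψ t w * X⁻¹ = MF l ψ t w' := by
  have hd1 : ∀ (i : ℤ) (w : Fin m → F), w l = 0 → ∃ w', w' l = 0 ∧
      d ^ i * ψ (colE l w) * (d ^ i)⁻¹ = ψ (colE l w') := fun i w hw =>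
    ⟨(((α ^ i)⁻¹ : Fˣ) : F) • w, by simp [hw], by rw [zpow_cjD ψ hdψ, cjD_colE _ hw]⟩
  obtain ⟨w1, hw1, e1⟩ := hd1 i w hw
  have hl : ap (hd hlk u) w1 l = 0 := by rw [ap_hd, hw1, mul_zero]
  refine ⟨((u⁻¹ : Fˣ) : F) • ap (hd hlk u) w1, by simp [hl], ?_⟩
  rw [MF, MF, show X * (t⁻¹ * ψ (colE l w) * t) * X⁻¹ = t⁻¹ * ((t * X * t⁻¹) * ψ (colE l w) * (t * X * t⁻¹)⁻¹) * t by
    group, hX, show ψ (hd hlk u) * d ^ i * ψ (colE l w) * (ψ (hd hlk u) * d ^ i)⁻¹ =
      ψ (hd hlk u) * (d ^ i * ψ (colE l w) * (d ^ i)⁻¹) * (ψ (hd hlk u))⁻¹ by group, e1, ← map_inv, ← map_mul, ← map_mul]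
  congr 3
  rw [mul_inv_eq_iff_eq_mul]
  refine ext_ap fun v => ?_
  rw [ap_mul, ap_mul, ap_colE, ap_colE, ap_add, ap_smul, killAt_of hw1,
    killAt_of (show (((u⁻¹ : Fˣ) : F) • ap (hd hlk u) w1) l = 0 by simp [hl]), ap_hd, if_pos rfl, smul_smul]
  congr 2
  rw [Units.val_inv_eq_inv_val]; field_simp

end Abstract

end Cfsg.Agent.SUNPresent
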