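/-
Consequences of short lists of relations.

* `commute_stab`, `commute_off`, `pair_off`, `fpair_off`, `tt_all`, `dψ_three`: three or more indices, from
  one relation each and the elements fixing `l`.
* `all_units`, `all_scalars`: orbits of scalars.
* `line_tv`, `line_k`, `line_lk`, `zeta_k`, `zeta_lk`: two indices, the elements that move the scalars.
-/
import Cfsg.Agent.Lib.SUNPresent.Tools

set_option autoImplicit false
set_option linter.unusedSectionVars false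
set_option linter.unusedSimpArgs false

open Matrix

namespace Cfsg.Agent.SUNPresent

open Cfsg.Agent.Unitary Cfsg.Agent.UFus Cfsg.Agent.UnitaryBN

local notation "tv" => Matrix.SpecialLinearGroup.transvection

section General

variable {F : Type*} [Field F] {m : ℕ} {G : Type*} [Group G] {l k : Fin m}

/-- The elements of SL whose images commute with `x`. -/
def comK (ψ : Matrix.SpecialLinearGroup (Fin m) F →* G) (x : G) : Subgroup (Matrix.SpecialLinearGroup (Fin m) F) where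
  carrier := {g | Commute (ψ g) x}
  one_mem' := by show Commute (ψ 1) x; rw [map_one]; exact Commute.one_left x
  mul_mem' := fun {a b} ha hb => by show Commute (ψ (a * b)) x; rw [map_mul]; exact Commute.mul_left ha hb
  inv_mem' := fun {a} ha => by show Commute (ψ a⁻¹) x; rw [map_inv]; exact Commute.inv_left ha

theorem mem_comK {ψ : Matrix.SpecialLinearGroup (Fin m) F →* G} {x : G}
    {g : Matrix.SpecialLinearGroup (Fin m) F} : g ∈ comK ψ x ↔ Commute (ψ g) x := Iff.rfl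

theorem commute_fix1 (ψ : Matrix.SpecialLinearGroup (Fin m) F →* G) {a b : Matrix.SpecialLinearGroup (Fin m) F}
    (hab : Fix1 l ≤ Subgroup.closure {a, b}) {x : G} (ha : Commute (ψ a) x) (hb : Commute (ψ b) x) :
    ∀ g ∈ Fix1 l, Commute (ψ g) x := fun g hg =>
  (Subgroup.closure_le (comK ψ x)).2 (by rintro _ (rfl | rfl) <;> assumption) (hab hg)

theorem eq_or_eq_of_two (hm : m = 2) (hlk : l ≠ k) (j : Fin m) : j = l ∨ j = k := by
  subst hm
  have h1 := l.isLt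
  have h2 := k.isLt
  have h3 := j.isLt
  have h4 : l.val ≠ k.val := Fin.val_ne_iff.2 hlk
  rcases (show j.val = l.val ∨ j.val = k.val by omega) with h | h
  · exact Or.inl (Fin.ext h)
  · exact Or.inr (Fin.ext h)

theorem commute_stab (hm : 3 ≤ m) (hlk : l ≠ k) (ψ : Matrix.SpecialLinearGroup (Fin m) F →* G) {x : G}
    (hfix : ∀ g ∈ Fix1 l, Commute (ψ g) x) (hrow : Commute (ψ (tv hlk (1 : F))) x) :
    ∀ g, ap g (Pi.single l 1) = Pi.single l 1 → Commute (ψ g) x := fun g hg => by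
  obtain ⟨φ, g', hg', rfl⟩ := stab_mem hg
  exact mem_comK.1 (mul_mem (rowE_mem _ (fun j hj b => row_tv_mem hm (comK ψ x) hfix hlk hrow j hj b) φ)
    (hfix g' hg'))

theorem commute_stab_two (hm : m = 2) (hlk : l ≠ k) (ψ : Matrix.SpecialLinearGroup (Fin m) F →* G) {x : G}
    (hrow : ∀ b : F, Commute (ψ (tv hlk b)) x) :
    ∀ g, ap g (Pi.single l 1) = Pi.single l 1 → Commute (ψ g) x := fun g hg => by
  obtain ⟨φ, g', hg', rfl⟩ := stab_mem hg
  rw [fix1_two hm hlk hg', mul_one]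
  refine mem_comK.1 (rowE_mem (comK ψ x) (fun j hj b => ?_) φ)
  rcases eq_or_eq_of_two hm hlk j with rfl | rfl
  · exact absurd rfl hj
  · exact hrow b

theorem commute_off (hm : 3 ≤ m) (hlk : l ≠ k) (ψ : Matrix.SpecialLinearGroup (Fin m) F →* G) {c x : G}
    (hst : ∀ g, ap g (Pi.single l 1) = Pi.single l 1 → Commute (ψ g) c) (hfix : ∀ g ∈ Fix1 l, Commute (ψ g) x)
    (hk : Commute x (cvF hlk ψ c (Pi.single k 1))) {w : Fin m → F} (hw : w l = 0) :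
    Commute x (cvF hlk ψ c w) := by
  rcases eq_or_ne w 0 with rfl | hw0
  · simp [cvF]
  obtain ⟨g, hg, rfl⟩ := exists_col hm hlk.symm hw hw0
  rw [← cvF_conj hlk ψ c hst]
  exact ((hfix g hg).symm.mul_right hk).mul_right (hfix g hg).symm.inv_right

theorem MF_fix1 (ψ : Matrix.SpecialLinearGroup (Fin m) F →* G) {t : G}
    (hfix : ∀ g ∈ Fix1 l, Commute t (ψ g)) {g : Matrix.SpecialLinearGroup (Fin m) F} (hg : g ∈ Fix1 l)
    {w : Fin m → F} (hw : w l = 0) : ψ g * MF l ψ t w * (ψ g)⁻¹ = MF l ψ t (ap g w) := by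
  have h := (hfix g hg).inv_left.eq
  have h' := (hfix g hg).inv_right.eq
  rw [MF, MF, ← conj_colE hg.2 hw, map_mul, map_mul, map_inv, show ψ g * (t⁻¹ * ψ (colE l w) * t) * (ψ g)⁻¹ =
    ψ g * t⁻¹ * ψ (colE l w) * (t * (ψ g)⁻¹) by group, ← h, h']
  group

theorem MF_zero (ψ : Matrix.SpecialLinearGroup (Fin m) F →* G) (t : G) : MF l ψ t (0 : Fin m → F) = 1 := by
  rw [MF, colE_zero, map_one]; group

theorem pair_off (hm : 3 ≤ m) (hlk : l ≠ k) (ψ : Matrix.SpecialLinearGroup (Fin m) F →* G) {c t : G}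
    (hst : ∀ g, ap g (Pi.single l 1) = Pi.single l 1 → Commute (ψ g) c) (hfix : ∀ g ∈ Fix1 l, Commute t (ψ g))
    (hE : cvF hlk ψ c (Pi.single l 1 + Pi.single k 1) = c * MF l ψ t (Pi.single k 1) * cvF hlk ψ c (Pi.single k 1))
    {w : Fin m → F} (hw : w l = 0) :
    cvF hlk ψ c (Pi.single l 1 + w) = c * MF l ψ t w * cvF hlk ψ c w := by
  rcases eq_or_ne w 0 with rfl | hw0
  · rw [add_zero, cvF_one hlk ψ c hst, MF_zero]; simp [cvF]
  obtain ⟨g, hg, rfl⟩ := exists_col hm hlk.symm hw hw0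
  have hgc : ψ g * c * (ψ g)⁻¹ = c := by rw [(hst g hg.1).eq]; group
  have e1 := cvF_conj hlk ψ c hst g (Pi.single l 1 + Pi.single k 1)
  rw [ap_add, hg.1, hE, show ψ g * (c * MF l ψ t (Pi.single k 1) * cvF hlk ψ c (Pi.single k 1)) * (ψ g)⁻¹ =
    (ψ g * c * (ψ g)⁻¹) * (ψ g * MF l ψ t (Pi.single k 1) * (ψ g)⁻¹) *
      (ψ g * cvF hlk ψ c (Pi.single k 1) * (ψ g)⁻¹) by group, hgc, MF_fix1 ψ hfix hg (Pi.single_eq_of_ne hlk _),
    cvF_conj hlk ψ c hst] at e1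
  exact e1.symm

theorem fpair_off (hm : 3 ≤ m) (hlk : l ≠ k) (ψ : Matrix.SpecialLinearGroup (Fin m) F →* G) {u t : G}
    (hst : ∀ g, ap g (Pi.single l 1) = Pi.single l 1 → Commute (ψ g) u) (hfix : ∀ g ∈ Fix1 l, Commute t (ψ g))
    {a : F} (hE : cvF hlk ψ u (Pi.single l 1 + Pi.single k 1) =
      u * cvF hlk ψ u (Pi.single k 1) * MF l ψ t (a • Pi.single k 1))
    {w : Fin m → F} (hw : w l = 0) :
    cvF hlk ψ u (Pi.single l 1 + w) = u * cvF hlk ψ u w * MF l ψ t (a • w) := by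
  rcases eq_or_ne w 0 with rfl | hw0
  · rw [add_zero, cvF_one hlk ψ u hst, smul_zero, MF_zero]; simp [cvF]
  obtain ⟨g, hg, rfl⟩ := exists_col hm hlk.symm hw hw0
  have hgu : ψ g * u * (ψ g)⁻¹ = u := by rw [(hst g hg.1).eq]; group
  have e1 := cvF_conj hlk ψ u hst g (Pi.single l 1 + Pi.single k 1)
  rw [ap_add, hg.1, hE, show ψ g * (u * cvF hlk ψ u (Pi.single k 1) * MF l ψ t (a • Pi.single k 1)) * (ψ g)⁻¹ =
    (ψ g * u * (ψ g)⁻¹) * (ψ g * cvF hlk ψ u (Pi.single k 1) * (ψ g)⁻¹) *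
      (ψ g * MF l ψ t (a • Pi.single k 1) * (ψ g)⁻¹) by group, hgu,
    MF_fix1 ψ hfix hg (by simp [hlk]), cvF_conj hlk ψ u hst, ap_smul] at e1
  exact e1.symm

theorem tt_all (hm : 3 ≤ m) (hlk : l ≠ k) (ψ : Matrix.SpecialLinearGroup (Fin m) F →* G) {t : G}
    (hfix : ∀ g ∈ Fix1 l, Commute t (ψ g))
    (hk : Commute t (ψ (sw hlk.symm) * t * (ψ (sw hlk.symm))⁻¹)) :
    ∀ j, j ≠ l → Commute t (tjF hlk ψ t j) := fun j hj => by
  rcases eq_or_ne j k with rfl | hjk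
  · rwa [← tjF_eq hlk ψ t hfix (sw_isMono hlk)]
  · have hmono := ((sw_isMono (F := F) hlk).sw_left hjk.symm).2
    have hx : (sw hjk : Matrix.SpecialLinearGroup (Fin m) F) ∈ Fix1 l := sw_mem_fix1 _ hj hlk.symm
    rw [← tjF_eq hlk ψ t hfix hmono, map_mul, show ψ (sw hjk) * ψ (sw hlk.symm) * t * (ψ (sw hjk) * ψ (sw hlk.symm))⁻¹ =
      ψ (sw hjk) * (ψ (sw hlk.symm) * t * (ψ (sw hlk.symm))⁻¹) * (ψ (sw hjk))⁻¹ by group]
    exact ((hfix _ hx).mul_right hk).mul_right (hfix _ hx).inv_right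

theorem tt_two (hm : m = 2) (hlk : l ≠ k) (ψ : Matrix.SpecialLinearGroup (Fin m) F →* G) {t : G}
    (hk : Commute t (ψ (sw hlk.symm) * t * (ψ (sw hlk.symm))⁻¹)) :
    ∀ j, j ≠ l → Commute t (tjF hlk ψ t j) := fun j hj => by
  obtain rfl := (eq_or_eq_of_two hm hlk j).resolve_left hj
  rwa [← tjF_eq hlk ψ t (fun g hg => by rw [fix1_two hm hlk hg, map_one]; exact Commute.one_right t) (sw_isMono hlk)]

theorem dψ_three (hm : 3 ≤ m) (hlk : l ≠ k) (ψ : Matrix.SpecialLinearGroup (Fin m) F →* G) {d : G} {α : Fˣ}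
    (hfix : ∀ g ∈ Fix1 l, Commute (ψ g) d) (hs : d * ψ (sw hlk.symm) * d⁻¹ = ψ (cjD l α (sw hlk.symm)))
    (a : Matrix.SpecialLinearGroup (Fin m) F) : d * ψ a * d⁻¹ = ψ (cjD l α a) := by
  have e : ((MulAut.conj d).toMonoidHom.comp ψ).eqLocus (ψ.comp (cjDHom l α)) = ⊤ := by
    refine closure_fix1_sw hm hlk _ (fun g hg => ?_) hs
    show d * ψ g * d⁻¹ = ψ (cjD l α g)
    rw [cjD_of_fix1 hg, ← (hfix g hg).eq]; group
  exact (e ▸ Subgroup.mem_top a : a ∈ ((MulAut.conj d).toMonoidHom.comp ψ).eqLocus (ψ.comp (cjDHom l α)))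

theorem dψ_gen (ψ : Matrix.SpecialLinearGroup (Fin m) F →* G) {d : G} {α : Fˣ}
    {x y : Matrix.SpecialLinearGroup (Fin m) F} (hxy : Subgroup.closure {x, y} = ⊤)
    (hx : d * ψ x * d⁻¹ = ψ (cjD l α x)) (hy : d * ψ y * d⁻¹ = ψ (cjD l α y))
    (a : Matrix.SpecialLinearGroup (Fin m) F) : d * ψ a * d⁻¹ = ψ (cjD l α a) := by
  have e : ((MulAut.conj d).toMonoidHom.comp ψ).eqLocus (ψ.comp (cjDHom l α)) = ⊤ := by
    rw [eq_top_iff, ← hxy, Subgroup.closure_le]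
    rintro _ (rfl | rfl)
    · exact hx
    · exact hy
  exact (e ▸ Subgroup.mem_top a : a ∈ ((MulAut.conj d).toMonoidHom.comp ψ).eqLocus (ψ.comp (cjDHom l α)))

theorem cvF_hd (hlk : l ≠ k) (ψ : Matrix.SpecialLinearGroup (Fin m) F →* G) (c : G)
    (hst : ∀ g, ap g (Pi.single l 1) = Pi.single l 1 → Commute (ψ g) c) (a : Fˣ) :
    cvF hlk ψ c (Pi.single l (a : F)) = ψ (hd hlk a) * c * (ψ (hd hlk a))⁻¹ :=
  cvF_eq hlk ψ c hst (by rw [ap_hd_single, if_pos rfl, mul_one])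

theorem cvF_sw (hlk : l ≠ k) (ψ : Matrix.SpecialLinearGroup (Fin m) F →* G) (c : G)
    (hst : ∀ g, ap g (Pi.single l 1) = Pi.single l 1 → Commute (ψ g) c) :
    cvF hlk ψ c (Pi.single k 1) = ψ (sw hlk.symm) * c * (ψ (sw hlk.symm))⁻¹ :=
  cvF_eq hlk ψ c hst (by rw [ap_sw_single_right])

theorem cvF_colE (hlk : l ≠ k) (ψ : Matrix.SpecialLinearGroup (Fin m) F →* G) (c : G)
    (hst : ∀ g, ap g (Pi.single l 1) = Pi.single l 1 → Commute (ψ g) c) {w : Fin m → F} (hw : w l = 0) :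
    cvF hlk ψ c (Pi.single l 1 + w) = ψ (colE l w) * c * (ψ (colE l w))⁻¹ :=
  cvF_eq hlk ψ c hst (by rw [ap_colE_single hw, one_smul])

theorem cvF_line (hlk : l ≠ k) (ψ : Matrix.SpecialLinearGroup (Fin m) F →* G) (c : G)
    (hst : ∀ g, ap g (Pi.single l 1) = Pi.single l 1 → Commute (ψ g) c) (b : Fˣ) :
    cvF hlk ψ c (Pi.single k (b : F)) =
      ψ (sw hlk.symm * hd hlk b) * c * (ψ (sw hlk.symm * hd hlk b))⁻¹ :=
  cvF_eq hlk ψ c hst (by rw [ap_mul, ap_hd_single, if_pos rfl, mul_one, ap_sw_single_right])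

theorem cvF_zeta (hlk : l ≠ k) (ψ : Matrix.SpecialLinearGroup (Fin m) F →* G) (c : G)
    (hst : ∀ g, ap g (Pi.single l 1) = Pi.single l 1 → Commute (ψ g) c) {z : Fˣ}
    (hz : Commute (ψ (hd hlk z)) c) (v : Fin m → F) : cvF hlk ψ c ((z : F) • v) = cvF hlk ψ c v := by
  rcases eq_or_ne v 0 with rfl | hv
  · rw [smul_zero]
  obtain ⟨g, rfl⟩ := exists_first hlk hv
  rw [cvF_eq hlk ψ c hst (g := g * hd hlk z)
    (by rw [ap_mul, ap_hd_single, if_pos rfl, mul_one, single_smul_one l, ap_smul]),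
    cvF_eq hlk ψ c hst rfl, map_mul, _root_.mul_inv_rev, mul_assoc (ψ g), hz.eq]
  group

end General

section Scalars

variable {F : Type*} [Field F] [Fintype F] {q : ℕ}

theorem exists_fixed_pow (hF : Fintype.card F = q ^ 2) {θ : Fˣ} (hθ : ∀ x : Fˣ, x ∈ Subgroup.zpowers θ) {x : Fˣ}
    (hx : (x : F) ^ q = (x : F)) : ∃ i : ℤ, x = θ ^ (((q : ℤ) + 1) * i) := by
  obtain ⟨j, rfl⟩ := Subgroup.mem_zpowers_iff.1 (hθ x)
  have h2 := two_le_q hF
  have h1 : θ ^ (j * ((q : ℤ) - 1)) = 1 := by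
    rw [_root_.zpow_mul, show ((q : ℤ) - 1) = ((q - 1 : ℕ) : ℤ) by omega, zpow_natCast]
    refine Units.ext (mul_left_cancel₀ (θ ^ j).ne_zero ?_)
    rw [Units.val_pow_eq_pow_val, ← pow_succ', Nat.sub_add_cancel (by omega), hx, Units.val_one, mul_one]
  rw [← orderOf_dvd_iff_zpow_eq_one, orderOf_gen hF hθ, mul_comm ((q : ℤ) - 1)] at h1
  obtain ⟨i, hi⟩ := Int.dvd_of_mul_dvd_mul_right (by omega) h1
  exact ⟨i, by rw [hi]⟩

/-- Closure under multiplication and finitely many representatives. -/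
theorem all_units {θ : Fˣ} (hθ : ∀ x : Fˣ, x ∈ Subgroup.zpowers θ) (P : Fˣ → Prop) (S : Set Fˣ)
    (hS : ∀ g ∈ S, ∀ x, P x → P (g * x)) {N : ℕ} (hN : 0 < N) (hmem : θ ^ N ∈ Subgroup.closure S)
    (hrep : ∀ j < N, P (θ ^ j)) (x : Fˣ) : P x := by
  have hall : ∀ g ∈ Subgroup.closure S, ∀ x, P x → P (g * x) := by
    intro g hg
    induction hg using Subgroup.closure_induction with
    | mem g hg => exact hS g hg
    | one => intro x hx; rwa [one_mul]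
    | mul a b _ _ ha hb => intro x hx; rw [mul_assoc]; exact ha _ (hb _ hx)
    | inv a _ ha =>
      intro x hx
      have := closed_zpowers {x | P x} ha (-1) x hx
      rwa [_root_.zpow_neg_one] at this
  obtain ⟨i, rfl⟩ := (mem_powers_iff_mem_zpowers (x := θ)).2 (hθ x)
  show P (θ ^ i)
  rw [← Nat.div_add_mod i N, pow_add, pow_mul]
  exact hall _ (pow_mem hmem _) _ (hrep _ (Nat.mod_lt _ hN))

/-- An additive set closed under the scalars of the subfield with two independent members. -/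
theorem all_scalars (hF : Fintype.card F = q ^ 2) {θ : Fˣ} (hθ : ∀ x : Fˣ, x ∈ Subgroup.zpowers θ) (P : F → Prop)
    (h0 : P 0) (hadd : ∀ x y, P x → P y → P (x + y)) {g : Fˣ} (hg : θ ^ (q + 1) ∈ Subgroup.zpowers g)
    (hmul : ∀ x, P x → P ((g : F) * x)) (h1 : P 1) (hθP : P (θ : F)) (b : F) : P b := by
  have hK : ∀ x : F, x ^ q = x → ∀ y, P y → P (x * y) := by
    intro x hx y hy
    rcases eq_or_ne x 0 with rfl | hx0
    · rwa [zero_mul]
    rcases eq_or_ne y 0 with rfl | hy0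
    · rwa [mul_zero]
    obtain ⟨i, hi⟩ := exists_fixed_pow hF hθ (x := Units.mk0 x hx0) hx
    obtain ⟨j, hj⟩ := Subgroup.mem_zpowers_iff.1 hg
    have := closed_zpowers {z : Fˣ | P (z : F)} (g := g)
      (fun z hz => by show P ((g * z : Fˣ) : F); rw [Units.val_mul]; exact hmul _ hz) (j * i) (Units.mk0 y hy0) hy
    rw [_root_.zpow_mul, hj, ← zpow_natCast, ← _root_.zpow_mul, Nat.cast_add, Nat.cast_one, ← hi] at this
    exact this
  have h2 := two_le_q hF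
  have hne : (θ : F) ^ q - (θ : F) ≠ 0 := sub_ne_zero.2 fun e => by
    obtain ⟨i, hi⟩ := exists_fixed_pow hF hθ e
    have h := orderOf_dvd_iff_zpow_eq_one.2 (show θ ^ (((q : ℤ) + 1) * i - 1) = 1 by
      rw [_root_.zpow_sub_one, ← hi, mul_inv_cancel])
    rw [orderOf_gen hF hθ] at h
    have h3 : ((q : ℤ) + 1) ∣ 1 := by
      have h4 := dvd_trans (dvd_mul_left _ _) h
      rwa [dvd_sub_right (dvd_mul_right _ _)] at h4
    have := Int.le_of_dvd one_pos h3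
    omega
  set y := (b ^ q - b) / ((θ : F) ^ q - (θ : F)) with hy
  have hqq : ∀ x : F, (x ^ q) ^ q = x := fun x => by
    rw [← pow_mul, ← sq, ← hF, FiniteField.pow_card]
  have hyK : y ^ q = y := by
    rw [hy, div_pow, sub_pow_q hF, sub_pow_q hF, hqq, hqq, ← neg_sub (b ^ q), ← neg_sub ((θ : F) ^ q),
      neg_div_neg_eq]
  have hxK : (b - y * (θ : F)) ^ q = b - y * (θ : F) := by
    rw [sub_pow_q hF, mul_pow, hyK]
    have : y * ((θ : F) ^ q - (θ : F)) = b ^ q - b := by rw [hy, div_mul_cancel₀ _ hne]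
    linear_combination -this
  have hb := hadd _ _ (hK _ hxK 1 h1) (hK _ hyK _ hθP)
  rwa [mul_one, sub_add_cancel] at hb

theorem commute_zeta {m : ℕ} {G : Type*} [Group G] {l k : Fin m} (hF : Fintype.card F = q ^ 2) (hlk : l ≠ k)
    (ψ : Matrix.SpecialLinearGroup (Fin m) F →* G) {θ : Fˣ} (hθ : ∀ x : Fˣ, x ∈ Subgroup.zpowers θ) {c : G}
    (h : Commute (ψ (hd hlk (θ ^ ((q : ℤ) - 1)))) c) :
    ∀ z : Fˣ, (z : F) ^ (q + 1) = 1 → Commute (ψ (hd hlk z)) c := fun z hz => by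
  obtain ⟨i, rfl⟩ := exists_zeta_pow hF hθ hz
  rw [_root_.zpow_mul, ← hdHom_apply hlk, map_zpow, map_zpow, hdHom_apply]
  exact h.zpow_left i

end Scalars

section Two

variable {F : Type*} [Field F] {m : ℕ} {G : Type*} [Group G] {l k : Fin m}

theorem hd_conj_tv (hlk : l ≠ k) (a : Fˣ) (b : F) :
    hd hlk a * tv hlk b * (hd hlk a)⁻¹ = tv hlk ((a : F) * a * b) := by
  rw [mul_inv_eq_iff_eq_mul]
  refine ext_ap fun v => funext fun x => ?_
  simp only [ap_mul, ap_tv, ap_hd, Pi.add_apply]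
  by_cases hx : x = l
  · subst hx; simp [hlk.symm, ap_hd]; field_simp
  · by_cases hx' : x = k
    · subst hx'; simp [hx]
    · simp [hx, hx']

theorem line_tv (hlk : l ≠ k) (ψ : Matrix.SpecialLinearGroup (Fin m) F →* G) {d : G} {α : Fˣ}
    (hdψ : ∀ a, d * ψ a * d⁻¹ = ψ (cjD l α a)) (a : Fˣ) (b : F) :
    ψ (hd hlk a) * d * ψ (tv hlk b) * (ψ (hd hlk a) * d)⁻¹ = ψ (tv hlk ((a : F) * a * ((α : F) * b))) := by
  rw [show ψ (hd hlk a) * d * ψ (tv hlk b) * (ψ (hd hlk a) * d)⁻¹ =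
    ψ (hd hlk a) * (d * ψ (tv hlk b) * d⁻¹) * (ψ (hd hlk a))⁻¹ by group, hdψ, ← map_inv, ← map_mul, ← map_mul,
    cjD_tv, if_pos rfl, if_neg hlk.symm, mul_one, hd_conj_tv]

theorem line_fix (hlk : l ≠ k) (ψ : Matrix.SpecialLinearGroup (Fin m) F →* G) {c d : G} {γ : Fˣ}
    (hdc : d * c * d⁻¹ = ψ (hd hlk γ) * c * (ψ (hd hlk γ))⁻¹) :
    ψ (hd hlk γ⁻¹) * d * c * (ψ (hd hlk γ⁻¹) * d)⁻¹ = c := by
  rw [show ψ (hd hlk γ⁻¹) * d * c * (ψ (hd hlk γ⁻¹) * d)⁻¹ = ψ (hd hlk γ⁻¹) * (d * c * d⁻¹) * (ψ (hd hlk γ⁻¹))⁻¹ by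
    group, hdc, ← hdHom_apply hlk γ⁻¹, map_inv, map_inv, hdHom_apply]
  group

theorem line_v (hlk : l ≠ k) (ψ : Matrix.SpecialLinearGroup (Fin m) F →* G) {c d : G} {α γ : Fˣ}
    (hst : ∀ g, ap g (Pi.single l 1) = Pi.single l 1 → Commute (ψ g) c)
    (hdψ : ∀ a, d * ψ a * d⁻¹ = ψ (cjD l α a))
    (hdc : d * c * d⁻¹ = ψ (hd hlk γ) * c * (ψ (hd hlk γ))⁻¹) (a b : F) :
    ψ (hd hlk γ⁻¹) * d * cvF hlk ψ c (Pi.single l a + Pi.single k b) * (ψ (hd hlk γ⁻¹) * d)⁻¹ =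
      cvF hlk ψ c (Pi.single l a + Pi.single k ((γ : F) ^ 2 / (α : F) * b)) := by
  rw [show ψ (hd hlk γ⁻¹) * d * cvF hlk ψ c (Pi.single l a + Pi.single k b) * (ψ (hd hlk γ⁻¹) * d)⁻¹ =
    ψ (hd hlk γ⁻¹) * (d * cvF hlk ψ c (Pi.single l a + Pi.single k b) * d⁻¹) * (ψ (hd hlk γ⁻¹))⁻¹ by group,
    cvF_d hlk ψ c hst hdψ (γ := (γ : F)) (by rw [hdc, cvF_hd hlk ψ c hst]), cvF_conj hlk ψ c hst]
  congr 1
  rw [smul_add, Dl_add, ← Pi.single_smul', ← Pi.single_smul', Dl_single, Dl_single, if_pos rfl, if_neg hlk.symm,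
    ap_add, ap_hd_single, ap_hd_single, if_pos rfl, if_neg hlk.symm, if_pos rfl, inv_inv, smul_eq_mul, smul_eq_mul,
    Units.val_inv_eq_inv_val]
  congr 2 <;> field_simp

theorem line_k (hlk : l ≠ k) (ψ : Matrix.SpecialLinearGroup (Fin m) F →* G) {c d : G} {α γ : Fˣ}
    (hst : ∀ g, ap g (Pi.single l 1) = Pi.single l 1 → Commute (ψ g) c)
    (hdψ : ∀ a, d * ψ a * d⁻¹ = ψ (cjD l α a))
    (hdc : d * c * d⁻¹ = ψ (hd hlk γ) * c * (ψ (hd hlk γ))⁻¹) (b : F) :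
    ψ (hd hlk γ⁻¹) * d * cvF hlk ψ c (Pi.single k b) * (ψ (hd hlk γ⁻¹) * d)⁻¹ =
      cvF hlk ψ c (Pi.single k ((γ : F) ^ 2 / (α : F) * b)) := by
  have := line_v hlk ψ hst hdψ hdc 0 b
  rwa [Pi.single_zero, zero_add, zero_add] at this

theorem zeta_k (hlk : l ≠ k) (ψ : Matrix.SpecialLinearGroup (Fin m) F →* G) {c : G}
    (hst : ∀ g, ap g (Pi.single l 1) = Pi.single l 1 → Commute (ψ g) c) (z : Fˣ) (b : F) :
    ψ (hd hlk z) * cvF hlk ψ c (Pi.single k b) * (ψ (hd hlk z))⁻¹ =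
      cvF hlk ψ c (Pi.single k (((z⁻¹ : Fˣ) : F) * b)) := by
  rw [cvF_conj hlk ψ c hst, ap_hd_single, if_neg hlk.symm, if_pos rfl]

theorem zeta_k' (hlk : l ≠ k) (ψ : Matrix.SpecialLinearGroup (Fin m) F →* G) {c : G}
    (hst : ∀ g, ap g (Pi.single l 1) = Pi.single l 1 → Commute (ψ g) c) {z : Fˣ}
    (hz : Commute (ψ (hd hlk z)) c) (b : F) :
    ψ (hd hlk z) * cvF hlk ψ c (Pi.single k b) * (ψ (hd hlk z))⁻¹ =
      cvF hlk ψ c (Pi.single k (((z⁻¹ * z⁻¹ : Fˣ) : F) * b)) := by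
  rw [zeta_k hlk ψ hst, ← cvF_zeta hlk ψ c hst hz (Pi.single k (((z⁻¹ * z⁻¹ : Fˣ) : F) * b)), ← Pi.single_smul',
    smul_eq_mul, ← mul_assoc, ← Units.val_mul, mul_inv_cancel_left]

theorem zeta_lk (hlk : l ≠ k) (ψ : Matrix.SpecialLinearGroup (Fin m) F →* G) {c : G}
    (hst : ∀ g, ap g (Pi.single l 1) = Pi.single l 1 → Commute (ψ g) c) {z : Fˣ}
    (hz : Commute (ψ (hd hlk z)) c) (b : F) :
    ψ (hd hlk z) * cvF hlk ψ c (Pi.single l 1 + Pi.single k b) * (ψ (hd hlk z))⁻¹ =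
      cvF hlk ψ c (Pi.single l 1 + Pi.single k (((z⁻¹ * z⁻¹ : Fˣ) : F) * b)) := by
  conv_rhs => rw [← cvF_zeta hlk ψ c hst hz]
  rw [cvF_conj hlk ψ c hst, ap_add, ap_hd_single, ap_hd_single, if_pos rfl, if_neg hlk.symm, if_pos rfl, smul_add,
    ← Pi.single_smul', ← Pi.single_smul', smul_eq_mul, smul_eq_mul, ← mul_assoc _ _ b, ← Units.val_mul,
    mul_inv_cancel_left]

end Two

section Model

variable {F : Type*} [Field F] [Fintype F] {q n m : ℕ}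
variable (hF : Fintype.card F = q ^ 2) (Φ : Frame n F q m)
include hF

theorem vE_inj {v w : Fin m → F} (h : vE Φ v = vE Φ w) : v = w := funext fun i => by
  have e := congrArg (Cfsg.hermForm n F q (Φ.f i)) h
  rw [h_fv hF, h_fv hF] at e
  have e' := congrArg (fun x : F => x ^ q) e
  simpa [← pow_mul, ← sq, ← hF, FiniteField.pow_card] using e'

theorem M0_inj {l : Fin m} {w w' : Fin m → F} (hw : w l = 0) (hw' : w' l = 0)
    (h : (t0 hF Φ l)⁻¹ * psi0 hF Φ (colE l w) * t0 hF Φ l = (t0 hF Φ l)⁻¹ * psi0 hF Φ (colE l w') * t0 hF Φ l) :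
    w = w' := by
  have h1 := mul_left_cancel (mul_right_cancel h)
  have e1 : suAct (psi0 hF Φ (colE l w)) (Φ.e l) = suAct (psi0 hF Φ (colE l w')) (Φ.e l) := by rw [h1]
  rw [psi0_e, psi0_e, ap_colE_single hw, ap_colE_single hw', one_smul, one_smul] at e1
  exact add_left_cancel (vE_inj hF Φ e1)

end Model

end Cfsg.Agent.SUNPresent
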