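/-
The constants and the model when there is an anisotropic vector.

* `OPar`, `exists_opar`: the constants.
* `fM_commutator`, `fM_pair`, `dO_model`, `dO_fM`: the root element of the line, the pair relation and the
  torus element, inside SU.
-/
import Cfsg.Agent.Lib.SUNPresent.Rels
import Cfsg.Agent.Lib.SUNPresent.Odd

set_option autoImplicit false
set_option linter.unusedSectionVars false
set_option linter.unusedSimpArgs false

open Matrix
open scoped commutatorElement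

namespace Cfsg.Agent.SUNPresent

open Cfsg.Agent.Unitary Cfsg.Agent.UFus Cfsg.Agent.UnitaryBN

local notation "tv" => Matrix.SpecialLinearGroup.transvection

section Units

variable {F : Type*} [Field F] [Fintype F] {q : ℕ}

theorem zpow_congr (hF : Fintype.card F = q ^ 2) {θ : Fˣ} (hθ : ∀ x : Fˣ, x ∈ Subgroup.zpowers θ) {i j : ℤ}
    (c : ℤ) (h : i - j = c * (((q : ℤ) - 1) * ((q : ℤ) + 1))) : θ ^ i = θ ^ j := by
  rw [← mul_inv_eq_one, ← _root_.zpow_sub, ← orderOf_dvd_iff_zpow_eq_one, orderOf_gen hF hθ, h]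
  exact dvd_mul_left _ _

theorem gen_not_fixed (hF : Fintype.card F = q ^ 2) {θ : Fˣ} (hθ : ∀ x : Fˣ, x ∈ Subgroup.zpowers θ) :
    (θ : F) ^ q ≠ (θ : F) := fun e => by
  obtain ⟨i, hi⟩ := exists_fixed_pow hF hθ e
  have h2 := two_le_q hF
  have h := orderOf_dvd_iff_zpow_eq_one.2 (show θ ^ (((q : ℤ) + 1) * i - 1) = 1 by
    rw [_root_.zpow_sub_one, ← hi, mul_inv_cancel])
  rw [orderOf_gen hF hθ] at h
  have h4 := dvd_trans (dvd_mul_left _ _) h
  rw [dvd_sub_right (dvd_mul_right _ _)] at h4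
  have := Int.le_of_dvd one_pos h4
  omega

theorem units_norm_zpow (hF : Fintype.card F = q ^ 2) (x : Fˣ) (i : ℤ) :
    ((x ^ i : Fˣ) : F) ^ (q + 1) = (x : F) ^ ((q + 1 : ℕ) * i : ℤ) := by
  rw [← Units.val_pow_eq_pow_val, ← Units.val_zpow_eq_zpow_val, ← zpow_natCast (x ^ i) (q + 1),
    ← _root_.zpow_mul, mul_comm i]

end Units

/-- The constants. -/
structure OPar {F : Type*} [Field F] [Fintype F] {q n m : ℕ} (hF : Fintype.card F = q ^ 2) (Φ : Frame n F q m) where
  θ : Fˣ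
  hθ : ∀ x : Fˣ, x ∈ Subgroup.zpowers θ
  O : OConst hF Φ
  hb : O.b0 = skew hF * (θ : F)
  x : Fˣ
  hx : (x : F) ^ (q + 1) * (O.a0 ^ (q + 1) * ((θ : F) - (θ : F) ^ q)) = skew hF
  x1 : Fˣ
  hx1 : (x1 : F) ^ (q + 1) = -((θ : F)⁻¹ + ((θ : F) ^ q)⁻¹)

section Exists

variable {F : Type*} [Field F] [Fintype F] {q n m : ℕ}
variable (hF : Fintype.card F = q ^ 2) (Φ : Frame n F q m)
include hF

theorem exists_opar (hu : Cfsg.hermForm n F q Φ.u Φ.u = 1) : Nonempty (OPar hF Φ) := by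
  obtain ⟨θ, hθ⟩ := IsCyclic.exists_generator (α := Fˣ)
  have hs : (skew hF : F) ≠ 0 := skew_ne_zero hF
  have hqq : ∀ x : F, (x ^ q) ^ q = x := fun x => by rw [← pow_mul, ← sq, ← hF, FiniteField.pow_card]
  have hne : (θ : F) - (θ : F) ^ q ≠ 0 := sub_ne_zero.2 (gen_not_fixed hF hθ).symm
  obtain ⟨a, ha⟩ := exists_norm_eq hF (c := -(skew hF * ((θ : F) - (θ : F) ^ q))) (by
    rw [neg_pow_q hF, mul_pow, skew_pow hF, sub_pow_q hF, hqq]; ring)
  have hNa : a ^ (q + 1) ≠ 0 := by rw [ha]; exact neg_ne_zero.2 (mul_ne_zero hs hne)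
  have ha0 : a ≠ 0 := fun e => hNa (by rw [e, zero_pow (Nat.succ_ne_zero q)])
  obtain ⟨x, hx⟩ := exists_norm_eq hF (c := skew hF / (a ^ (q + 1) * ((θ : F) - (θ : F) ^ q))) (by
    rw [div_pow, mul_pow, skew_pow hF, sub_pow_q hF, hqq, ← pow_mul, mul_comm (q + 1), pow_mul, pow_succ (a ^ q),
      hqq, mul_comm a, ← pow_succ, ← neg_sub (θ : F), mul_neg, neg_div_neg_eq])
  have hx0 : x ≠ 0 := fun e => by
    rw [e, zero_pow (Nat.succ_ne_zero q)] at hx
    exact div_ne_zero hs (mul_ne_zero hNa hne) hx.symm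
  have hsum : -((θ : F)⁻¹ + ((θ : F) ^ q)⁻¹) ≠ 0 := by
    rw [neg_ne_zero]
    intro e
    have h2 := two_le_q hF
    have e1 : (θ : F) ^ q = -(θ : F) := by
      have := eq_neg_of_add_eq_zero_right e
      rwa [← inv_neg, _root_.inv_inj] at this
    have e2 : θ ^ ((2 : ℤ) * ((q : ℤ) - 1)) = 1 := by
      rw [mul_comm, _root_.zpow_mul, show ((q : ℤ) - 1) = ((q - 1 : ℕ) : ℤ) by omega, zpow_natCast]
      refine Units.ext ?_
      have e3 : (θ : F) ^ (q - 1) = -1 := mul_left_cancel₀ θ.ne_zero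
        (by rw [← pow_succ', Nat.sub_add_cancel (by omega), e1, mul_neg_one])
      rw [Units.val_zpow_eq_zpow_val, Units.val_pow_eq_pow_val, e3, Units.val_one]
      norm_num
    rw [← orderOf_dvd_iff_zpow_eq_one, orderOf_gen hF hθ, mul_comm (2 : ℤ)] at e2
    have := Int.le_of_dvd two_pos ((mul_dvd_mul_iff_left (by omega : (q : ℤ) - 1 ≠ 0)).1 e2)
    omega
  obtain ⟨x1, hx1⟩ := exists_norm_eq hF (c := -((θ : F)⁻¹ + ((θ : F) ^ q)⁻¹)) (by
    rw [neg_pow_q hF, add_pow_q hF, inv_pow, inv_pow, hqq, add_comm])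
  have hx10 : x1 ≠ 0 := fun e => by
    rw [e, zero_pow (Nat.succ_ne_zero q)] at hx1
    exact hsum hx1.symm
  refine ⟨{ θ := θ, hθ := hθ, O := ⟨a, skew hF * (θ : F), ha0, hu, ?_⟩, hb := rfl, x := Units.mk0 x hx0, hx := ?_,
            x1 := Units.mk0 x1 hx10, hx1 := hx1 }⟩
  · rw [mul_pow, skew_pow hF, ha]; ring
  · show x ^ (q + 1) * (a ^ (q + 1) * ((θ : F) - (θ : F) ^ q)) = skew hF
    rw [hx, div_mul_cancel₀ _ (mul_ne_zero hNa hne)]

end Exists

namespace OPar

variable {F : Type*} [Field F] [Fintype F] {q n m : ℕ} {hF : Fintype.card F = q ^ 2} {Φ : Frame n F q m}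
  (P : OPar hF Φ)

/-- The scalar of the torus element. -/
def αO : Fˣ := P.θ ^ (-(q : ℤ))

/-- The scalar of the torus element on the root groups. -/
def γO : Fˣ := P.αO ^ (2 - (q : ℤ))

theorem αO_gen (x : Fˣ) : x ∈ Subgroup.zpowers P.αO := by
  obtain ⟨i, rfl⟩ := Subgroup.mem_zpowers_iff.1 (P.hθ x)
  refine ⟨-(q : ℤ) * i, ?_⟩
  show P.αO ^ (-(q : ℤ) * i) = P.θ ^ i
  rw [αO, ← _root_.zpow_mul]
  exact zpow_congr hF P.hθ i (by ring)

theorem αO_coe : (P.αO : F) = ((P.θ : F) ^ q)⁻¹ := by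
  rw [αO, _root_.zpow_neg, zpow_natCast, Units.val_inv_eq_inv_val, Units.val_pow_eq_pow_val]

theorem γO_norm : (P.γO : F) ^ (q + 1) = (P.αO : F) ^ (q + 1) := by
  rw [γO, ← Units.val_pow_eq_pow_val, ← Units.val_pow_eq_pow_val, ← zpow_natCast, ← zpow_natCast, αO,
    ← _root_.zpow_mul, ← _root_.zpow_mul, ← _root_.zpow_mul]
  exact congrArg Units.val (zpow_congr hF P.hθ (q : ℤ) (by push_cast; ring))

/-- The scalar on the anisotropic vector. -/
theorem γO_μ : ((P.θ : F) ^ q / (P.θ : F)) * (P.γO : F) = (P.αO : F) := by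
  rw [← Units.val_pow_eq_pow_val, ← Units.val_div_eq_div_val, ← Units.val_mul, γO, αO, ← _root_.zpow_mul,
    div_eq_mul_inv, ← _root_.zpow_neg_one, ← zpow_natCast, ← _root_.zpow_add, ← _root_.zpow_add]
  exact congrArg Units.val (zpow_congr hF P.hθ 1 (by ring))

theorem hκ : -(P.O.b0 ^ q) / P.O.b0 = (P.αO : F) ^ q / (P.αO : F) := by
  have hs : (skew hF : F) ≠ 0 := skew_ne_zero hF
  rw [P.hb, mul_pow, skew_pow hF, neg_mul, neg_neg, mul_div_mul_left _ _ hs, ← Units.val_pow_eq_pow_val,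
    ← Units.val_div_eq_div_val, ← Units.val_pow_eq_pow_val, ← Units.val_div_eq_div_val, αO,
    ← zpow_natCast (P.θ ^ (-(q : ℤ))), ← _root_.zpow_mul, ← zpow_natCast, div_eq_mul_inv, div_eq_mul_inv,
    ← _root_.zpow_neg, ← _root_.zpow_neg_one, ← _root_.zpow_add, ← _root_.zpow_add]
  exact congrArg Units.val (zpow_congr hF P.hθ 1 (by ring))

theorem exists_J : ∃ J : ℕ, ((P.αO ^ J : Fˣ) : F) = -1 := by
  obtain ⟨J, hJ⟩ := (mem_powers_iff_mem_zpowers).2 (P.αO_gen (-1))
  exact ⟨J, by rw [show P.αO ^ J = -1 from hJ, Units.val_neg, Units.val_one]⟩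

theorem Na : P.O.a0 ^ (q + 1) = -(skew hF * ((P.θ : F) - (P.θ : F) ^ q)) := by
  have h := P.O.hab
  rw [P.hb, mul_pow, skew_pow hF] at h
  linear_combination h

theorem cM_fM_comm (v w : Fin m → F) : Commute (cM hF Φ v) (P.O.fM w) := by
  refine ext_frame hF Φ (fun i => ?_) (fun i => ?_) ?_ <;> simp only [suAct_mul]
  · rw [cM_e, OConst.fM_e, cM_e]
  · rw [cM_f, OConst.fM_f, suAct_add, suAct_sub, suAct_add, suAct_smul, suAct_smul, suAct_smul, cM_u,
      OConst.fM_f, OConst.fM_vE, cM_f, suAct_cM, h_vv hF, mul_zero, zero_smul, add_zero]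
    abel
  · rw [cM_u, OConst.fM_u, suAct_add, suAct_smul, cM_u, suAct_cM, h_vv hF, mul_zero, zero_smul, add_zero]

theorem t0_fM {l : Fin m} {w : Fin m → F} (hw : w l = 0) : Commute (t0 hF Φ l) (P.O.fM w) := by
  refine mul_inv_eq_iff_eq_mul.1 ?_
  rw [OConst.fM, eich_conj hF]
  exact eich_congr hF _ _ (t0_vE hF Φ l hw) (by rw [suAct_smul, t0_u]) rfl

/-- The root element of the line from the commutator of two of the others. -/
theorem fM_commutator (l : Fin m) :
    ⁅P.O.fM (Pi.single l (P.x : F)), P.O.fM (Pi.single l ((P.x : F) * (P.θ : F)))⁆ = cM hF Φ (Pi.single l 1) := by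
  rw [commutatorElement_def, mul_inv_eq_iff_eq_mul, mul_inv_eq_iff_eq_mul]
  refine ext_frame hF Φ (fun i => ?_) (fun i => ?_) ?_
  · simp only [suAct_mul, OConst.fM_e, cM_e]
  · rw [suAct_mul, suAct_mul, suAct_mul]
    simp only [OConst.fM_f, suAct_add, suAct_sub, suAct_smul, OConst.fM_u, OConst.fM_vE, cM_u, cM_f]
    simp only [suAct_cM, h_vv hF, mul_zero, zero_smul, add_zero]
    by_cases hi : i = l
    · subst hi
      simp only [Pi.single_eq_same, vE_single, one_pow, mul_one, one_smul, mul_pow]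
      match_scalars
      · ring
      · linear_combination P.hx
      · ring
    · simp [Pi.single_eq_of_ne hi, zero_pow_q hF, vE_single]
  · simp only [suAct_mul, suAct_add, suAct_smul, OConst.fM_u, OConst.fM_vE, cM_u, suAct_cM, h_vv hF, h_uv hF,
      mul_zero, zero_smul, add_zero]
    abel

/-- The pair relation. -/
theorem fM_pair (l : Fin m) {w : Fin m → F} (hw : w l = 0) :
    P.O.fM (Pi.single l 1 + w) = P.O.fM (Pi.single l 1) * P.O.fM w *
      ((t0 hF Φ l)⁻¹ * psi0 hF Φ (colE l ((P.θ : F) • w)) * t0 hF Φ l) := by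
  have hw' : ((P.θ : F) • w) l = 0 := by simp [hw]
  have H0 := (hermForm_isHerm hF n).add_right hF
  set c := cM hF Φ (Pi.single l (1 : F))
  set c' := cM hF Φ ((P.θ : F) • w)
  set M := (t0 hF Φ l)⁻¹ * psi0 hF Φ (colE l ((P.θ : F) • w)) * t0 hF Φ l
  have e : cM hF Φ (Pi.single l 1 + (P.θ : F) • w) = c * M * c' := cM_pair hF Φ l hw'
  have eM : M = c⁻¹ * cM hF Φ (Pi.single l 1 + (P.θ : F) • w) * c'⁻¹ := by rw [e]; group
  suffices hs : P.O.fM (Pi.single l 1 + w) * c' * c =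
      P.O.fM (Pi.single l 1) * P.O.fM w * cM hF Φ (Pi.single l 1 + (P.θ : F) • w) by
    have h1 : c⁻¹ * cM hF Φ (Pi.single l 1 + (P.θ : F) • w) = cM hF Φ (Pi.single l 1 + (P.θ : F) • w) * c⁻¹ :=
      (cM_comm hF Φ (Pi.single l (1 : F)) (Pi.single l 1 + (P.θ : F) • w)).inv_left.eq
    rw [eM, h1, ← mul_assoc, ← mul_assoc, ← hs]; group
  refine ext_frame hF Φ (fun i => ?_) (fun i => ?_) ?_
  · simp only [c, c', suAct_mul, OConst.fM_e, cM_e]
  · simp only [c, c', suAct_mul, OConst.fM_f, suAct_add, suAct_sub, suAct_smul, OConst.fM_u, OConst.fM_vE, cM_u,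
      cM_f]
    simp only [suAct_cM, h_vv hF, mul_zero, zero_smul, add_zero, OConst.fM_f, OConst.fM_vE, suAct_add, suAct_smul]
    simp only [vE_add, vE_smul, vE_one, Pi.add_apply, Pi.smul_apply, smul_eq_mul, mul_pow, add_pow_q hF,
      Pi.single_apply]
    by_cases hi : i = l
    · subst hi
      simp only [↓reduceIte, hw, one_pow, zero_pow_q hF, mul_zero, add_zero, zero_mul]
      match_scalars <;> first
        | ring1
        | linear_combination P.hb
        | linear_combination -P.hb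
    · simp only [hi, ↓reduceIte, zero_pow_q hF, mul_zero, zero_add, zero_mul]
      have h1 := P.Na
      match_scalars <;> first
        | ring1
        | linear_combination (w i ^ q) * P.hb + (w i ^ q) * P.Na
        | linear_combination -(w i ^ q) * P.hb - (w i ^ q) * P.Na
        | linear_combination P.hb + P.Na
        | linear_combination -P.hb - P.Na
  · simp only [c, c', suAct_mul, suAct_add, suAct_smul, OConst.fM_u, OConst.fM_vE, cM_u, suAct_cM, h_vv hF, h_uv hF,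
      vE_add, H0, mul_zero, zero_smul, add_zero]
    simp only [vE_add, smul_add]
    abel

end OPar

section Torus

variable {F : Type*} [Field F] [Fintype F] {q n m : ℕ} {hF : Fintype.card F = q ^ 2} {Φ : Frame n F q m}
  (P : OPar hF Φ) (l : Fin m)

/-- A factor in the rank one relation. -/
noncomputable def YO (a : F) : Cfsg.SU n F q :=
  P.O.fM (Pi.single l a) * cM hF Φ (Pi.single l (P.x1 : F))

/-- The torus element from the rank one relation. -/
noncomputable def dO : Cfsg.SU n F q :=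
  (YO P l (-(P.αO : F)))⁻¹ * (t0 hF Φ l * P.O.fM (Pi.single l 1) * (t0 hF Φ l)⁻¹) *
    (YO P l ((P.θ : F)⁻¹))⁻¹ * (t0 hF Φ l)⁻¹

theorem YO_e (a : F) (i : Fin m) : suAct (YO P l a) (Φ.e i) = Φ.e i := by
  rw [YO, suAct_mul, cM_e, OConst.fM_e]

theorem YO_u (a : F) : suAct (YO P l a) Φ.u = Φ.u + (P.O.a0 ^ q * a) • Φ.e l := by
  rw [YO, suAct_mul, cM_u, OConst.fM_u, vE_single, smul_smul]

theorem YO_f (a : F) : suAct (YO P l a) (Φ.f l) = Φ.f l +
    (P.O.b0 * a ^ (q + 1) + skew hF * (P.x1 : F) ^ (q + 1)) • Φ.e l - (P.O.a0 * a ^ q) • Φ.u := by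
  rw [YO, suAct_mul, cM_f, suAct_add, suAct_smul, OConst.fM_vE, OConst.fM_f, Pi.single_eq_same, Pi.single_eq_same,
    vE_single, vE_single]
  module

theorem YO_of (a : F) {i : Fin m} (h : i ≠ l) : suAct (YO P l a) (Φ.f i) = Φ.f i := by
  rw [YO, suAct_mul, cM_f, suAct_add, suAct_smul, OConst.fM_f, Pi.single_eq_of_ne h, Pi.single_eq_of_ne h,
    zero_pow_q hF]
  simp

theorem dO_act {a b a' : Fin n → F} (h1 : suAct (t0 hF Φ l) (suAct (YO P l ((P.θ : F)⁻¹)) a') = a)
    (h2 : suAct (t0 hF Φ l * P.O.fM (Pi.single l 1) * (t0 hF Φ l)⁻¹) a' = suAct (YO P l (-(P.αO : F))) b) :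
    suAct (dO P l) a = b := by
  rw [dO, suAct_mul, suAct_mul, suAct_mul, ← h1, suAct_inv_suAct, suAct_inv_suAct, h2, suAct_inv_suAct]

theorem dO_model : dO P l ∈ torus hF Φ ∧
    (∀ i, suAct (dO P l) (Φ.e i) = (if i = l then (P.αO : F) else 1) • Φ.e i) ∧
    (∀ i, suAct (dO P l) (Φ.f i) = (if i = l then (P.θ : F) else 1) • Φ.f i) ∧
    suAct (dO P l) Φ.u = ((P.θ : F) ^ q / (P.θ : F)) • Φ.u := by
  have hs : (skew hF : F) ≠ 0 := skew_ne_zero hF
  have ha := P.O.ha0
  have ht : (P.θ : F) ≠ 0 := P.θ.ne_zero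
  have hT : (P.θ : F) ^ q ≠ 0 := pow_ne_zero q ht
  have hqq : ∀ x : F, (x ^ q) ^ q = x := fun x => by rw [← pow_mul, ← sq, ← hF, FiniteField.pow_card]
  have hNa : P.O.a0 ^ q * P.O.a0 = -(skew hF * ((P.θ : F) - (P.θ : F) ^ q)) := by rw [← pow_succ]; exact P.Na
  obtain ⟨ti1, ti2⟩ := t0_inv hF Φ l
  have he : suAct (dO P l) (Φ.e l) = (P.αO : F) • Φ.e l := by
    refine dO_act P l (a' := (skew hF)⁻¹ • (Φ.f l + (skew hF * ((P.θ : F) ^ q)⁻¹) • Φ.e l +
      (P.O.a0 * ((P.θ : F) ^ q)⁻¹) • Φ.u)) ?_ ?_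
    · simp only [suAct_smul, suAct_add, suAct_sub, YO_e, YO_u, YO_f, t0_e, t0_f, t0_u, P.hb, P.hx1, inv_pow, hqq,
        pow_succ]
      match_scalars <;> field_simp <;> first
        | ring1
        | linear_combination hNa
        | linear_combination -hNa
    · simp only [suAct_smul, suAct_add, suAct_sub, suAct_mul, YO_e, ti1, ti2, OConst.fM_e, OConst.fM_f,
        OConst.fM_u, Pi.single_eq_same, vE_single, one_pow, one_smul, mul_one,
        show suAct (t0 hF Φ l)⁻¹ Φ.u = Φ.u from suAct_inj (t0 hF Φ l) (by rw [suAct_suAct_inv, t0_u]), t0_e, t0_f,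
        t0_u, P.hb, OPar.αO_coe]
      match_scalars <;> field_simp <;> first
        | ring1
        | linear_combination hNa
        | linear_combination -hNa
  have hf : suAct (dO P l) (Φ.f l) = (P.θ : F) • Φ.f l := by
    refine dO_act P l (a' := (-skew hF) • Φ.e l) ?_ ?_
    · simp only [suAct_smul, YO_e, t0_e, smul_smul, neg_mul_neg, mul_inv_cancel₀ hs, one_smul]
    · simp only [suAct_smul, suAct_add, suAct_sub, suAct_mul, YO_f, ti1, ti2, OConst.fM_e, OConst.fM_f,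
        Pi.single_eq_same, vE_single, one_pow, one_smul, mul_one, t0_e, t0_f, t0_u, P.hb, P.hx1, OPar.αO_coe,
        neg_pow_q hF, inv_pow, hqq, pow_succ]
      match_scalars <;> field_simp <;> first
        | ring1
        | linear_combination hNa
        | linear_combination -hNa
  have hu : suAct (dO P l) Φ.u = ((P.θ : F) ^ q / (P.θ : F)) • Φ.u := by
    refine dO_act P l (a' := Φ.u - (P.O.a0 ^ q * (P.θ : F)⁻¹) • Φ.e l) ?_ ?_
    · simp only [suAct_smul, suAct_add, suAct_sub, YO_e, YO_u, t0_e, t0_u]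
      module
    · simp only [suAct_smul, suAct_add, suAct_sub, suAct_mul, YO_e, YO_u, ti1, ti2, OConst.fM_e, OConst.fM_f,
        OConst.fM_u, Pi.single_eq_same, vE_single, one_pow, one_smul, mul_one,
        show suAct (t0 hF Φ l)⁻¹ Φ.u = Φ.u from suAct_inj (t0 hF Φ l) (by rw [suAct_suAct_inv, t0_u]), t0_e, t0_f,
        t0_u, P.hb, OPar.αO_coe]
      match_scalars <;> field_simp <;> first
        | ring1
        | linear_combination hNa
        | linear_combination -hNa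
  have hoe : ∀ i, i ≠ l → suAct (dO P l) (Φ.e i) = Φ.e i := fun i hi => by
    refine dO_act P l (a' := Φ.e i) (by rw [YO_e, (t0_of hF Φ l hi).1]) ?_
    rw [suAct_mul, suAct_mul, (t0_inv_of hF Φ l hi).1, OConst.fM_e, (t0_of hF Φ l hi).1, YO_e]
  have hof : ∀ i, i ≠ l → suAct (dO P l) (Φ.f i) = Φ.f i := fun i hi => by
    refine dO_act P l (a' := Φ.f i) (by rw [YO_of P l _ hi, (t0_of hF Φ l hi).2]) ?_
    rw [suAct_mul, suAct_mul, (t0_inv_of hF Φ l hi).2.1, OConst.fM_f, Pi.single_eq_of_ne hi, zero_pow_q hF, mul_zero,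
      mul_zero, zero_smul, zero_smul, add_zero, sub_zero, (t0_of hF Φ l hi).2, YO_of P l _ hi]
  have he' : ∀ i, suAct (dO P l) (Φ.e i) = (if i = l then (P.αO : F) else 1) • Φ.e i := fun i => by
    by_cases hi : i = l
    · subst hi; rw [if_pos rfl]; exact he
    · rw [if_neg hi, one_smul]; exact hoe i hi
  have hf' : ∀ i, suAct (dO P l) (Φ.f i) = (if i = l then (P.θ : F) else 1) • Φ.f i := fun i => by
    by_cases hi : i = l
    · subst hi; rw [if_pos rfl]; exact hf
    · rw [if_neg hi, one_smul]; exact hof i hi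
  exact ⟨fun x => match x with
    | Sum.inl i => ⟨_, he' i⟩
    | Sum.inr i => ⟨_, hf' i⟩, he', hf', hu⟩

theorem dO_fM : dO P l * P.O.fM (Pi.single l 1) * (dO P l)⁻¹ = P.O.fM (Pi.single l (P.γO : F)) := by
  obtain ⟨-, he, hf, hu⟩ := dO_model P l
  have hμ := P.γO_μ
  have ht : (P.θ : F) ≠ 0 := P.θ.ne_zero
  have hn : (P.γO : F) ^ q * (P.γO : F) = (P.αO : F) ^ q * (P.αO : F) := by
    rw [← pow_succ, ← pow_succ]; exact P.γO_norm
  have hαq : (P.αO : F) ^ q * (P.θ : F) = 1 := by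
    rw [OPar.αO_coe, inv_pow, ← pow_mul, ← sq, ← hF, FiniteField.pow_card, inv_mul_cancel₀ ht]
  refine mul_inv_eq_iff_eq_mul.2 (ext_frame hF Φ (fun i => ?_) (fun i => ?_) ?_)
  · simp only [suAct_mul, suAct_smul, OConst.fM_e, he]
  · simp only [suAct_mul, suAct_add, suAct_sub, suAct_smul, OConst.fM_f, hf, he, hu, vE_single]
    by_cases hi : i = l
    · subst hi
      simp only [Pi.single_eq_same, ↓reduceIte, one_pow, one_smul, mul_one, suAct_smul, he, hu, smul_smul]
      match_scalars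
      · ring
      · linear_combination (-(P.O.b0 * (P.θ : F))) * hn - (P.O.b0 * (P.αO : F)) * hαq
      · field_simp at hμ ⊢
        have hg : (P.γO : F) ^ q * (P.θ : F) * (P.γO : F) = (P.αO : F) := by
          linear_combination (P.θ : F) * hn + (P.αO : F) * hαq
        refine mul_left_cancel₀ (P.γO).ne_zero ?_
        linear_combination (P.O.a0 * (P.θ : F)) * hg - P.O.a0 * hμ
    · simp [Pi.single_eq_of_ne hi, hi, zero_pow_q hF, hf]
  · simp only [suAct_mul, suAct_add, suAct_smul, OConst.fM_u, hu, he, vE_single, one_smul, ↓reduceIte, smul_smul]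
    rw [smul_add, smul_smul]
    congr 2
    linear_combination (-(P.O.a0 ^ q)) * hμ

end Torus

end Cfsg.Agent.SUNPresent
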