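/-
Short relations when there is no anisotropic vector.

* `evenList3`, `evenList2`: fourteen relations for three or more indices, sixteen for two.
* `evenList3_sat`, `evenList2_sat`: they hold in SU.
* `evenSys3`, `evenSys2`: they imply the relations of `DSys`.
-/
import Cfsg.Agent.Lib.SUNPresent.Rels

set_option autoImplicit false
set_option linter.unusedSectionVars false
set_option linter.unusedSimpArgs false

open Matrix
open scoped commutatorElement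

namespace Cfsg.Agent.SUNPresent

open Cfsg.Agent.Unitary Cfsg.Agent.UFus Cfsg.Agent.UnitaryBN

local notation "tv" => Matrix.SpecialLinearGroup.transvection

section Lists

variable {F : Type*} [Field F] {m : ℕ} {G G' : Type*} [Group G] [Group G'] {l k : Fin m}

/-- The torus element made from the flip. -/
def dE (h t : G) : G := h⁻¹ * t * h * t⁻¹

theorem map_dE (φ : G →* G') (h t : G) : φ (dE h t) = dE (φ h) (φ t) := by simp [dE]

theorem dE_spec (h t : G) : t * h * t⁻¹ = h * dE h t := by rw [dE]; group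

/-- The scalar of the torus element. -/
def αE (q : ℕ) (θ : Fˣ) : Fˣ := θ ^ (-((q : ℤ) + 1))

/-- The relations for three or more indices. -/
def evenList3 (q : ℕ) (θ : Fˣ) (J : ℕ) (hlk : l ≠ k) (a b : Matrix.SpecialLinearGroup (Fin m) F)
    (ψ : Matrix.SpecialLinearGroup (Fin m) F → G) (c t : G) : List G :=
  [⁅ψ a, c⁆, ⁅ψ b, c⁆, ⁅ψ (tv hlk (1 : F)), c⁆, ⁅ψ (hd hlk (θ ^ ((q : ℤ) - 1))), c⁆,
    ⁅c, ψ (sw hlk.symm) * c * (ψ (sw hlk.symm))⁻¹⁆,
    ψ (colE l (Pi.single k 1)) * c * (ψ (colE l (Pi.single k 1)))⁻¹ *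
      (c * (t⁻¹ * ψ (colE l (Pi.single k 1)) * t) * (ψ (sw hlk.symm) * c * (ψ (sw hlk.symm))⁻¹))⁻¹,
    ⁅ψ a, t⁆, ⁅ψ b, t⁆, ⁅t, ψ (sw hlk.symm) * c * (ψ (sw hlk.symm))⁻¹⁆,
    t * c * t⁻¹ * (c⁻¹ * t * c⁻¹)⁻¹,
    t * t * (dE (ψ (hd hlk θ)) t ^ J)⁻¹,
    ⁅t, ψ (sw hlk.symm) * t * (ψ (sw hlk.symm))⁻¹⁆,
    dE (ψ (hd hlk θ)) t * ψ (sw hlk.symm) * (dE (ψ (hd hlk θ)) t)⁻¹ * (ψ (cjD l (αE q θ) (sw hlk.symm)))⁻¹,
    dE (ψ (hd hlk θ)) t * c * (dE (ψ (hd hlk θ)) t)⁻¹ *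
      (ψ (hd hlk (αE q θ)) * c * (ψ (hd hlk (αE q θ)))⁻¹)⁻¹]

theorem evenList3_map (φ : G →* G') (q : ℕ) (θ : Fˣ) (J : ℕ) (hlk : l ≠ k)
    (a b : Matrix.SpecialLinearGroup (Fin m) F) (ψ : Matrix.SpecialLinearGroup (Fin m) F → G) (c t : G) :
    (evenList3 q θ J hlk a b ψ c t).map φ = evenList3 q θ J hlk a b (fun x => φ (ψ x)) (φ c) (φ t) := by
  simp only [evenList3, List.map_cons, List.map_nil, map_commutatorElement, map_mul, map_inv, map_pow, map_dE φ]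

theorem evenList3_length (q : ℕ) (θ : Fˣ) (J : ℕ) (hlk : l ≠ k) (a b : Matrix.SpecialLinearGroup (Fin m) F)
    (ψ : Matrix.SpecialLinearGroup (Fin m) F → G) (c t : G) : (evenList3 q θ J hlk a b ψ c t).length = 14 := rfl

/-- The relations for two indices. -/
def evenList2 (q : ℕ) (θ : Fˣ) (J : ℕ) (hlk : l ≠ k) (x y : Matrix.SpecialLinearGroup (Fin m) F)
    (ψ : Matrix.SpecialLinearGroup (Fin m) F → G) (c t : G) : List G :=
  [⁅ψ (tv hlk (1 : F)), c⁆, ⁅ψ (tv hlk (θ : F)), c⁆, ⁅ψ (hd hlk (θ ^ ((q : ℤ) - 1))), c⁆,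
    ⁅t, ψ (sw hlk.symm) * c * (ψ (sw hlk.symm))⁻¹⁆,
    dE (ψ (hd hlk θ)) t * ψ x * (dE (ψ (hd hlk θ)) t)⁻¹ * (ψ (cjD l (αE q θ) x))⁻¹,
    dE (ψ (hd hlk θ)) t * ψ y * (dE (ψ (hd hlk θ)) t)⁻¹ * (ψ (cjD l (αE q θ) y))⁻¹,
    dE (ψ (hd hlk θ)) t * c * (dE (ψ (hd hlk θ)) t)⁻¹ *
      (ψ (hd hlk (αE q θ)) * c * (ψ (hd hlk (αE q θ)))⁻¹)⁻¹,
    t * c * t⁻¹ * (c⁻¹ * t * c⁻¹)⁻¹,
    t * t * (dE (ψ (hd hlk θ)) t ^ J)⁻¹,
    ⁅t, ψ (sw hlk.symm) * t * (ψ (sw hlk.symm))⁻¹⁆] ++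
  (List.range 2).map (fun j => ⁅c, ψ (sw hlk.symm * hd hlk (θ ^ j)) * c * (ψ (sw hlk.symm * hd hlk (θ ^ j)))⁻¹⁆) ++
  (List.range 4).map (fun j => ψ (colE l (Pi.single k ((θ ^ j : Fˣ) : F))) * c *
      (ψ (colE l (Pi.single k ((θ ^ j : Fˣ) : F))))⁻¹ *
    (c * (t⁻¹ * ψ (colE l (Pi.single k ((θ ^ j : Fˣ) : F))) * t) *
      (ψ (sw hlk.symm * hd hlk (θ ^ j)) * c * (ψ (sw hlk.symm * hd hlk (θ ^ j)))⁻¹))⁻¹)

theorem evenList2_map (φ : G →* G') (q : ℕ) (θ : Fˣ) (J : ℕ) (hlk : l ≠ k)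
    (x y : Matrix.SpecialLinearGroup (Fin m) F) (ψ : Matrix.SpecialLinearGroup (Fin m) F → G) (c t : G) :
    (evenList2 q θ J hlk x y ψ c t).map φ = evenList2 q θ J hlk x y (fun z => φ (ψ z)) (φ c) (φ t) := by
  simp only [evenList2, List.map_append, List.map_map, Function.comp_def, List.map_cons, List.map_nil,
    map_commutatorElement, map_mul, map_inv, map_pow, map_dE φ]

theorem evenList2_length (q : ℕ) (θ : Fˣ) (J : ℕ) (hlk : l ≠ k) (x y : Matrix.SpecialLinearGroup (Fin m) F)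
    (ψ : Matrix.SpecialLinearGroup (Fin m) F → G) (c t : G) : (evenList2 q θ J hlk x y ψ c t).length = 16 := by
  simp [evenList2]

end Lists

section Model

variable {F : Type*} [Field F] [Fintype F] {q n m : ℕ}
variable (hF : Fintype.card F = q ^ 2) (Φ : Frame n F q m) {l k : Fin m} (hlk : l ≠ k) (θ : Fˣ)
include hF

theorem dE_model : dE (psi0 hF Φ (hd hlk θ)) (t0 hF Φ l) ∈ torus hF Φ ∧
    ∀ i, suAct (dE (psi0 hF Φ (hd hlk θ)) (t0 hF Φ l)) (Φ.e i) =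
      (if i = l then ((αE q θ : Fˣ) : F) else 1) • Φ.e i := by
  have hh := psi0_hd_torus hF Φ hlk θ
  obtain ⟨h1, h2⟩ := t0_conj_torus hF Φ hh l
  have e : dE (psi0 hF Φ (hd hlk θ)) (t0 hF Φ l) =
      psi0 hF Φ (hd hlk θ⁻¹) * (t0 hF Φ l * psi0 hF Φ (hd hlk θ) * (t0 hF Φ l)⁻¹) := by
    rw [dE, ← hdHom_apply hlk θ⁻¹, map_inv, map_inv, hdHom_apply]; group
  rw [e]
  refine ⟨mul_mem (psi0_hd_torus hF Φ hlk _) h1, fun i => ?_⟩
  rw [suAct_mul, h2 (fun x => if x = l then (θ : F) else if x = k then ((θ⁻¹ : Fˣ) : F) else 1) (fun x => by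
    rw [psi0_e, ap_hd_single, mul_one, vE_single]), suAct_smul, psi0_e, ap_hd_single, mul_one, vE_single, smul_smul]
  congr 1
  by_cases hi : i = l
  · subst hi
    simp only [↓reduceIte, αE]
    rw [_root_.zpow_neg, show ((q : ℤ) + 1) = ((q + 1 : ℕ) : ℤ) by push_cast; rfl, zpow_natCast, pow_succ]
    simp [mul_comm]
  · by_cases hk : i = k
    · subst hk; simp [hi]
    · simp [hi, hk]

theorem exists_J (hθ : ∀ x : Fˣ, x ∈ Subgroup.zpowers θ) : ∃ J : ℕ, ((αE q θ ^ J : Fˣ) : F) = -1 := by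
  obtain ⟨i, hi⟩ := exists_fixed_pow hF hθ (x := (-1 : Fˣ))
    (by rw [Units.val_neg, Units.val_one, neg_pow_q hF, one_pow])
  have hm : (-1 : Fˣ) ∈ Subgroup.zpowers (αE q θ) := ⟨-i, by
    show αE q θ ^ (-i) = -1
    rw [αE, ← _root_.zpow_mul, neg_mul_neg, hi]⟩
  obtain ⟨J, hJ⟩ := (mem_powers_iff_mem_zpowers).2 hm
  exact ⟨J, by rw [show αE q θ ^ J = -1 from hJ, Units.val_neg, Units.val_one]⟩

theorem evenList3_sat {J : ℕ} (hJ : ((αE q θ ^ J : Fˣ) : F) = -1) (hθ : ∀ x : Fˣ, x ∈ Subgroup.zpowers θ)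
    {a b : Matrix.SpecialLinearGroup (Fin m) F} (ha : a ∈ Fix1 l) (hb : b ∈ Fix1 l) :
    ∀ r ∈ evenList3 q θ J hlk a b (psi0 hF Φ) (cM hF Φ (Pi.single l 1)) (t0 hF Φ l), r = 1 := by
  obtain ⟨hdt, hde⟩ := dE_model hF Φ hlk θ
  have hsw : ap (sw hlk.symm : Matrix.SpecialLinearGroup (Fin m) F) (Pi.single l 1) = Pi.single k 1 :=
    ap_sw_single_right _ _
  have hk : (Pi.single k (1 : F) : Fin m → F) l = 0 := Pi.single_eq_of_ne hlk _
  have hcol : ap (colE l (Pi.single k (1 : F))) (Pi.single l (1 : F)) = Pi.single l 1 + Pi.single k 1 := by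
    rw [ap_colE_single hk, one_smul]
  have hc : ∀ g : Matrix.SpecialLinearGroup (Fin m) F, ap g (Pi.single l 1) = Pi.single l 1 →
      Commute (psi0 hF Φ g) (cM hF Φ (Pi.single l 1)) := fun g hg =>
    mul_inv_eq_iff_eq_mul.1 (by rw [psi0_cM, hg])
  intro r hr
  simp only [evenList3, List.mem_cons, List.mem_nil_iff, or_false] at hr
  rcases hr with rfl | rfl | rfl | rfl | rfl | rfl | rfl | rfl | rfl | rfl | rfl | rfl | rfl | rfl <;>
    simp only [commutatorElement_eq_one_iff_commute, mul_inv_eq_one]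
  · exact hc a ha.1
  · exact hc b hb.1
  · exact hc _ (by rw [ap_tv]; simp [hlk])
  · refine mul_inv_eq_iff_eq_mul.1 ?_
    rw [psi0_cM, ap_hd_single, if_pos rfl, mul_one, single_smul_one l]
    refine cM_smul hF Φ _ ?_ _
    rw [← Units.val_pow_eq_pow_val, ← zpow_natCast, ← _root_.zpow_mul, Nat.cast_add, Nat.cast_one,
      orderOf_dvd_iff_zpow_eq_one.1 (by rw [orderOf_gen hF hθ]), Units.val_one]
  · rw [psi0_cM, hsw]; exact cM_comm hF Φ _ _
  · rw [psi0_cM, psi0_cM, hsw, hcol, cM_pair hF Φ l hk]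
  · exact (t0_fix1 hF Φ l ha).symm
  · exact (t0_fix1 hF Φ l hb).symm
  · rw [psi0_cM, hsw]; exact t0_cM hF Φ l hk
  · exact t0_rankOne hF Φ l
  · obtain ⟨h1, h2⟩ := t0_sq_torus hF Φ l
    refine torus_ext hF Φ l h1 (pow_mem hdt J) fun i => ?_
    rw [h2, torus_pow hF Φ hde]
    by_cases hi : i = l
    · rw [if_pos hi, if_pos hi, ← Units.val_pow_eq_pow_val, hJ]
    · rw [if_neg hi, if_neg hi]
  · rw [t0_conj_mono hF Φ l (sw_isMono hlk) (by simp)]; exact flip_comm hF Φ hlk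
  · exact psi0_cjD hF Φ hdt l _ hde _
  · rw [torus_cM hF Φ hde, psi0_cM, ap_hd_single, Dl_single, if_pos rfl, if_pos rfl]

theorem evenList2_sat {J : ℕ} (hJ : ((αE q θ ^ J : Fˣ) : F) = -1) (hθ : ∀ x : Fˣ, x ∈ Subgroup.zpowers θ)
    (x y : Matrix.SpecialLinearGroup (Fin m) F) :
    ∀ r ∈ evenList2 q θ J hlk x y (psi0 hF Φ) (cM hF Φ (Pi.single l 1)) (t0 hF Φ l), r = 1 := by
  obtain ⟨hdt, hde⟩ := dE_model hF Φ hlk θ
  have hsw : ap (sw hlk.symm : Matrix.SpecialLinearGroup (Fin m) F) (Pi.single l 1) = Pi.single k 1 :=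
    ap_sw_single_right _ _
  have hline : ∀ u : Fˣ, ap (sw hlk.symm * hd hlk u) (Pi.single l (1 : F)) = Pi.single k (u : F) := fun u => by
    rw [ap_mul, ap_hd_single, if_pos rfl, mul_one, ap_sw_single_right]
  have hk : ∀ u : F, (Pi.single k u : Fin m → F) l = 0 := fun u => Pi.single_eq_of_ne hlk _
  have hc : ∀ g : Matrix.SpecialLinearGroup (Fin m) F, ap g (Pi.single l 1) = Pi.single l 1 →
      Commute (psi0 hF Φ g) (cM hF Φ (Pi.single l 1)) := fun g hg =>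
    mul_inv_eq_iff_eq_mul.1 (by rw [psi0_cM, hg])
  intro r hr
  simp only [evenList2, List.mem_append, List.mem_map, List.mem_cons, List.mem_nil_iff, or_false] at hr
  rcases hr with ((rfl | rfl | rfl | rfl | rfl | rfl | rfl | rfl | rfl | rfl) | ⟨j, -, rfl⟩) | ⟨j, -, rfl⟩ <;>
    simp only [commutatorElement_eq_one_iff_commute, mul_inv_eq_one]
  · exact hc _ (by rw [ap_tv]; simp [hlk])
  · exact hc _ (by rw [ap_tv]; simp [hlk])
  · refine mul_inv_eq_iff_eq_mul.1 ?_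
    rw [psi0_cM, ap_hd_single, if_pos rfl, mul_one, single_smul_one l]
    refine cM_smul hF Φ _ ?_ _
    rw [← Units.val_pow_eq_pow_val, ← zpow_natCast, ← _root_.zpow_mul, Nat.cast_add, Nat.cast_one,
      orderOf_dvd_iff_zpow_eq_one.1 (by rw [orderOf_gen hF hθ]), Units.val_one]
  · rw [psi0_cM, hsw]; exact t0_cM hF Φ l (hk 1)
  · exact psi0_cjD hF Φ hdt l _ hde _
  · exact psi0_cjD hF Φ hdt l _ hde _
  · rw [torus_cM hF Φ hde, psi0_cM, ap_hd_single, Dl_single, if_pos rfl, if_pos rfl]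
  · exact t0_rankOne hF Φ l
  · obtain ⟨h1, h2⟩ := t0_sq_torus hF Φ l
    refine torus_ext hF Φ l h1 (pow_mem hdt J) fun i => ?_
    rw [h2, torus_pow hF Φ hde]
    by_cases hi : i = l
    · rw [if_pos hi, if_pos hi, ← Units.val_pow_eq_pow_val, hJ]
    · rw [if_neg hi, if_neg hi]
  · rw [t0_conj_mono hF Φ l (sw_isMono hlk) (by simp)]; exact flip_comm hF Φ hlk
  · rw [psi0_cM, hline]; exact cM_comm hF Φ _ _
  · rw [psi0_cM, psi0_cM, hline, ap_colE_single (hk _), one_smul, cM_pair hF Φ l (hk _)]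

end Model

section Abstract

variable {F : Type*} [Field F] {m : ℕ} {G : Type*} [Group G] {l k : Fin m}

theorem t_hd (hlk : l ≠ k) (ψ : Matrix.SpecialLinearGroup (Fin m) F →* G) {d t : G} {α θ : Fˣ} {f : ℤ}
    (hdψ : ∀ a, d * ψ a * d⁻¹ = ψ (cjD l α a))
    (hθt : t * ψ (hd hlk θ) * t⁻¹ = ψ (hd hlk θ) * d ^ f) (i : ℤ) :
    t * ψ (hd hlk (θ ^ i)) * t⁻¹ = ψ (hd hlk (θ ^ i)) * d ^ (f * i) := by
  have hc : Commute (ψ (hd hlk θ)) d := (mul_inv_eq_iff_eq_mul.1 (by rw [hdψ, cjD_hd])).symm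
  rw [← hdHom_apply hlk, map_zpow, map_zpow, hdHom_apply, _root_.zpow_mul, ← (hc.zpow_right f).mul_zpow, ← hθt,
    conj_zpow]

/-- The flip commutes with the conjugates along the line `k`. -/
theorem t_line (hlk : l ≠ k) (ψ : Matrix.SpecialLinearGroup (Fin m) F →* G) {c d t : G} {α θ : Fˣ} {f : ℤ}
    (hθ : ∀ x : Fˣ, x ∈ Subgroup.zpowers θ)
    (hst : ∀ g, ap g (Pi.single l 1) = Pi.single l 1 → Commute (ψ g) c)
    (hdψ : ∀ a, d * ψ a * d⁻¹ = ψ (cjD l α a))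
    (hθt : t * ψ (hd hlk θ) * t⁻¹ = ψ (hd hlk θ) * d ^ f)
    (hd' : Commute (d ^ f) (cvF hlk ψ c (Pi.single k 1))) (hk : Commute t (cvF hlk ψ c (Pi.single k 1)))
    (x : F) : Commute t (cvF hlk ψ c (Pi.single k x)) := by
  rcases eq_or_ne x 0 with rfl | hx
  · simp [cvF]
  obtain ⟨i, hi⟩ := Subgroup.mem_zpowers_iff.1 (hθ (Units.mk0 x hx)⁻¹)
  have e := zeta_k hlk ψ hst (θ ^ i) (1 : F)
  rw [hi, inv_inv, mul_one, Units.val_mk0, ← hi] at e
  rw [← e]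
  refine mul_inv_eq_iff_eq_mul.1 ?_
  set h := ψ (hd hlk (θ ^ i))
  set y := cvF hlk ψ c (Pi.single k (1 : F))
  have hy : d ^ (f * i) * y * (d ^ (f * i))⁻¹ = y := by
    rw [_root_.zpow_mul, (hd'.zpow_left i).eq]; group
  rw [show t * (h * y * h⁻¹) * t⁻¹ = (t * h * t⁻¹) * (t * y * t⁻¹) * (t * h * t⁻¹)⁻¹ by group,
    show t * y * t⁻¹ = y by rw [hk.eq]; group, t_hd hlk ψ hdψ hθt,
    show h * d ^ (f * i) * y * (h * d ^ (f * i))⁻¹ = h * (d ^ (f * i) * y * (d ^ (f * i))⁻¹) * h⁻¹ by group, hy]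

end Abstract

section Closed

variable {F : Type*} [Field F] [Fintype F] {q n m : ℕ}
variable (hF : Fintype.card F = q ^ 2) (Φ : Frame n F q m) {l k : Fin m} (hlk : l ≠ k)
variable {G : Type*} [Group G] (ψ : Matrix.SpecialLinearGroup (Fin m) F →* G) {c : G}
  (π : G →* Cfsg.SU n F q)
include hF

theorem π_cvF (πψ : ∀ a, π (ψ a) = psi0 hF Φ a) (πc : π c = cM hF Φ (Pi.single l 1))
    (hst : ∀ g, ap g (Pi.single l 1) = Pi.single l 1 → Commute (ψ g) c) (v : Fin m → F) :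
    π (cvF hlk ψ c v) = cM hF Φ v := by
  rcases eq_or_ne v 0 with rfl | hv
  · rw [show cvF hlk ψ c (0 : Fin m → F) = 1 by simp [cvF], map_one, cM_zero]
  obtain ⟨g, rfl⟩ := exists_first hlk hv
  rw [cvF_eq hlk ψ c hst rfl, map_mul, map_mul, map_inv, πψ, πc, psi0_cM]

/-- An element fixing `c` carries one pair relation to another. -/
theorem pair_closed {t d X : G} {α u : Fˣ} {i : ℤ} (πψ : ∀ a, π (ψ a) = psi0 hF Φ a) (πt : π t = t0 hF Φ l)
    (πc : π c = cM hF Φ (Pi.single l 1))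
    (hst : ∀ g, ap g (Pi.single l 1) = Pi.single l 1 → Commute (ψ g) c)
    (hdψ : ∀ a, d * ψ a * d⁻¹ = ψ (cjD l α a)) (hX : t * X * t⁻¹ = ψ (hd hlk u) * d ^ i) (hXc : X * c * X⁻¹ = c)
    {b b' : F}
    (h1 : X * cvF hlk ψ c (Pi.single l 1 + Pi.single k b) * X⁻¹ = cvF hlk ψ c (Pi.single l 1 + Pi.single k b'))
    (h2 : X * cvF hlk ψ c (Pi.single k b) * X⁻¹ = cvF hlk ψ c (Pi.single k b'))
    (h : cvF hlk ψ c (Pi.single l 1 + Pi.single k b) =
      c * MF l ψ t (Pi.single k b) * cvF hlk ψ c (Pi.single k b)) :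
    cvF hlk ψ c (Pi.single l 1 + Pi.single k b') =
      c * MF l ψ t (Pi.single k b') * cvF hlk ψ c (Pi.single k b') := by
  obtain ⟨w', hw', e⟩ := MF_conj hlk ψ hdψ hX (w := Pi.single k b) (Pi.single_eq_of_ne hlk _)
  rw [h, show X * (c * MF l ψ t (Pi.single k b) * cvF hlk ψ c (Pi.single k b)) * X⁻¹ =
    (X * c * X⁻¹) * (X * MF l ψ t (Pi.single k b) * X⁻¹) * (X * cvF hlk ψ c (Pi.single k b) * X⁻¹) by group,
    hXc, e, h2] at h1
  have e' := congrArg π h1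
  rw [map_mul, map_mul, π_cvF hF Φ hlk ψ π πψ πc hst, π_cvF hF Φ hlk ψ π πψ πc hst, πc,
    cM_pair hF Φ l (Pi.single_eq_of_ne hlk _), MF, map_mul, map_mul, map_inv, πψ, πt] at e'
  rw [← h1, M0_inj hF Φ hw' (Pi.single_eq_of_ne hlk _) (mul_left_cancel (mul_right_cancel e'))]

end Closed

section Systems

variable {F : Type*} [Field F] [Fintype F] {q n m : ℕ}
variable (hF : Fintype.card F = q ^ 2) (Φ : Frame n F q m) {l k : Fin m} (hlk : l ≠ k)
variable {G : Type*} [Group G] (ψ : Matrix.SpecialLinearGroup (Fin m) F →* G) (c t : G)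
  (π : G →* Cfsg.SU n F q) (θ : Fˣ) (J : ℕ)

/-- The relations of `DSys` from their consequences. -/
noncomputable def evenSys (hθ : ∀ x : Fˣ, x ∈ Subgroup.zpowers θ)
    (πψ : ∀ a, π (ψ a) = psi0 hF Φ a) (πt : π t = t0 hF Φ l) (πc : π c = cM hF Φ (Pi.single l 1))
    (tFix : ∀ g ∈ Fix1 l, Commute t (ψ g))
    (cStab : ∀ g, ap g (Pi.single l 1) = Pi.single l 1 → Commute (ψ g) c)
    (cZeta : Commute (ψ (hd hlk (θ ^ ((q : ℤ) - 1)))) c)
    (cComm : ∀ w, w l = 0 → Commute c (cvF hlk ψ c w))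
    (pair : ∀ w, w l = 0 → cvF hlk ψ c (Pi.single l 1 + w) = c * MF l ψ t w * cvF hlk ψ c w)
    (tc : ∀ w, w l = 0 → Commute t (cvF hlk ψ c w))
    (hdψ : ∀ a, dE (ψ (hd hlk θ)) t * ψ a * (dE (ψ (hd hlk θ)) t)⁻¹ = ψ (cjD l (αE q θ) a))
    (hdc : dE (ψ (hd hlk θ)) t * c * (dE (ψ (hd hlk θ)) t)⁻¹ =
      ψ (hd hlk (αE q θ)) * c * (ψ (hd hlk (αE q θ)))⁻¹)
    (tsq : t * t = dE (ψ (hd hlk θ)) t ^ J)
    (R1 : t * c * t⁻¹ = c⁻¹ * t * c⁻¹) (tt : ∀ j, j ≠ l → Commute t (tjF hlk ψ t j)) :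
    DSys hF Φ hlk G where
  ψ := ψ
  t := t
  c := c
  π := π
  πψ := πψ
  πt := πt
  πc := πc
  tFix := tFix
  cStab := cStab
  cZeta := commute_zeta hF hlk ψ hθ cZeta
  cComm := cComm
  pair := pair
  tc := tc
  d := dE (ψ (hd hlk θ)) t
  θ := θ
  α := αE q θ
  γ := αE q θ
  f := 1
  hθ := hθ
  hf := one_ne_zero
  hord := fun i hi => by
    rw [αE, ← _root_.zpow_mul, ← orderOf_dvd_iff_zpow_eq_one, orderOf_gen hF hθ, neg_mul, dvd_neg,
      mul_comm ((q : ℤ) + 1) i] at hi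
    rw [one_mul]
    exact Int.dvd_of_mul_dvd_mul_right (by omega) hi
  hγ := by
    rw [one_mul, αE, ← _root_.zpow_mul, ← orderOf_dvd_iff_zpow_eq_one, orderOf_gen hF hθ]
    exact ⟨-1, by ring⟩
  dψ := hdψ
  πd := fun i => by rw [map_dE, πψ, πt]; exact (dE_model hF Φ hlk θ).2 i
  dc := by rw [hdc, cvF_hd hlk ψ c cStab]
  tsq := by rw [tsq]; exact pow_mem (Subgroup.mem_zpowers _) J
  td := by
    set h := ψ (hd hlk θ)
    set d := dE h t
    have hc : Commute h d := (mul_inv_eq_iff_eq_mul.1 (by rw [hdψ, cjD_hd])).symm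
    have h2 : t * (h * d) * t⁻¹ = h := by
      rw [← dE_spec, show t * (t * h * t⁻¹) * t⁻¹ = (t * t) * h * (t * t)⁻¹ by group, tsq,
        ← (hc.pow_right J).eq]
      group
    refine ⟨-1, ?_⟩
    show d ^ (-1 : ℤ) = _
    rw [_root_.zpow_neg_one, eq_comm]
    calc t * d * t⁻¹ = (t * h * t⁻¹)⁻¹ * (t * (h * d) * t⁻¹) := by group
      _ = d⁻¹ := by rw [h2, dE_spec, _root_.mul_inv_rev, inv_mul_cancel_right]
  thθ := by rw [zpow_one]; exact dE_spec _ _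
  R1 := R1
  tt := tt

/-- The relations for three or more indices suffice. -/
theorem evenSys3 (hm : 3 ≤ m) (hθ : ∀ x : Fˣ, x ∈ Subgroup.zpowers θ)
    {a b : Matrix.SpecialLinearGroup (Fin m) F} (hab : Fix1 l ≤ Subgroup.closure {a, b})
    (πψ : ∀ a, π (ψ a) = psi0 hF Φ a) (πt : π t = t0 hF Φ l) (πc : π c = cM hF Φ (Pi.single l 1))
    (hrel : ∀ r ∈ evenList3 q θ J hlk a b ψ c t, r = 1) :
    ∃ S : DSys hF Φ hlk G, S.ψ = ψ ∧ S.t = t ∧ S.c = c ∧ S.π = π := by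
  simp only [evenList3, List.forall_mem_cons, List.not_mem_nil, false_imp_iff, implies_true, and_true,
    commutatorElement_eq_one_iff_commute, mul_inv_eq_one] at hrel
  obtain ⟨ca, cb, crow, cz, ck, hE, ta, tb, tk, hR1, htsq, htt, hs, hdc⟩ := hrel
  have cfix := commute_fix1 ψ hab ca cb
  have cStab := commute_stab hm hlk ψ cfix crow
  have tfix : ∀ g ∈ Fix1 l, Commute t (ψ g) := fun g hg => (commute_fix1 ψ hab ta tb g hg).symm
  rw [← cvF_sw hlk ψ c cStab] at ck tk hE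
  rw [← cvF_colE hlk ψ c cStab (Pi.single_eq_of_ne hlk _)] at hE
  set d := dE (ψ (hd hlk θ)) t with hd'
  have dfix : ∀ g ∈ Fix1 l, Commute (ψ g) d := fun g hg => by
    set h := hd hlk θ
    have hg' : h * g * h⁻¹ ∈ Fix1 l := by
      have e0 : ∀ v, ap h⁻¹ v l = ((θ⁻¹ : Fˣ) : F) * v l := fun v => by
        rw [show h⁻¹ = hd hlk θ⁻¹ from (map_inv (hdHom hlk) θ).symm, ap_hd, if_pos rfl]
      refine ⟨?_, fun v => ?_⟩
      · have e1 : ap h⁻¹ (Pi.single l (1 : F)) = Pi.single l ((θ⁻¹ : Fˣ) : F) := by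
          rw [show h⁻¹ = hd hlk θ⁻¹ from (map_inv (hdHom hlk) θ).symm, ap_hd_single, if_pos rfl, mul_one]
        rw [ap_mul, ap_mul, e1, fix1_single hg, ap_hd_single, if_pos rfl, Units.mul_inv]
      · rw [ap_mul, ap_mul, ap_hd, if_pos rfl, hg.2, e0, ← mul_assoc, Units.mul_inv, one_mul]
    have ht := (tfix _ hg').eq
    rw [map_mul, map_mul, map_inv] at ht
    show ψ g * d = d * ψ g
    calc ψ g * d = (ψ h)⁻¹ * (ψ h * ψ g * (ψ h)⁻¹ * t) * ψ h * t⁻¹ := by rw [hd', dE]; group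
      _ = (ψ h)⁻¹ * t * ψ h * (ψ g * t⁻¹) := by rw [← ht]; group
      _ = d * ψ g := by rw [← (tfix g hg).inv_left.eq, hd', dE]; group
  exact ⟨evenSys hF Φ hlk ψ c t π θ J hθ πψ πt πc tfix cStab cz
    (fun w hw => commute_off hm hlk ψ cStab cfix ck hw)
    (fun w hw => pair_off hm hlk ψ cStab tfix hE hw)
    (fun w hw => commute_off hm hlk ψ cStab (fun g hg => (tfix g hg).symm) tk hw)
    (dψ_three hm hlk ψ dfix hs) hdc htsq hR1 (tt_all hm hlk ψ tfix htt), rfl, rfl, rfl, rfl⟩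

/-- The relations for two indices suffice. -/
theorem evenSys2 (hm : m = 2) (hθ : ∀ x : Fˣ, x ∈ Subgroup.zpowers θ)
    {x y : Matrix.SpecialLinearGroup (Fin m) F} (hxy : Subgroup.closure {x, y} = ⊤)
    (πψ : ∀ a, π (ψ a) = psi0 hF Φ a) (πt : π t = t0 hF Φ l) (πc : π c = cM hF Φ (Pi.single l 1))
    (hrel : ∀ r ∈ evenList2 q θ J hlk x y ψ c t, r = 1) :
    ∃ S : DSys hF Φ hlk G, S.ψ = ψ ∧ S.t = t ∧ S.c = c ∧ S.π = π := by
  simp only [evenList2, List.forall_mem_append, List.forall_mem_map, List.forall_mem_cons, List.not_mem_nil,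
    false_imp_iff, implies_true, and_true, commutatorElement_eq_one_iff_commute, mul_inv_eq_one,
    List.mem_range] at hrel
  obtain ⟨⟨⟨c1, cθ, cz, tk, hdx, hdy, hdc, hR1, htsq, htt⟩, hcomm⟩, hpair⟩ := hrel
  have tfix : ∀ g ∈ Fix1 l, Commute t (ψ g) := fun g hg => by
    rw [fix1_two hm hlk hg, map_one]; exact Commute.one_right t
  set d := dE (ψ (hd hlk θ)) t with hd'
  set α := αE q θ with hα
  have hdψ := dψ_gen ψ hxy hdx hdy
  have hθt : t * ψ (hd hlk θ) * t⁻¹ = ψ (hd hlk θ) * d ^ (1 : ℤ) := by rw [zpow_one]; exact dE_spec _ _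
  set X := ψ (hd hlk α⁻¹) * d with hXd
  have hXc : X * c * X⁻¹ = c := line_fix hlk ψ hdc
  have hαg : θ ^ (q + 1) ∈ Subgroup.zpowers (α⁻¹) := ⟨1, by
    show α⁻¹ ^ (1 : ℤ) = θ ^ (q + 1)
    rw [zpow_one, hα, αE, _root_.zpow_neg, inv_inv, ← zpow_natCast θ (q + 1)]; push_cast; rfl⟩
  have cStab : ∀ g, ap g (Pi.single l 1) = Pi.single l 1 → Commute (ψ g) c := by
    refine commute_stab_two hm hlk ψ (all_scalars hF hθ (fun b : F => Commute (ψ (tv hlk b)) c) ?_ ?_ hαg ?_ c1 cθ)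
    · rw [Matrix.SpecialLinearGroup.transvection_coeff_zero, map_one]; exact Commute.one_left c
    · intro a b ha hb
      rw [← rowE_single hlk, Pi.single_add, rowE_add, map_mul, rowE_single hlk, rowE_single hlk]
      exact ha.mul_left hb
    · intro b hb
      have := hb.map (MulAut.conj X).toMonoidHom
      simp only [MulEquiv.coe_toMonoidHom, MulAut.conj_apply, hXc] at this
      simp only [hXd, line_tv hlk ψ hdψ] at this
      rwa [mul_assoc, ← mul_assoc ((α⁻¹ : Fˣ) : F) (α : F), Units.inv_mul, one_mul] at this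
  have hzeta := commute_zeta hF hlk ψ hθ cz
  set z := θ ^ ((q : ℤ) - 1) with hz
  have hzc : ψ (hd hlk z) * c * (ψ (hd hlk z))⁻¹ = c := by rw [cz.eq]; group
  have hμ : (α : F) ^ 2 / (α : F) = (α : F) := by rw [sq, mul_div_assoc, div_self α.ne_zero, mul_one]
  have hk1 : ∀ b : F, X * cvF hlk ψ c (Pi.single k b) * X⁻¹ = cvF hlk ψ c (Pi.single k ((α : F) * b)) :=
    fun b => by rw [hXd, line_k hlk ψ cStab hdψ hdc, hμ]
  have hk2 : ∀ b : F, X * cvF hlk ψ c (Pi.single l 1 + Pi.single k b) * X⁻¹ =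
      cvF hlk ψ c (Pi.single l 1 + Pi.single k ((α : F) * b)) :=
    fun b => by rw [hXd, line_v hlk ψ cStab hdψ hdc, hμ]
  have hαi : α⁻¹ = θ ^ ((q : ℤ) + 1) := by rw [hα, αE, _root_.zpow_neg, inv_inv]
  have hcK : ∀ u : Fˣ, Commute c (cvF hlk ψ c (Pi.single k (u : F))) := by
    refine all_units hθ (fun u : Fˣ => Commute c (cvF hlk ψ c (Pi.single k (u : F)))) {α, z⁻¹} ?_ (N := 2)
      two_pos ?_ (fun j hj => by rw [cvF_line hlk ψ c cStab]; exact hcomm j hj)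
    · rintro g (rfl | rfl) u hu
      · have := hu.map (MulAut.conj X).toMonoidHom
        simp only [MulEquiv.coe_toMonoidHom, MulAut.conj_apply, hXc, hk1] at this
        rwa [Units.val_mul]
      · have := hu.map (MulAut.conj (ψ (hd hlk z))).toMonoidHom
        simp only [MulEquiv.coe_toMonoidHom, MulAut.conj_apply, hzc, zeta_k hlk ψ cStab] at this
        rwa [Units.val_mul]
    · have e : θ ^ 2 = α⁻¹ * z⁻¹ := by
        rw [hαi, hz, ← _root_.zpow_neg, ← _root_.zpow_add, ← zpow_natCast θ 2]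
        congr 1
        push_cast
        ring
      rw [e]
      exact mul_mem (inv_mem (Subgroup.subset_closure (Or.inl rfl))) (Subgroup.subset_closure (Or.inr rfl))
  have hlK : ∀ b : F, Commute c (cvF hlk ψ c (Pi.single k b)) := fun b => by
    rcases eq_or_ne b 0 with rfl | hb
    · simp [cvF]
    · exact hcK (Units.mk0 b hb)
  have hXt : ∃ (u : Fˣ) (i : ℤ), t * X * t⁻¹ = ψ (hd hlk u) * d ^ i := by
    obtain ⟨i, hi⟩ := Subgroup.mem_zpowers_iff.1 (hθ α⁻¹)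
    have hc : Commute (ψ (hd hlk θ)) d := (mul_inv_eq_iff_eq_mul.1 (by rw [hdψ, cjD_hd])).symm
    have htd : t * d * t⁻¹ = d ^ (-1 : ℤ) := by
      have h2 : t * (ψ (hd hlk θ) * d) * t⁻¹ = ψ (hd hlk θ) := by
        rw [hd', ← dE_spec, show t * (t * ψ (hd hlk θ) * t⁻¹) * t⁻¹ = (t * t) * ψ (hd hlk θ) * (t * t)⁻¹ by group,
          htsq, ← (hc.pow_right J).eq]
        group
      rw [_root_.zpow_neg_one]
      calc t * d * t⁻¹ = (t * ψ (hd hlk θ) * t⁻¹)⁻¹ * (t * (ψ (hd hlk θ) * d) * t⁻¹) := by group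
        _ = d⁻¹ := by rw [h2, hθt, zpow_one, _root_.mul_inv_rev, inv_mul_cancel_right]
    refine ⟨α⁻¹, 1 * i + -1, ?_⟩
    rw [hXd, show t * (ψ (hd hlk α⁻¹) * d) * t⁻¹ = (t * ψ (hd hlk α⁻¹) * t⁻¹) * (t * d * t⁻¹) by group, htd,
      ← hi, t_hd hlk ψ hdψ hθt, mul_assoc, ← _root_.zpow_add]
  have hpairU : ∀ u : Fˣ, cvF hlk ψ c (Pi.single l 1 + Pi.single k (u : F)) =
      c * MF l ψ t (Pi.single k (u : F)) * cvF hlk ψ c (Pi.single k (u : F)) := by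
    refine all_units hθ (fun u : Fˣ => cvF hlk ψ c (Pi.single l 1 + Pi.single k (u : F)) =
      c * MF l ψ t (Pi.single k (u : F)) * cvF hlk ψ c (Pi.single k (u : F))) {α, z⁻¹ * z⁻¹} ?_ (N := 4)
      (by norm_num) ?_ (fun j hj => by
        rw [cvF_line hlk ψ c cStab, cvF_colE hlk ψ c cStab (Pi.single_eq_of_ne hlk _), MF]
        exact hpair j hj)
    · rintro g (rfl | rfl) u hu
      · obtain ⟨u', i, hXt⟩ := hXt
        rw [Units.val_mul]
        exact pair_closed hF Φ hlk ψ π πψ πt πc cStab hdψ hXt hXc (hk2 _) (hk1 _) hu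
      · rw [Units.val_mul]
        exact pair_closed hF Φ hlk ψ π πψ πt πc cStab hdψ (X := ψ (hd hlk z)) (t_hd hlk ψ hdψ hθt _) hzc
          (zeta_lk hlk ψ cStab cz _) (zeta_k' hlk ψ cStab cz _) hu
    · have e : θ ^ 4 = α⁻¹ * α⁻¹ * (z⁻¹ * z⁻¹) := by
        rw [hαi, hz, ← _root_.zpow_neg, ← _root_.zpow_add, ← _root_.zpow_add, ← _root_.zpow_add, ← zpow_natCast θ 4]
        congr 1
        push_cast
        ring
      rw [e]
      exact mul_mem (mul_mem (inv_mem (Subgroup.subset_closure (Or.inl rfl)))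
        (inv_mem (Subgroup.subset_closure (Or.inl rfl)))) (Subgroup.subset_closure (Or.inr rfl))
  have hline : ∀ w : Fin m → F, w l = 0 → w = Pi.single k (w k) := fun w hw => funext fun j => by
    rcases eq_or_eq_of_two hm hlk j with rfl | rfl
    · rw [hw, Pi.single_eq_of_ne hlk]
    · rw [Pi.single_eq_same]
  refine ⟨evenSys hF Φ hlk ψ c t π θ J hθ πψ πt πc tfix cStab cz
    (fun w hw => by rw [hline w hw]; exact hlK _)
    (fun w hw => by
      rw [hline w hw]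
      rcases eq_or_ne (w k) 0 with h | h
      · rw [h, Pi.single_zero, add_zero, cvF_one hlk ψ c cStab, MF_zero]; simp [cvF]
      · exact hpairU (Units.mk0 _ h))
    (fun w hw => by
      rw [hline w hw]
      refine t_line hlk ψ hθ cStab hdψ hθt ?_ (by rw [cvF_sw hlk ψ c cStab]; exact tk) _
      rw [zpow_one]
      refine mul_inv_eq_iff_eq_mul.1 ?_
      rw [cvF_d hlk ψ c cStab hdψ (γ := (α : F)) (by rw [hdc, cvF_hd hlk ψ c cStab]), div_self α.ne_zero, one_smul,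
        Dl_single, if_neg hlk.symm, one_mul])
    hdψ hdc htsq hR1 (tt_two hm hlk ψ htt), rfl, rfl, rfl, rfl⟩

end Systems

end Cfsg.Agent.SUNPresent
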