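/-
Short relations when there is an anisotropic vector.

* `cW`, `dW`: the root element of the line and the torus element as words.
* `oddList3`, `oddList2`: sixteen relations for three or more indices, nineteen for two.
* `oddList3_sat`, `oddList2_sat`, `oddSys3`, `oddSys2`: they hold in SU and imply the relations of `OSys`.
-/
import Cfsg.Agent.Lib.SUNPresent.Even
import Cfsg.Agent.Lib.SUNPresent.OddPar

set_option autoImplicit false
set_option linter.unusedSectionVars false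
set_option linter.unusedSimpArgs false

open Matrix
open scoped commutatorElement

namespace Cfsg.Agent.SUNPresent

open Cfsg.Agent.Unitary Cfsg.Agent.UFus Cfsg.Agent.UnitaryBN

local notation "tv" => Matrix.SpecialLinearGroup.transvection

theorem cjD_sw {F : Type*} [Field F] {m : ℕ} {l k : Fin m} (hlk : l ≠ k) (a : Fˣ) :
    cjD l a (sw hlk.symm : Matrix.SpecialLinearGroup (Fin m) F) = hd hlk a * sw hlk.symm :=
  ext_ap fun v => funext fun x => by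
    rw [ap_mul, ap_hd, ap_cjD_eq, Dl, ap_sw, ap_sw]
    by_cases hx : x = l
    · subst hx; simp [Dl, hlk, hlk.symm]
    · by_cases hx' : x = k
      · subst hx'; simp [Dl, hx]
      · simp [Dl, hx, hx']

section Words

variable {F : Type*} [Field F] [Fintype F] {q n m : ℕ} {hF : Fintype.card F = q ^ 2} {Φ : Frame n F q m}
  (P : OPar hF Φ) {l k : Fin m} {G G' : Type*} [Group G] [Group G'] (hlk : l ≠ k)

/-- The root element of the line. -/
def cW (ψ : Matrix.SpecialLinearGroup (Fin m) F → G) (u : G) : G :=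
  ψ (hd hlk P.x) * ⁅u, ψ (hd hlk P.θ) * u * (ψ (hd hlk P.θ))⁻¹⁆ * (ψ (hd hlk P.x))⁻¹

/-- A factor in the rank one relation. -/
def yW (ψ : Matrix.SpecialLinearGroup (Fin m) F → G) (u : G) (a : Fˣ) : G :=
  ψ (hd hlk a) * u * (ψ (hd hlk a))⁻¹ * (ψ (hd hlk P.x1) * cW P hlk ψ u * (ψ (hd hlk P.x1))⁻¹)

/-- The torus element. -/
def dW (ψ : Matrix.SpecialLinearGroup (Fin m) F → G) (u t : G) : G :=
  (yW P hlk ψ u (-P.αO))⁻¹ * (t * u * t⁻¹) * (yW P hlk ψ u P.θ⁻¹)⁻¹ * t⁻¹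

theorem map_cW (φ : G →* G') (ψ : Matrix.SpecialLinearGroup (Fin m) F → G) (u : G) :
    φ (cW P hlk ψ u) = cW P hlk (fun x => φ (ψ x)) (φ u) := by
  simp only [cW, map_mul, map_inv, map_commutatorElement]

theorem map_dW (φ : G →* G') (ψ : Matrix.SpecialLinearGroup (Fin m) F → G) (u t : G) :
    φ (dW P hlk ψ u t) = dW P hlk (fun x => φ (ψ x)) (φ u) (φ t) := by
  simp only [dW, yW, map_mul, map_inv, map_cW P hlk φ]

/-- The relations for three or more indices. -/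
def oddList3 (J : ℕ) (a b : Matrix.SpecialLinearGroup (Fin m) F)
    (ψ : Matrix.SpecialLinearGroup (Fin m) F → G) (u t : G) : List G :=
  [⁅ψ a, u⁆, ⁅ψ b, u⁆, ⁅ψ (tv hlk (1 : F)), u⁆, ⁅ψ (hd hlk (P.θ ^ ((q : ℤ) - 1))), cW P hlk ψ u⁆,
    ψ (colE l (Pi.single k 1)) * cW P hlk ψ u * (ψ (colE l (Pi.single k 1)))⁻¹ *
      (cW P hlk ψ u * (t⁻¹ * ψ (colE l (Pi.single k 1)) * t) *
        (ψ (sw hlk.symm) * cW P hlk ψ u * (ψ (sw hlk.symm))⁻¹))⁻¹,
    ψ (colE l (Pi.single k 1)) * u * (ψ (colE l (Pi.single k 1)))⁻¹ *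
      (u * (ψ (sw hlk.symm) * u * (ψ (sw hlk.symm))⁻¹) * (t⁻¹ * ψ (colE l ((P.θ : F) • Pi.single k 1)) * t))⁻¹,
    ⁅cW P hlk ψ u, ψ (sw hlk.symm) * u * (ψ (sw hlk.symm))⁻¹⁆,
    ⁅ψ a, t⁆, ⁅ψ b, t⁆, ⁅t, ψ (sw hlk.symm) * u * (ψ (sw hlk.symm))⁻¹⁆,
    t * cW P hlk ψ u * t⁻¹ * ((cW P hlk ψ u)⁻¹ * t * (cW P hlk ψ u)⁻¹)⁻¹,
    t * t * (dW P hlk ψ u t ^ J)⁻¹,
    ⁅t, ψ (sw hlk.symm) * t * (ψ (sw hlk.symm))⁻¹⁆,
    dW P hlk ψ u t * ψ (sw hlk.symm) * (dW P hlk ψ u t)⁻¹ * (ψ (cjD l P.αO (sw hlk.symm)))⁻¹,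
    dW P hlk ψ u t * u * (dW P hlk ψ u t)⁻¹ * (ψ (hd hlk P.γO) * u * (ψ (hd hlk P.γO))⁻¹)⁻¹,
    t * dW P hlk ψ u t * t⁻¹ * ((dW P hlk ψ u t ^ q)⁻¹)⁻¹]

theorem oddList3_map (φ : G →* G') (J : ℕ) (a b : Matrix.SpecialLinearGroup (Fin m) F)
    (ψ : Matrix.SpecialLinearGroup (Fin m) F → G) (u t : G) :
    (oddList3 P hlk J a b ψ u t).map φ = oddList3 P hlk J a b (fun x => φ (ψ x)) (φ u) (φ t) := by
  simp only [oddList3, List.map_cons, List.map_nil, map_commutatorElement, map_mul, map_inv, map_pow,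
    map_cW P hlk φ, map_dW P hlk φ]

theorem oddList3_length (J : ℕ) (a b : Matrix.SpecialLinearGroup (Fin m) F)
    (ψ : Matrix.SpecialLinearGroup (Fin m) F → G) (u t : G) : (oddList3 P hlk J a b ψ u t).length = 16 := rfl

/-- The relations for two indices. -/
def oddList2 (J : ℕ) (x y : Matrix.SpecialLinearGroup (Fin m) F)
    (ψ : Matrix.SpecialLinearGroup (Fin m) F → G) (u t : G) : List G :=
  [⁅ψ (tv hlk (1 : F)), u⁆, ⁅ψ (tv hlk (P.θ : F)), u⁆,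
    ⁅ψ (hd hlk (P.θ ^ ((q : ℤ) - 1))), cW P hlk ψ u⁆,
    ⁅cW P hlk ψ u, ψ (sw hlk.symm) * u * (ψ (sw hlk.symm))⁻¹⁆,
    ⁅t, ψ (sw hlk.symm) * u * (ψ (sw hlk.symm))⁻¹⁆,
    t * ψ (hd hlk P.αO) * t⁻¹ * (ψ (hd hlk P.αO) * (dW P hlk ψ u t ^ (q + 1))⁻¹)⁻¹,
    t * dW P hlk ψ u t * t⁻¹ * ((dW P hlk ψ u t ^ q)⁻¹)⁻¹,
    dW P hlk ψ u t * u * (dW P hlk ψ u t)⁻¹ * (ψ (hd hlk P.γO) * u * (ψ (hd hlk P.γO))⁻¹)⁻¹,
    dW P hlk ψ u t * ψ x * (dW P hlk ψ u t)⁻¹ * (ψ (cjD l P.αO x))⁻¹,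
    dW P hlk ψ u t * ψ y * (dW P hlk ψ u t)⁻¹ * (ψ (cjD l P.αO y))⁻¹,
    t * cW P hlk ψ u * t⁻¹ * ((cW P hlk ψ u)⁻¹ * t * (cW P hlk ψ u)⁻¹)⁻¹,
    t * t * (dW P hlk ψ u t ^ J)⁻¹,
    ⁅t, ψ (sw hlk.symm) * t * (ψ (sw hlk.symm))⁻¹⁆,
    ψ (colE l (Pi.single k 1)) * cW P hlk ψ u * (ψ (colE l (Pi.single k 1)))⁻¹ *
      (cW P hlk ψ u * (t⁻¹ * ψ (colE l (Pi.single k 1)) * t) *
        (ψ (sw hlk.symm) * cW P hlk ψ u * (ψ (sw hlk.symm))⁻¹))⁻¹] ++
  (List.range 5).map (fun j => ψ (colE l (Pi.single k ((P.θ ^ j : Fˣ) : F))) * u *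
      (ψ (colE l (Pi.single k ((P.θ ^ j : Fˣ) : F))))⁻¹ *
    (u * (ψ (sw hlk.symm * hd hlk (P.θ ^ j)) * u * (ψ (sw hlk.symm * hd hlk (P.θ ^ j)))⁻¹) *
      (t⁻¹ * ψ (colE l ((P.θ : F) • Pi.single k ((P.θ ^ j : Fˣ) : F))) * t))⁻¹)

theorem oddList2_map (φ : G →* G') (J : ℕ) (x y : Matrix.SpecialLinearGroup (Fin m) F)
    (ψ : Matrix.SpecialLinearGroup (Fin m) F → G) (u t : G) :
    (oddList2 P hlk J x y ψ u t).map φ = oddList2 P hlk J x y (fun z => φ (ψ z)) (φ u) (φ t) := by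
  simp only [oddList2, List.map_append, List.map_map, Function.comp_def, List.map_cons, List.map_nil,
    map_commutatorElement, map_mul, map_inv, map_pow, map_cW P hlk φ, map_dW P hlk φ]

theorem oddList2_length (J : ℕ) (x y : Matrix.SpecialLinearGroup (Fin m) F)
    (ψ : Matrix.SpecialLinearGroup (Fin m) F → G) (u t : G) : (oddList2 P hlk J x y ψ u t).length = 19 := by
  simp [oddList2]

end Words

section Model

variable {F : Type*} [Field F] [Fintype F] {q n m : ℕ} {hF : Fintype.card F = q ^ 2} {Φ : Frame n F q m}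
  (P : OPar hF Φ) {l k : Fin m} (hlk : l ≠ k)

theorem cW_model : cW P hlk (psi0 hF Φ) (P.O.fM (Pi.single l 1)) = cM hF Φ (Pi.single l 1) := by
  rw [cW, ← MulAut.conj_apply, map_commutatorElement, MulAut.conj_apply, MulAut.conj_apply, OConst.psi0_fM,
    OConst.psi0_fM, OConst.psi0_fM, ap_hd_single, ap_hd_single, ap_hd_single, if_pos rfl, if_pos rfl, mul_one,
    mul_one, P.fM_commutator]

theorem dW_model : dW P hlk (psi0 hF Φ) (P.O.fM (Pi.single l 1)) (t0 hF Φ l) = dO P l := by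
  have e : ∀ a : Fˣ, yW P hlk (psi0 hF Φ) (P.O.fM (Pi.single l 1)) a = YO P l (a : F) := fun a => by
    rw [yW, cW_model, OConst.psi0_fM, psi0_cM, ap_hd_single, ap_hd_single, if_pos rfl, if_pos rfl, mul_one,
      mul_one, YO]
  rw [dW, e, e, dO, Units.val_neg, Units.val_inv_eq_inv_val]

theorem θO_zeta : ((P.θ ^ ((q : ℤ) - 1) : Fˣ) : F) ^ (q + 1) = 1 := by
  rw [← Units.val_pow_eq_pow_val, ← zpow_natCast, ← _root_.zpow_mul, Nat.cast_add, Nat.cast_one,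
    orderOf_dvd_iff_zpow_eq_one.1 (by rw [orderOf_gen hF P.hθ]), Units.val_one]

theorem oddList3_sat {J : ℕ} (hJ : ((P.αO ^ J : Fˣ) : F) = -1) {a b : Matrix.SpecialLinearGroup (Fin m) F}
    (ha : a ∈ Fix1 l) (hb : b ∈ Fix1 l) :
    ∀ r ∈ oddList3 P hlk J a b (psi0 hF Φ) (P.O.fM (Pi.single l 1)) (t0 hF Φ l), r = 1 := by
  obtain ⟨hdt, hde, -, -⟩ := dO_model P l
  have hsw : ap (sw hlk.symm : Matrix.SpecialLinearGroup (Fin m) F) (Pi.single l 1) = Pi.single k 1 :=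
    ap_sw_single_right _ _
  have hk : (Pi.single k (1 : F) : Fin m → F) l = 0 := Pi.single_eq_of_ne hlk _
  have hcol : ap (colE l (Pi.single k (1 : F))) (Pi.single l (1 : F)) = Pi.single l 1 + Pi.single k 1 := by
    rw [ap_colE_single hk, one_smul]
  have hc : ∀ g : Matrix.SpecialLinearGroup (Fin m) F, ap g (Pi.single l 1) = Pi.single l 1 →
      Commute (psi0 hF Φ g) (P.O.fM (Pi.single l 1)) := fun g hg =>
    mul_inv_eq_iff_eq_mul.1 (by rw [OConst.psi0_fM, hg])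
  intro r hr
  simp only [oddList3, List.mem_cons, List.mem_nil_iff, or_false, cW_model, dW_model] at hr
  rcases hr with rfl | rfl | rfl | rfl | rfl | rfl | rfl | rfl | rfl | rfl | rfl | rfl | rfl | rfl | rfl | rfl <;>
    simp only [commutatorElement_eq_one_iff_commute, mul_inv_eq_one]
  · exact hc a ha.1
  · exact hc b hb.1
  · exact hc _ (by rw [ap_tv]; simp [hlk])
  · refine mul_inv_eq_iff_eq_mul.1 ?_
    rw [psi0_cM, ap_hd_single, if_pos rfl, mul_one, single_smul_one l]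
    exact cM_smul hF Φ _ (θO_zeta P) _
  · rw [psi0_cM, psi0_cM, hsw, hcol, cM_pair hF Φ l hk]
  · rw [OConst.psi0_fM, OConst.psi0_fM, hsw, hcol, P.fM_pair l hk]
  · rw [OConst.psi0_fM, hsw]; exact P.cM_fM_comm _ _
  · exact (t0_fix1 hF Φ l ha).symm
  · exact (t0_fix1 hF Φ l hb).symm
  · rw [OConst.psi0_fM, hsw]; exact P.t0_fM hk
  · exact t0_rankOne hF Φ l
  · obtain ⟨h1, h2⟩ := t0_sq_torus hF Φ l
    refine torus_ext hF Φ l h1 (pow_mem hdt J) fun i => ?_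
    rw [h2, torus_pow hF Φ hde]
    by_cases hi : i = l
    · rw [if_pos hi, if_pos hi, ← Units.val_pow_eq_pow_val, hJ]
    · rw [if_neg hi, if_neg hi]
  · rw [t0_conj_mono hF Φ l (sw_isMono hlk) (by simp)]; exact flip_comm hF Φ hlk
  · exact psi0_cjD hF Φ hdt l _ hde _
  · rw [dO_fM, OConst.psi0_fM, ap_hd_single, if_pos rfl, mul_one]
  · obtain ⟨h1, h2⟩ := t0_conj_torus hF Φ hdt l
    rw [← mul_inv_eq_one, inv_inv]
    refine torus_ext hF Φ l (mul_mem h1 (pow_mem hdt q)) (one_mem _) fun i => ?_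
    rw [suAct_mul, torus_pow hF Φ hde, suAct_smul, h2 _ hde, smul_smul, suAct_one]
    by_cases hi : i = l
    · rw [if_pos hi, if_pos hi, if_pos hi, mul_inv_cancel₀ (pow_ne_zero q P.αO.ne_zero), one_smul]
    · rw [if_neg hi, if_neg hi, if_neg hi, one_mul, one_smul]

theorem oddList2_sat {J : ℕ} (hJ : ((P.αO ^ J : Fˣ) : F) = -1) (x y : Matrix.SpecialLinearGroup (Fin m) F) :
    ∀ r ∈ oddList2 P hlk J x y (psi0 hF Φ) (P.O.fM (Pi.single l 1)) (t0 hF Φ l), r = 1 := by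
  obtain ⟨hdt, hde, -, -⟩ := dO_model P l
  have hsw : ap (sw hlk.symm : Matrix.SpecialLinearGroup (Fin m) F) (Pi.single l 1) = Pi.single k 1 :=
    ap_sw_single_right _ _
  have hline : ∀ u : Fˣ, ap (sw hlk.symm * hd hlk u) (Pi.single l (1 : F)) = Pi.single k (u : F) := fun u => by
    rw [ap_mul, ap_hd_single, if_pos rfl, mul_one, ap_sw_single_right]
  have hk : ∀ u : F, (Pi.single k u : Fin m → F) l = 0 := fun u => Pi.single_eq_of_ne hlk _
  have hc : ∀ g : Matrix.SpecialLinearGroup (Fin m) F, ap g (Pi.single l 1) = Pi.single l 1 →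
      Commute (psi0 hF Φ g) (P.O.fM (Pi.single l 1)) := fun g hg =>
    mul_inv_eq_iff_eq_mul.1 (by rw [OConst.psi0_fM, hg])
  intro r hr
  simp only [oddList2, List.mem_append, List.mem_map, List.mem_cons, List.mem_nil_iff, or_false, cW_model,
    dW_model] at hr
  rcases hr with (rfl | rfl | rfl | rfl | rfl | rfl | rfl | rfl | rfl | rfl | rfl | rfl | rfl | rfl) |
      ⟨j, -, rfl⟩ <;> simp only [commutatorElement_eq_one_iff_commute, mul_inv_eq_one]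
  · exact hc _ (by rw [ap_tv]; simp [hlk])
  · exact hc _ (by rw [ap_tv]; simp [hlk])
  · refine mul_inv_eq_iff_eq_mul.1 ?_
    rw [psi0_cM, ap_hd_single, if_pos rfl, mul_one, single_smul_one l]
    exact cM_smul hF Φ _ (θO_zeta P) _
  · rw [OConst.psi0_fM, hsw]; exact P.cM_fM_comm _ _
  · rw [OConst.psi0_fM, hsw]; exact P.t0_fM (hk 1)
  · have hh := psi0_hd_torus hF Φ hlk P.αO
    obtain ⟨h1, h2⟩ := t0_conj_torus hF Φ hh l
    have ha : ∀ i, suAct (psi0 hF Φ (hd hlk P.αO)) (Φ.e i) =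
        (if i = l then (P.αO : F) else if i = k then ((P.αO⁻¹ : Fˣ) : F) else 1) • Φ.e i := fun i => by
      rw [psi0_e, ap_hd_single, mul_one, vE_single]
    rw [eq_mul_inv_iff_mul_eq]
    refine torus_ext hF Φ l (mul_mem h1 (pow_mem hdt _)) hh fun i => ?_
    rw [suAct_mul, torus_pow hF Φ hde, suAct_smul, h2 _ ha, smul_smul, ha]
    congr 1
    by_cases hi : i = l
    · simp only [if_pos hi]; rw [pow_succ, mul_right_comm,
        mul_inv_cancel₀ (pow_ne_zero q P.αO.ne_zero), one_mul]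
    · simp only [if_neg hi]; rw [one_mul]
  · obtain ⟨h1, h2⟩ := t0_conj_torus hF Φ hdt l
    rw [← mul_inv_eq_one, inv_inv]
    refine torus_ext hF Φ l (mul_mem h1 (pow_mem hdt q)) (one_mem _) fun i => ?_
    rw [suAct_mul, torus_pow hF Φ hde, suAct_smul, h2 _ hde, smul_smul, suAct_one]
    by_cases hi : i = l
    · rw [if_pos hi, if_pos hi, if_pos hi, mul_inv_cancel₀ (pow_ne_zero q P.αO.ne_zero), one_smul]
    · rw [if_neg hi, if_neg hi, if_neg hi, one_mul, one_smul]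
  · rw [dO_fM, OConst.psi0_fM, ap_hd_single, if_pos rfl, mul_one]
  · exact psi0_cjD hF Φ hdt l _ hde _
  · exact psi0_cjD hF Φ hdt l _ hde _
  · exact t0_rankOne hF Φ l
  · obtain ⟨h1, h2⟩ := t0_sq_torus hF Φ l
    refine torus_ext hF Φ l h1 (pow_mem hdt J) fun i => ?_
    rw [h2, torus_pow hF Φ hde]
    by_cases hi : i = l
    · rw [if_pos hi, if_pos hi, ← Units.val_pow_eq_pow_val, hJ]
    · rw [if_neg hi, if_neg hi]
  · rw [t0_conj_mono hF Φ l (sw_isMono hlk) (by simp)]; exact flip_comm hF Φ hlk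
  · rw [psi0_cM, psi0_cM, hsw, ap_colE_single (hk _), one_smul, cM_pair hF Φ l (hk _)]
  · rw [OConst.psi0_fM, OConst.psi0_fM, hline, ap_colE_single (hk _), one_smul, P.fM_pair l (hk _)]

end Model

section Systems

variable {F : Type*} [Field F] [Fintype F] {q n m : ℕ} {hF : Fintype.card F = q ^ 2} {Φ : Frame n F q m}
  (P : OPar hF Φ) {l k : Fin m} (hlk : l ≠ k) {G : Type*} [Group G]
  (ψ : Matrix.SpecialLinearGroup (Fin m) F →* G) {u t : G}

theorem cW_stab (hu : ∀ g, ap g (Pi.single l 1) = Pi.single l 1 → Commute (ψ g) u)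
    (g : Matrix.SpecialLinearGroup (Fin m) F) (hg : ap g (Pi.single l 1) = Pi.single l 1) :
    Commute (ψ g) (cW P hlk ψ u) := by
  have hfix : ∀ (a : Fˣ), ψ g * cvF hlk ψ u (Pi.single l (a : F)) * (ψ g)⁻¹ = cvF hlk ψ u (Pi.single l (a : F)) :=
    fun a => by rw [cvF_conj hlk ψ u hu, single_smul_one l, ap_smul, hg]
  have e : cW P hlk ψ u = ⁅cvF hlk ψ u (Pi.single l (P.x : F)),
      cvF hlk ψ u (Pi.single l ((P.x * P.θ : Fˣ) : F))⁆ := by
    rw [cW, ← MulAut.conj_apply, map_commutatorElement, MulAut.conj_apply, MulAut.conj_apply, cvF_hd hlk ψ u hu,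
      cvF_hd hlk ψ u hu, hd_mul, map_mul]
    group
  rw [e, commutatorElement_def]
  have h := fun a => mul_inv_eq_iff_eq_mul.1 (hfix a)
  exact (((Commute.mul_right (h _) (h _)).mul_right (Commute.inv_right (h _))).mul_right (Commute.inv_right (h _)))

theorem cW_comm_of (hu : ∀ g, ap g (Pi.single l 1) = Pi.single l 1 → Commute (ψ g) u) {y : G}
    (h : ∀ w, w l = 0 → Commute y (cvF hlk ψ u w)) {w : Fin m → F} (hw : w l = 0) :
    Commute y (cvF hlk ψ (cW P hlk ψ u) w) := by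
  rcases eq_or_ne w 0 with rfl | hw0
  · simp [cvF]
  obtain ⟨g, rfl⟩ := exists_first hlk hw0
  have e : ∀ a : Fˣ, ap (g * hd hlk a) (Pi.single l 1) = (a : F) • ap g (Pi.single l 1) := fun a => by
    rw [ap_mul, ap_hd_single, if_pos rfl, mul_one, single_smul_one l, ap_smul]
  rw [cvF_eq hlk ψ _ (cW_stab P hlk ψ hu) rfl, cW,
    show ψ g * (ψ (hd hlk P.x) * ⁅u, ψ (hd hlk P.θ) * u * (ψ (hd hlk P.θ))⁻¹⁆ * (ψ (hd hlk P.x))⁻¹) * (ψ g)⁻¹ =
      ⁅ψ (g * hd hlk P.x) * u * (ψ (g * hd hlk P.x))⁻¹,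
        ψ (g * hd hlk (P.x * P.θ)) * u * (ψ (g * hd hlk (P.x * P.θ)))⁻¹⁆ by
      rw [hd_mul, map_mul, map_mul, map_mul, commutatorElement_def, commutatorElement_def]; group,
    ← cvF_eq hlk ψ u hu (e _), ← cvF_eq hlk ψ u hu (e _), commutatorElement_def]
  have h' := fun a : F => h (a • ap g (Pi.single l 1)) (by simp [hw])
  exact (((h' _).mul_right (h' _)).mul_right (h' _).inv_right).mul_right (h' _).inv_right

theorem cW_dc {d : G} {α γ : Fˣ} (hdψ : ∀ a, d * ψ a * d⁻¹ = ψ (cjD l α a))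
    (hdu : d * u * d⁻¹ = ψ (hd hlk γ) * u * (ψ (hd hlk γ))⁻¹) :
    d * cW P hlk ψ u * d⁻¹ = ψ (hd hlk γ) * cW P hlk ψ u * (ψ (hd hlk γ))⁻¹ := by
  have h1 : ∀ a : Fˣ, d * ψ (hd hlk a) * d⁻¹ = ψ (hd hlk γ) * ψ (hd hlk a) * (ψ (hd hlk γ))⁻¹ := fun a => by
    rw [hdψ, cjD_hd, ← map_mul, ← hd_mul, mul_comm γ a, hd_mul, map_mul, mul_inv_cancel_right]
  rw [← MulAut.conj_apply, ← MulAut.conj_apply, ← MulEquiv.coe_toMonoidHom, ← MulEquiv.coe_toMonoidHom, map_cW,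
    map_cW]
  simp only [cW, MulEquiv.coe_toMonoidHom, MulAut.conj_apply, hdu, h1]

variable {π : G →* Cfsg.SU n F q} {J : ℕ}

/-- The relations of `OSys` from their consequences. -/
noncomputable def oddSys (πψ : ∀ a, π (ψ a) = psi0 hF Φ a) (πt : π t = t0 hF Φ l)
    (πu : π u = P.O.fM (Pi.single l 1))
    (tFix : ∀ g ∈ Fix1 l, Commute t (ψ g))
    (uStab : ∀ g, ap g (Pi.single l 1) = Pi.single l 1 → Commute (ψ g) u)
    (cZeta : Commute (ψ (hd hlk (P.θ ^ ((q : ℤ) - 1)))) (cW P hlk ψ u))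
    (uComm : ∀ w, w l = 0 → Commute (cW P hlk ψ u) (cvF hlk ψ u w))
    (pair : ∀ w, w l = 0 → cvF hlk ψ (cW P hlk ψ u) (Pi.single l 1 + w) =
      cW P hlk ψ u * MF l ψ t w * cvF hlk ψ (cW P hlk ψ u) w)
    (uP : ∀ w, w l = 0 → ∃ y ∈ Subgroup.closure (Set.range (cvF hlk ψ (cW P hlk ψ u))),
      cvF hlk ψ u (Pi.single l 1 + w) = u * cvF hlk ψ u w * y)
    (tu : ∀ w, w l = 0 → Commute t (cvF hlk ψ u w))
    (hdψ : ∀ a, dW P hlk ψ u t * ψ a * (dW P hlk ψ u t)⁻¹ = ψ (cjD l P.αO a))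
    (hdu : dW P hlk ψ u t * u * (dW P hlk ψ u t)⁻¹ = ψ (hd hlk P.γO) * u * (ψ (hd hlk P.γO))⁻¹)
    (tsq : t * t = dW P hlk ψ u t ^ J)
    (htd : t * dW P hlk ψ u t * t⁻¹ = (dW P hlk ψ u t ^ q)⁻¹)
    (thθ : t * ψ (hd hlk P.αO) * t⁻¹ = ψ (hd hlk P.αO) * (dW P hlk ψ u t ^ (q + 1))⁻¹)
    (R1 : t * cW P hlk ψ u * t⁻¹ = (cW P hlk ψ u)⁻¹ * t * (cW P hlk ψ u)⁻¹)
    (tt : ∀ j, j ≠ l → Commute t (tjF hlk ψ t j)) : OSys hF Φ hlk G where
  ψ := ψ
  t := t
  c := cW P hlk ψ u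
  π := π
  πψ := πψ
  πt := πt
  πc := by rw [map_cW, funext πψ, πu, cW_model]
  tFix := tFix
  cStab := cW_stab P hlk ψ uStab
  cZeta := commute_zeta hF hlk ψ P.hθ cZeta
  cComm := fun w hw => cW_comm_of P hlk ψ uStab uComm hw
  pair := pair
  tc := fun w hw => cW_comm_of P hlk ψ uStab tu hw
  d := dW P hlk ψ u t
  θ := P.αO
  α := P.αO
  γ := P.γO
  f := -((q : ℤ) + 1)
  hθ := P.αO_gen
  hf := by omega
  hord := fun i hi => by
    rw [OPar.αO, ← _root_.zpow_mul, ← orderOf_dvd_iff_zpow_eq_one, orderOf_gen hF P.hθ] at hi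
    obtain ⟨c, hc⟩ := hi
    exact ⟨(q : ℤ) * c + i, by linear_combination -(q : ℤ) * hc⟩
  hγ := by
    rw [OPar.γO, OPar.αO, ← _root_.zpow_mul, ← _root_.zpow_mul, ← zpow_zero P.θ]
    exact zpow_congr hF P.hθ ((q : ℤ) * (2 - (q : ℤ))) (by ring)
  dψ := hdψ
  πd := fun i => by rw [map_dW, funext πψ, πt, πu, dW_model]; exact (dO_model P l).2.1 i
  dc := by rw [cW_dc P hlk ψ hdψ hdu, cvF_hd hlk ψ _ (cW_stab P hlk ψ uStab)]
  tsq := by rw [tsq]; exact pow_mem (Subgroup.mem_zpowers _) J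
  td := by rw [htd]; exact inv_mem (pow_mem (Subgroup.mem_zpowers _) q)
  thθ := by rw [thθ, _root_.zpow_neg, show ((q : ℤ) + 1) = ((q + 1 : ℕ) : ℤ) by push_cast; rfl, zpow_natCast]
  R1 := R1
  tt := tt
  O := P.O
  u := u
  hκ := P.hκ
  πu := πu
  uStab := uStab
  uComm := uComm
  uP := uP
  tu := tu
  du := by rw [hdu, cvF_hd hlk ψ u uStab]
  hT := ⟨((-P.αO : Fˣ) : F), (P.x1 : F), ((P.θ⁻¹ : Fˣ) : F), (P.x1 : F), by
    rw [cvF_hd hlk ψ u uStab, cvF_hd hlk ψ u uStab, cvF_hd hlk ψ _ (cW_stab P hlk ψ uStab)]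
    rw [dW, yW, yW]; group⟩

/-- The relations for three or more indices suffice. -/
theorem oddSys3 (hm : 3 ≤ m) {a b : Matrix.SpecialLinearGroup (Fin m) F}
    (hab : Fix1 l ≤ Subgroup.closure {a, b})
    (πψ : ∀ a, π (ψ a) = psi0 hF Φ a) (πt : π t = t0 hF Φ l) (πu : π u = P.O.fM (Pi.single l 1))
    (hrel : ∀ r ∈ oddList3 P hlk J a b ψ u t, r = 1) :
    ∃ S : OSys hF Φ hlk G, S.ψ = ψ ∧ S.t = t ∧ S.u = u ∧ S.π = π := by
  simp only [oddList3, List.forall_mem_cons, List.not_mem_nil, false_imp_iff, implies_true, and_true,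
    commutatorElement_eq_one_iff_commute, mul_inv_eq_one] at hrel
  obtain ⟨ua, ub, urow, cz, hE, hP, cfk, ta, tb, tfk, hR1, htsq, htt, hs, hdu, htd⟩ := hrel
  have ufix := commute_fix1 ψ hab ua ub
  have uStab := commute_stab hm hlk ψ ufix urow
  have cStab := cW_stab P hlk ψ uStab
  have tfix : ∀ g ∈ Fix1 l, Commute t (ψ g) := fun g hg => (commute_fix1 ψ hab ta tb g hg).symm
  have hk : (Pi.single k (1 : F) : Fin m → F) l = 0 := Pi.single_eq_of_ne hlk _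
  rw [← cvF_sw hlk ψ u uStab] at cfk tfk hP
  rw [← cvF_sw hlk ψ _ cStab, ← cvF_colE hlk ψ _ cStab hk] at hE
  rw [← cvF_colE hlk ψ u uStab hk] at hP
  have uComm : ∀ w, w l = 0 → Commute (cW P hlk ψ u) (cvF hlk ψ u w) := fun w hw =>
    commute_off hm hlk ψ uStab (fun g hg => cStab g hg.1) cfk hw
  have tu : ∀ w, w l = 0 → Commute t (cvF hlk ψ u w) := fun w hw =>
    commute_off hm hlk ψ uStab (fun g hg => (tfix g hg).symm) tfk hw
  set d := dW P hlk ψ u t with hd'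
  have dfix : ∀ g ∈ Fix1 l, Commute (ψ g) d := fun g hg => by
    have hh : ∀ (y : G), (∀ g, ap g (Pi.single l 1) = Pi.single l 1 → Commute (ψ g) y) → ∀ a : Fˣ,
        Commute (ψ g) (ψ (hd hlk a) * y * (ψ (hd hlk a))⁻¹) := fun y hy a => by
      refine mul_inv_eq_iff_eq_mul.1 ?_
      rw [← cvF_hd hlk ψ y hy, cvF_conj hlk ψ y hy, fix1_single hg]
    have hy : ∀ a, Commute (ψ g) (yW P hlk ψ u a) := fun a => (hh u uStab a).mul_right (hh _ cStab _)
    have ht := (tfix g hg).symm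
    exact (((hy _).inv_right.mul_right ((ht.mul_right (ufix g hg)).mul_right ht.inv_right)).mul_right
      (hy _).inv_right).mul_right ht.inv_right
  have hdψ := dψ_three hm hlk ψ dfix hs
  have hdk : Commute t (ψ (sw hlk.symm) * d * (ψ (sw hlk.symm))⁻¹) := by
    have e : ∀ (y : G) (a : Fˣ), MulAut.conj (ψ (sw hlk.symm)) (ψ (hd hlk a) * y * (ψ (hd hlk a))⁻¹) =
        ψ (sw hlk.symm * hd hlk a) * y * (ψ (sw hlk.symm * hd hlk a))⁻¹ := fun y a => by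
      rw [MulAut.conj_apply, map_mul]; group
    have hy : ∀ a, Commute t (MulAut.conj (ψ (sw hlk.symm)) (yW P hlk ψ u a)) := fun a => by
      rw [yW, map_mul, e, e, ← cvF_line hlk ψ u uStab, ← cvF_line hlk ψ _ cStab]
      exact (tu _ (Pi.single_eq_of_ne hlk _)).mul_right (cW_comm_of P hlk ψ uStab tu (Pi.single_eq_of_ne hlk _))
    have htk : Commute t (MulAut.conj (ψ (sw hlk.symm)) t) := htt
    have huk : Commute t (MulAut.conj (ψ (sw hlk.symm)) u) := by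
      rw [MulAut.conj_apply, ← cvF_sw hlk ψ u uStab]; exact tfk
    show Commute t (MulAut.conj (ψ (sw hlk.symm)) d)
    rw [hd', dW]
    simp only [map_mul, map_inv]
    exact (((hy _).inv_right.mul_right ((htk.mul_right huk).mul_right htk.inv_right)).mul_right
      (hy _).inv_right).mul_right htk.inv_right
  have thθ : t * ψ (hd hlk P.αO) * t⁻¹ = ψ (hd hlk P.αO) * (d ^ (q + 1))⁻¹ := by
    set s := ψ (sw hlk.symm)
    set h := ψ (hd hlk P.αO)
    have e1 : h = d * (s * d * s⁻¹)⁻¹ := by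
      rw [cjD_sw hlk, map_mul] at hs
      calc h = (d * s * d⁻¹) * s⁻¹ := by rw [hs]; show h = h * s * s⁻¹; group
        _ = d * (s * d * s⁻¹)⁻¹ := by group
    have hc : Commute d h := mul_inv_eq_iff_eq_mul.1 (by rw [hdψ, cjD_hd])
    calc t * h * t⁻¹ = (t * d * t⁻¹) * (t * (s * d * s⁻¹)⁻¹ * t⁻¹) := by rw [e1]; group
      _ = (d ^ q)⁻¹ * (s * d * s⁻¹)⁻¹ := by rw [htd, hdk.inv_right.eq]; group
      _ = (d ^ (q + 1))⁻¹ * h := by rw [e1, pow_succ']; group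
      _ = h * (d ^ (q + 1))⁻¹ := (hc.pow_left (q + 1)).inv_left.eq
  exact ⟨oddSys P hlk ψ πψ πt πu tfix uStab cz uComm
    (fun w hw => pair_off hm hlk ψ cStab tfix hE hw)
    (fun w hw => by
      refine ⟨MF l ψ t ((P.θ : F) • w), ?_, fpair_off hm hlk ψ uStab tfix hP hw⟩
      have hw' : ((P.θ : F) • w) l = 0 := by simp [hw]
      have e := pair_off hm hlk ψ cStab tfix hE hw'
      have e' : MF l ψ t ((P.θ : F) • w) = (cW P hlk ψ u)⁻¹ *
          cvF hlk ψ (cW P hlk ψ u) (Pi.single l 1 + (P.θ : F) • w) *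
          (cvF hlk ψ (cW P hlk ψ u) ((P.θ : F) • w))⁻¹ := by rw [e]; group
      rw [e']
      exact mul_mem (mul_mem (inv_mem (Subgroup.subset_closure ⟨_, cvF_one hlk ψ _ cStab⟩))
        (Subgroup.subset_closure ⟨_, rfl⟩)) (inv_mem (Subgroup.subset_closure ⟨_, rfl⟩)))
    tu hdψ hdu htsq htd thθ hR1 (tt_all hm hlk ψ tfix htt), rfl, rfl, rfl, rfl⟩

theorem pow_line {d : G} {α γ : Fˣ} {y : G}
    (hst : ∀ g, ap g (Pi.single l 1) = Pi.single l 1 → Commute (ψ g) y)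
    (hdψ : ∀ a, d * ψ a * d⁻¹ = ψ (cjD l α a))
    (hdy : d * y * d⁻¹ = ψ (hd hlk γ) * y * (ψ (hd hlk γ))⁻¹) (i : ℕ) (b : F) :
    d ^ i * cvF hlk ψ y (Pi.single k b) * (d ^ i)⁻¹ =
      cvF hlk ψ y (Pi.single k (((γ : F) / (α : F)) ^ i * b)) := by
  induction i with
  | zero => simp
  | succ i ih =>
    rw [pow_succ', show d * d ^ i * cvF hlk ψ y (Pi.single k b) * (d * d ^ i)⁻¹ =
      d * (d ^ i * cvF hlk ψ y (Pi.single k b) * (d ^ i)⁻¹) * d⁻¹ by group, ih,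
      cvF_d hlk ψ y hst hdψ (γ := (γ : F)) (by rw [hdy, cvF_hd hlk ψ y hst]), ← Pi.single_smul', Dl_single,
      if_neg hlk.symm, one_mul, smul_eq_mul, pow_succ', mul_assoc]

/-- The relations for two indices suffice. -/
theorem oddSys2 (hm : m = 2) {x y : Matrix.SpecialLinearGroup (Fin m) F} (hxy : Subgroup.closure {x, y} = ⊤)
    (πψ : ∀ a, π (ψ a) = psi0 hF Φ a) (πt : π t = t0 hF Φ l) (πu : π u = P.O.fM (Pi.single l 1))
    (hrel : ∀ r ∈ oddList2 P hlk J x y ψ u t, r = 1) :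
    ∃ S : OSys hF Φ hlk G, S.ψ = ψ ∧ S.t = t ∧ S.u = u ∧ S.π = π := by
  simp only [oddList2, List.forall_mem_append, List.forall_mem_map, List.forall_mem_cons, List.not_mem_nil,
    false_imp_iff, implies_true, and_true, commutatorElement_eq_one_iff_commute, mul_inv_eq_one,
    List.mem_range] at hrel
  obtain ⟨⟨u1, uθ, cz, cfk, tfk, hθt', htd, hdu, hdx, hdy, hR1, htsq, htt, hE⟩, hP⟩ := hrel
  set c := cW P hlk ψ u with hc'
  set d := dW P hlk ψ u t with hd'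
  set α := P.αO with hα
  set γ := P.γO with hγ
  have tfix : ∀ g ∈ Fix1 l, Commute t (ψ g) := fun g hg => by
    rw [fix1_two hm hlk hg, map_one]; exact Commute.one_right t
  have hdψ := dψ_gen ψ hxy hdx hdy
  have hθt : t * ψ (hd hlk α) * t⁻¹ = ψ (hd hlk α) * d ^ (-((q : ℤ) + 1)) := by
    rw [hθt', _root_.zpow_neg, show ((q : ℤ) + 1) = ((q + 1 : ℕ) : ℤ) by push_cast; rfl, zpow_natCast]
  set X := ψ (hd hlk γ⁻¹) * d with hXd
  have hXu : X * u * X⁻¹ = u := line_fix hlk ψ hdu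
  have hdc : d * c * d⁻¹ = ψ (hd hlk γ) * c * (ψ (hd hlk γ))⁻¹ := cW_dc P hlk ψ hdψ hdu
  have hXc : X * c * X⁻¹ = c := line_fix hlk ψ hdc
  have hαe : α = P.θ ^ (-(q : ℤ)) := rfl
  have hγe : γ = P.θ ^ (-(q : ℤ) * (2 - (q : ℤ))) := by rw [hγ, OPar.γO, OPar.αO, ← _root_.zpow_mul]
  have uStab : ∀ g, ap g (Pi.single l 1) = Pi.single l 1 → Commute (ψ g) u := by
    have hg : P.θ ^ (q + 1) ∈ Subgroup.zpowers (γ⁻¹ * γ⁻¹ * α) := ⟨(q : ℤ) + 1, by
      show (γ⁻¹ * γ⁻¹ * α) ^ ((q : ℤ) + 1) = _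
      rw [hγe, hαe, ← _root_.zpow_neg, ← _root_.zpow_add, ← _root_.zpow_add, ← _root_.zpow_mul, ← zpow_natCast]
      exact zpow_congr hF P.hθ (-(2 * (q : ℤ) - 1)) (by push_cast; ring)⟩
    refine commute_stab_two hm hlk ψ (all_scalars hF P.hθ (fun b : F => Commute (ψ (tv hlk b)) u) ?_ ?_ hg ?_ u1 uθ)
    · rw [Matrix.SpecialLinearGroup.transvection_coeff_zero, map_one]; exact Commute.one_left u
    · intro a b ha hb
      rw [← rowE_single hlk, Pi.single_add, rowE_add, map_mul, rowE_single hlk, rowE_single hlk]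
      exact ha.mul_left hb
    · intro b hb
      have := hb.map (MulAut.conj X).toMonoidHom
      simp only [MulEquiv.coe_toMonoidHom, MulAut.conj_apply, hXu] at this
      simp only [hXd, line_tv hlk ψ hdψ] at this
      rwa [Units.val_mul, Units.val_mul, mul_assoc]
  have cStab : ∀ g, ap g (Pi.single l 1) = Pi.single l 1 → Commute (ψ g) c := cW_stab P hlk ψ uStab
  have hk : ∀ b : F, (Pi.single k b : Fin m → F) l = 0 := fun b => Pi.single_eq_of_ne hlk _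
  set z := P.θ ^ ((q : ℤ) - 1) with hz
  have hzc : ψ (hd hlk z) * c * (ψ (hd hlk z))⁻¹ = c := by rw [cz.eq]; group
  set g := γ * γ * α⁻¹ with hg
  have hμ : (γ : F) ^ 2 / (α : F) = (g : F) := by
    rw [hg, Units.val_mul, Units.val_mul, Units.val_inv_eq_inv_val, sq, div_eq_mul_inv]
  have hge : g = P.θ ^ (2 * (q : ℤ) ^ 2 - 3 * (q : ℤ)) := by
    rw [hg, hγe, hαe, ← _root_.zpow_neg, ← _root_.zpow_add, ← _root_.zpow_add]
    congr 1
    ring
  have hu1 : ∀ b : F, X * cvF hlk ψ u (Pi.single k b) * X⁻¹ = cvF hlk ψ u (Pi.single k ((g : F) * b)) :=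
    fun b => by rw [hXd, line_k hlk ψ uStab hdψ hdu, hμ]
  have hu2 : ∀ b : F, X * cvF hlk ψ u (Pi.single l 1 + Pi.single k b) * X⁻¹ =
      cvF hlk ψ u (Pi.single l 1 + Pi.single k ((g : F) * b)) :=
    fun b => by rw [hXd, line_v hlk ψ uStab hdψ hdu, hμ]
  have hc1 : ∀ b : F, X * cvF hlk ψ c (Pi.single k b) * X⁻¹ = cvF hlk ψ c (Pi.single k ((g : F) * b)) :=
    fun b => by rw [hXd, line_k hlk ψ cStab hdψ hdc, hμ]
  have hc2 : ∀ b : F, X * cvF hlk ψ c (Pi.single l 1 + Pi.single k b) * X⁻¹ =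
      cvF hlk ψ c (Pi.single l 1 + Pi.single k ((g : F) * b)) :=
    fun b => by rw [hXd, line_v hlk ψ cStab hdψ hdc, hμ]
  have hline : ∀ w : Fin m → F, w l = 0 → w = Pi.single k (w k) := fun w hw => funext fun j => by
    rcases eq_or_eq_of_two hm hlk j with rfl | rfl
    · rw [hw, Pi.single_eq_of_ne hlk]
    · rw [Pi.single_eq_same]
  have uCommU : ∀ b : Fˣ, Commute c (cvF hlk ψ u (Pi.single k (b : F))) := by
    refine all_units P.hθ (fun b : Fˣ => Commute c (cvF hlk ψ u (Pi.single k (b : F)))) {g, z⁻¹} ?_ (N := 1)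
      one_pos ?_ (fun j hj => by
        obtain rfl : j = 0 := by omega
        rw [pow_zero, Units.val_one, cvF_sw hlk ψ u uStab]; exact cfk)
    · rintro r (rfl | rfl) b hb
      · have := hb.map (MulAut.conj X).toMonoidHom
        simp only [MulEquiv.coe_toMonoidHom, MulAut.conj_apply, hXc, hu1] at this
        rwa [Units.val_mul]
      · have := hb.map (MulAut.conj (ψ (hd hlk z))).toMonoidHom
        simp only [MulEquiv.coe_toMonoidHom, MulAut.conj_apply, hzc, zeta_k hlk ψ uStab] at this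
        rwa [Units.val_mul]
    · have e : P.θ ^ 1 = g⁻¹ * z⁻¹ ^ (3 : ℤ) := by
        rw [hge, hz, ← _root_.zpow_neg, ← _root_.zpow_neg, ← _root_.zpow_mul, ← _root_.zpow_add, ← zpow_natCast]
        exact zpow_congr hF P.hθ 2 (by push_cast; ring)
      have h1 : g ∈ Subgroup.closure ({g, z⁻¹} : Set Fˣ) := Subgroup.subset_closure (Set.mem_insert _ _)
      have h2 : z⁻¹ ∈ Subgroup.closure ({g, z⁻¹} : Set Fˣ) :=
        Subgroup.subset_closure (Set.mem_insert_of_mem _ (Set.mem_singleton _))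
      rw [e]
      exact Subgroup.mul_mem _ (Subgroup.inv_mem _ h1) (Subgroup.zpow_mem _ h2 3)
  have uComm : ∀ w, w l = 0 → Commute c (cvF hlk ψ u w) := fun w hw => by
    rw [hline w hw]
    rcases eq_or_ne (w k) 0 with h | h
    · rw [h, Pi.single_zero]; simp [cvF]
    · exact uCommU (Units.mk0 _ h)
  have hXt : ∃ (r : Fˣ) (i : ℤ), t * X * t⁻¹ = ψ (hd hlk r) * d ^ i := by
    refine ⟨γ⁻¹, -((q : ℤ) + 1) * -(2 - (q : ℤ)) + -(q : ℤ), ?_⟩
    have e : γ⁻¹ = α ^ (-(2 - (q : ℤ))) := by rw [hγ, OPar.γO, _root_.zpow_neg]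
    rw [hXd, show t * (ψ (hd hlk γ⁻¹) * d) * t⁻¹ = (t * ψ (hd hlk γ⁻¹) * t⁻¹) * (t * d * t⁻¹) by group, e,
      t_hd hlk ψ hdψ hθt, htd, mul_assoc, _root_.zpow_add, _root_.zpow_neg d (q : ℤ), zpow_natCast]
  have hzt : ∃ (r : Fˣ) (i : ℤ), t * ψ (hd hlk z) * t⁻¹ = ψ (hd hlk r) * d ^ i := by
    obtain ⟨i, hi⟩ := Subgroup.mem_zpowers_iff.1 (P.αO_gen z)
    exact ⟨z, _, by rw [← hi]; exact t_hd hlk ψ hdψ hθt i⟩
  have πc : π c = cM hF Φ (Pi.single l 1) := by rw [hc', map_cW, funext πψ, πu, cW_model]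
  have hpairU : ∀ b : Fˣ, cvF hlk ψ c (Pi.single l 1 + Pi.single k (b : F)) =
      c * MF l ψ t (Pi.single k (b : F)) * cvF hlk ψ c (Pi.single k (b : F)) := by
    refine all_units P.hθ (fun b : Fˣ => cvF hlk ψ c (Pi.single l 1 + Pi.single k (b : F)) =
      c * MF l ψ t (Pi.single k (b : F)) * cvF hlk ψ c (Pi.single k (b : F))) {g, z⁻¹ * z⁻¹} ?_ (N := 1)
      one_pos ?_ (fun j hj => by
        obtain rfl : j = 0 := by omega
        rw [pow_zero, Units.val_one, cvF_sw hlk ψ c cStab, cvF_colE hlk ψ c cStab (hk 1), MF]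
        exact hE)
    · rintro r (rfl | rfl) b hb
      · obtain ⟨r', i, hXt⟩ := hXt
        rw [Units.val_mul]
        exact pair_closed hF Φ hlk ψ π πψ πt πc cStab hdψ hXt hXc (hc2 _) (hc1 _) hb
      · obtain ⟨r', i, hzt⟩ := hzt
        rw [Units.val_mul]
        exact pair_closed hF Φ hlk ψ π πψ πt πc cStab hdψ (X := ψ (hd hlk z)) hzt hzc
          (zeta_lk hlk ψ cStab cz _) (zeta_k' hlk ψ cStab cz _) hb
    · have e : P.θ ^ 1 = (g ^ (q : ℤ))⁻¹ * (z⁻¹ * z⁻¹)⁻¹ := by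
        rw [hge, hz, ← _root_.zpow_mul, ← _root_.zpow_neg, ← _root_.zpow_neg, ← _root_.zpow_add,
          ← _root_.zpow_neg, ← _root_.zpow_add, ← zpow_natCast]
        exact zpow_congr hF P.hθ (2 * (q : ℤ) - 3) (by push_cast; ring)
      have h1 : g ∈ Subgroup.closure ({g, z⁻¹ * z⁻¹} : Set Fˣ) := Subgroup.subset_closure (Set.mem_insert _ _)
      have h2 : z⁻¹ * z⁻¹ ∈ Subgroup.closure ({g, z⁻¹ * z⁻¹} : Set Fˣ) :=
        Subgroup.subset_closure (Set.mem_insert_of_mem _ (Set.mem_singleton _))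
      rw [e]
      exact Subgroup.mul_mem _ (Subgroup.inv_mem _ (Subgroup.zpow_mem _ h1 _)) (Subgroup.inv_mem _ h2)
  have pair : ∀ w, w l = 0 → cvF hlk ψ c (Pi.single l 1 + w) = c * MF l ψ t w * cvF hlk ψ c w := fun w hw => by
    rw [hline w hw]
    rcases eq_or_ne (w k) 0 with h | h
    · rw [h, Pi.single_zero, add_zero, cvF_one hlk ψ c cStab, MF_zero]; simp [cvF]
    · exact hpairU (Units.mk0 _ h)
  have hMmem : ∀ w : Fin m → F, w l = 0 → MF l ψ t w ∈ Subgroup.closure (Set.range (cvF hlk ψ c)) := fun w hw => by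
    have e' : MF l ψ t w = c⁻¹ * cvF hlk ψ c (Pi.single l 1 + w) * (cvF hlk ψ c w)⁻¹ := by rw [pair w hw]; group
    rw [e']
    exact mul_mem (mul_mem (inv_mem (Subgroup.subset_closure ⟨_, cvF_one hlk ψ _ cStab⟩))
      (Subgroup.subset_closure ⟨_, rfl⟩)) (inv_mem (Subgroup.subset_closure ⟨_, rfl⟩))
  have hPU : ∀ b : Fˣ, ∃ y ∈ Subgroup.closure (Set.range (cvF hlk ψ c)),
      cvF hlk ψ u (Pi.single l 1 + Pi.single k (b : F)) = u * cvF hlk ψ u (Pi.single k (b : F)) * y := by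
    refine all_units P.hθ (fun b : Fˣ => ∃ y ∈ Subgroup.closure (Set.range (cvF hlk ψ c)),
      cvF hlk ψ u (Pi.single l 1 + Pi.single k (b : F)) = u * cvF hlk ψ u (Pi.single k (b : F)) * y) {g} ?_
      (N := 5) (by norm_num) ?_ (fun j hj => ⟨MF l ψ t ((P.θ : F) • Pi.single k ((P.θ ^ j : Fˣ) : F)),
        hMmem _ (by simp [hlk]), by
          rw [cvF_line hlk ψ u uStab, cvF_colE hlk ψ u uStab (hk _), MF]; exact hP j hj⟩)
    · rintro r rfl b ⟨y, hy, e⟩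
      refine ⟨X * y * X⁻¹, ?_, ?_⟩
      · refine (Subgroup.closure_le ((Subgroup.closure (Set.range (cvF hlk ψ c))).comap
          (MulAut.conj X).toMonoidHom)).2 ?_ hy
        rintro _ ⟨v, rfl⟩
        show X * cvF hlk ψ c v * X⁻¹ ∈ Subgroup.closure (Set.range (cvF hlk ψ c))
        rw [hXd, show ψ (hd hlk γ⁻¹) * d * cvF hlk ψ c v * (ψ (hd hlk γ⁻¹) * d)⁻¹ =
          ψ (hd hlk γ⁻¹) * (d * cvF hlk ψ c v * d⁻¹) * (ψ (hd hlk γ⁻¹))⁻¹ by group,
          cvF_d hlk ψ c cStab hdψ (γ := (γ : F)) (by rw [hdc, cvF_hd hlk ψ c cStab]), cvF_conj hlk ψ c cStab]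
        exact Subgroup.subset_closure ⟨_, rfl⟩
      · rw [Units.val_mul, ← hu2, e, ← hu1]
        conv_rhs => arg 1; arg 1; rw [← hXu]
        group
    · have e : P.θ ^ 5 = g ^ (-(2 + 3 * (q : ℤ))) := by
        rw [hge, ← _root_.zpow_mul, ← zpow_natCast]
        exact zpow_congr hF P.hθ (6 * (q : ℤ) - 5) (by push_cast; ring)
      rw [e]
      exact zpow_mem (Subgroup.subset_closure (Set.mem_singleton g)) _
  refine ⟨oddSys P hlk ψ πψ πt πu tfix uStab cz uComm pair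
    (fun w hw => by
      rw [hline w hw]
      rcases eq_or_ne (w k) 0 with h | h
      · refine ⟨1, one_mem _, ?_⟩
        rw [h, Pi.single_zero, add_zero, cvF_one hlk ψ u uStab]; simp [cvF]
      · exact hPU (Units.mk0 _ h))
    (fun w hw => by
      rw [hline w hw]
      refine t_line hlk ψ P.αO_gen uStab hdψ hθt ?_ (by rw [cvF_sw hlk ψ u uStab]; exact tfk) _
      rw [_root_.zpow_neg, show ((q : ℤ) + 1) = ((q + 1 : ℕ) : ℤ) by push_cast; rfl, zpow_natCast]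
      refine Commute.inv_left (mul_inv_eq_iff_eq_mul.1 ?_)
      rw [pow_line hlk ψ uStab hdψ hdu, div_pow, P.γO_norm, div_self (pow_ne_zero _ P.αO.ne_zero), one_mul])
    hdψ hdu htsq htd hθt' hR1 (tt_two hm hlk ψ htt), rfl, rfl, rfl, rfl⟩

end Systems

end Cfsg.Agent.SUNPresent
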