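/-
SL_m on four generators.

* `exists_pres_sl`: at most 10, 14, 16 relations for `m = 2, 3, 4` and at most 23 beyond.
-/
import Cfsg.Agent.Lib.SLPresent.Counts
import Cfsg.Agent.Lib.SLPresent.AssembleThree
import Cfsg.Agent.Lib.PSL2.Presentation
import Cfsg.Agent.Lib.PSL2.PresTools

set_option autoImplicit false
set_option linter.unusedSectionVars false

namespace Cfsg.Agent.SUNPresent

open Cfsg.Agent.PSL2.PresTools (IsPres)

variable {F : Type*} [Field F] [Finite F]

theorem exists_pres_sl2 : ∃ y : Fin 3 → Matrix.SpecialLinearGroup (Fin 2) F, IsPres y 9 := by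
  obtain ⟨p, hp⟩ := CharP.exists F
  haveI : Fact p.Prime := ⟨CharP.char_is_prime F p⟩
  haveI : Fintype F := Fintype.ofFinite F
  by_cases h2 : p = 2
  · subst h2
    obtain ⟨ω, rels, -, hc, e, -⟩ := PSL2.Pres.exists_pres_two (F := F)
    exact ⟨fun i => e (PresentedGroup.of i), rels, hc.trans (by norm_num), e, fun i => rfl⟩
  · obtain ⟨⟨ω, rels, -, hc, e, -⟩, -⟩ := PSL2.Pres.exists_pres_odd (F := F) (p := p) h2
    exact ⟨fun i => e (PresentedGroup.of i), rels, hc, e, fun i => rfl⟩

theorem exists_pres_sl_high (m : ℕ) (hm : 4 ≤ m) :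
    ∃ y : Fin 4 → Matrix.SpecialLinearGroup (Fin (m + 1)) F, IsPres y (if m = 4 then 21 else 23) := by
  classical
  obtain ⟨relsA, hA, e, he⟩ := (AltPresent.hasPresThree (m + 1) (by omega)).2
  obtain ⟨S, hlen, hSm, hS⟩ := SLPresent.exists_stab_gens (m := m) (by omega)
  obtain ⟨rels, hc, E, hE⟩ := SLPresent.exists_pres_high_ev (F := F) (by omega) relsA e S hSm hS
  let σ : Fin 4 → Fin (3 + 2) := ![1, 2, 3, 4]
  let y : Fin 4 → Matrix.SpecialLinearGroup (Fin (m + 1)) F := fun j => E (PresentedGroup.of (σ j))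
  have hy : Subgroup.closure (Set.range y) = ⊤ := by
    rw [eq_top_iff, ← Subgroup.map_top_of_surjective E.toMonoidHom E.surjective,
      ← PresentedGroup.closure_range_of, MonoidHom.map_closure, Subgroup.closure_le]
    rintro _ ⟨_, ⟨i, rfl⟩, rfl⟩
    show E (PresentedGroup.of i) ∈ Subgroup.closure (Set.range y)
    by_cases h0 : i = 0
    · subst h0
      have hperm : ∀ π, SLPresent.permSL F m π ∈ Subgroup.closure (Set.range y) := by
        intro π
        have hπ : π ∈ Subgroup.closure ({e (PresentedGroup.of 1), e (PresentedGroup.of 2)} :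
            Set ↥(alternatingGroup (Fin (m + 1)))) := he ▸ Subgroup.mem_top π
        refine (Subgroup.closure_le ((Subgroup.closure (Set.range y)).comap (SLPresent.permSL F m))).2 ?_ hπ
        rintro _ (rfl | rfl)
        · refine Subgroup.subset_closure ⟨0, ?_⟩
          exact hE 1
        · refine Subgroup.subset_closure ⟨1, ?_⟩
          exact hE 2
      rw [show (0 : Fin (3 + 2)) = Fin.castAdd 2 (0 : Fin 3) from rfl, hE]
      exact hperm _
    · have : ∃ j, σ j = i := by revert h0; revert i; decide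
      obtain ⟨j, rfl⟩ := this
      exact Subgroup.subset_closure ⟨j, rfl⟩
  obtain ⟨rels', hc', e', he'⟩ := AltPresent.exists_rels_of_gens rels E y hy (fun j => some (σ j))
    (fun j i h => by rw [← Option.some.inj h])
    (fun j j' i h h' => by
      have h2 : σ j = σ j' := (Option.some.inj h).trans (Option.some.inj h').symm
      clear h h'; revert h2; revert j j'; decide)
  refine ⟨y, rels', ?_, e', he'⟩
  rw [if_neg (show ¬ m = 3 by omega)] at hc
  rw [if_neg (show ¬ m ≤ 3 by omega)] at hlen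
  simp at hc'
  split_ifs at hlen ⊢ <;> omega

/-- SL_m on four generators. -/
theorem exists_pres_sl (m : ℕ) (hm : 2 ≤ m) : ∃ y : Fin 4 → Matrix.SpecialLinearGroup (Fin m) F,
    IsPres y (if m = 2 then 10 else if m = 3 then 14 else if m = 4 then 16 else 23) := by
  by_cases h2 : m = 2
  · subst h2
    obtain ⟨y, hy⟩ := exists_pres_sl2 (F := F)
    exact ⟨_, hy.dummy⟩
  by_cases h3 : m = 3
  · subst h3
    obtain ⟨rels, hc, ⟨e⟩⟩ := SLPresent.exists_pres_three (F := F)
    exact ⟨fun i => e (PresentedGroup.of i), rels, hc, e, fun i => rfl⟩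
  by_cases h4 : m = 4
  · subst h4
    obtain ⟨rels, hc, ⟨e⟩⟩ := SLPresent.sl_four (F := F)
    exact ⟨fun i => e (PresentedGroup.of i), rels, hc, e, fun i => rfl⟩
  obtain ⟨m', rfl⟩ : ∃ m', m = m' + 1 := ⟨m - 1, by omega⟩
  obtain ⟨y, rels, hc, h⟩ := exists_pres_sl_high (F := F) m' (by omega)
  rw [if_neg h2, if_neg h3, if_neg h4]
  exact ⟨y, rels, hc.trans (by split_ifs <;> omega), h⟩

end Cfsg.Agent.SUNPresent
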