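/-
Presentations of SU_n on six generators.

* `isPres_ext`: a presentation of SL_m, two more generators, relations forcing injectivity.
* `pres_even3`, `pres_even2`, `pres_odd3`, `pres_odd2`: the four cases.
* `exists_pres_su`: six generators, at most 39 relations, at most 29 for `n = 4, 5`.
-/
import Cfsg.Agent.Lib.SUNPresent.OddRels
import Cfsg.Agent.Lib.SUNPresent.Gen
import Cfsg.Agent.Lib.SUNPresent.SLGens

set_option autoImplicit false
set_option linter.unusedSectionVars false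
set_option linter.unusedSimpArgs false

open Matrix

namespace Cfsg.Agent.SUNPresent

open Cfsg.Agent.Unitary Cfsg.Agent.UFus Cfsg.Agent.UnitaryBN
open Cfsg.Agent.PSL2.PresTools (IsPres lift_comp lift_map exists_word)

section General

/-- A list of relations presents `T` if they hold and force the map to `T` to be injective. -/
theorem isPres_of_inj {T : Type*} [Group T] {k : ℕ} (g : Fin k → T) (l : List (FreeGroup (Fin k)))
    (hsat : ∀ r ∈ l, FreeGroup.lift g r = 1) (hgen : Subgroup.closure (Set.range g) = ⊤)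
    (hinj : ∀ (G : Type) [Group G] (x : Fin k → G) (π : G →* T), (∀ i, π (x i) = g i) →
      Subgroup.closure (Set.range x) = ⊤ → (∀ r ∈ l, FreeGroup.lift x r = 1) → Function.Injective π) :
    IsPres g l.length := by
  classical
  refine ⟨l.toFinset, l.toFinset_card_le, ?_⟩
  have hs : ∀ r ∈ (↑l.toFinset : Set (FreeGroup (Fin k))), FreeGroup.lift g r = 1 :=
    fun r hr => hsat r (List.mem_toFinset.mp hr)
  let φ := PresentedGroup.toGroup hs
  have hφ : ∀ i, φ (PresentedGroup.of i) = g i := fun i => PresentedGroup.toGroup.of hs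
  have hl : FreeGroup.lift (PresentedGroup.of (rels := (↑l.toFinset : Set (FreeGroup (Fin k))))) =
      PresentedGroup.mk _ := FreeGroup.ext_hom _ _ fun i => by rw [FreeGroup.lift_apply_of]; rfl
  have hi : Function.Injective φ := hinj _ PresentedGroup.of φ hφ (PresentedGroup.closure_range_of _)
    fun r hr => by rw [hl]; exact PresentedGroup.one_of_mem (List.mem_toFinset.mpr hr)
  have hsu : Function.Surjective φ := by
    rw [← MonoidHom.range_eq_top, eq_top_iff, ← hgen, Subgroup.closure_le]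
    rintro _ ⟨i, rfl⟩
    exact ⟨PresentedGroup.of i, hφ i⟩
  exact ⟨MulEquiv.ofBijective φ ⟨hi, hsu⟩, hφ⟩

variable {T S : Type*} [Group T] [Group S] {s cS : ℕ}

/-- Words in the first generators. -/
noncomputable def WS {y : Fin s → S} (hy : IsPres y cS) (a : S) : FreeGroup (Fin (s + 2)) :=
  FreeGroup.map (Fin.castAdd 2) (exists_word hy.closure_range a).choose

theorem lift_WS {y : Fin s → S} (hy : IsPres y cS) {G : Type*} [Group G] (x : Fin (s + 2) → G) (ψ : S →* G)
    (hx : ∀ i, x (Fin.castAdd 2 i) = ψ (y i)) (a : S) : FreeGroup.lift x (WS hy a) = ψ a := by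
  rw [WS, lift_map, show x ∘ Fin.castAdd 2 = fun i => ψ (y i) from funext hx, lift_comp,
    (exists_word hy.closure_range a).choose_spec]

/-- A presentation of `S` with two more generators and relations forcing injectivity. -/
theorem isPres_ext (y : Fin s → S) (hy : IsPres y cS) (ψ0 : S →* T) (c0 t0 : T)
    (l : List (FreeGroup (Fin (s + 2))))
    (hgen : ∀ H : Subgroup T, (∀ a, ψ0 a ∈ H) → c0 ∈ H → t0 ∈ H → H = ⊤)
    (hsat : ∀ r ∈ l, FreeGroup.lift (Fin.append (fun i => ψ0 (y i)) ![c0, t0]) r = 1)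
    (hinj : ∀ (G : Type) [Group G] (x : Fin (s + 2) → G) (ψ : S →* G) (π : G →* T),
      (∀ i, x (Fin.castAdd 2 i) = ψ (y i)) → (∀ a, π (ψ a) = ψ0 a) → π (x (Fin.natAdd s 0)) = c0 →
      π (x (Fin.natAdd s 1)) = t0 →
      (∀ H : Subgroup G, (∀ a, ψ a ∈ H) → x (Fin.natAdd s 0) ∈ H → x (Fin.natAdd s 1) ∈ H → H = ⊤) →
      (∀ r ∈ l, FreeGroup.lift x r = 1) → Function.Injective π) :
    IsPres (Fin.append (fun i => ψ0 (y i)) ![c0, t0]) (cS + l.length) := by
  obtain ⟨lS, hlS, hsatS, hhom⟩ := hy.exists_list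
  have hgy := hy.closure_range
  set g := Fin.append (fun i => ψ0 (y i)) ![c0, t0] with hg
  have hp := isPres_of_inj g (lS.map (FreeGroup.map (Fin.castAdd 2)) ++ l)
    (fun r hr => by
      rcases List.mem_append.1 hr with hr | hr
      · obtain ⟨r', hr', rfl⟩ := List.mem_map.1 hr
        rw [lift_map, show g ∘ Fin.castAdd 2 = fun i => ψ0 (y i) from funext fun i => by simp [hg], lift_comp,
          hsatS r' hr', map_one]
      · exact hsat r hr)
    (hgen _ (fun a => by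
        have ha : a ∈ Subgroup.closure (Set.range y) := hgy ▸ Subgroup.mem_top a
        refine (Subgroup.closure_le ((Subgroup.closure (Set.range g)).comap ψ0)).2 ?_ ha
        rintro _ ⟨i, rfl⟩
        exact Subgroup.subset_closure ⟨Fin.castAdd 2 i, by simp [hg]⟩)
      (Subgroup.subset_closure ⟨Fin.natAdd s 0, by simp [hg]⟩)
      (Subgroup.subset_closure ⟨Fin.natAdd s 1, by simp [hg]⟩))
    fun G _ x π hπ hx hrel => by
      obtain ⟨ψ, hψ⟩ := hhom G (x ∘ Fin.castAdd 2) fun r hr => by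
        rw [← lift_map]
        exact hrel _ (List.mem_append_left _ (List.mem_map_of_mem hr))
      have hψ' : π.comp ψ = ψ0 := MonoidHom.eq_of_eqOn_dense hgy (by
        rintro _ ⟨i, rfl⟩
        show π (ψ (y i)) = ψ0 (y i)
        rw [hψ, Function.comp_apply, hπ]; simp [hg])
      refine hinj G x ψ π (fun i => (hψ i).symm) (DFunLike.congr_fun hψ') (by rw [hπ]; simp [hg])
        (by rw [hπ]; simp [hg]) (fun H h1 h2 h3 => ?_) fun r hr => hrel r (List.mem_append_right _ hr)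
      rw [eq_top_iff, ← hx, Subgroup.closure_le]
      rintro _ ⟨i, rfl⟩
      refine Fin.addCases (fun i => ?_) (fun i => ?_) i
      · rw [← Function.comp_apply (f := x) (g := Fin.castAdd 2), ← hψ]; exact h1 _
      · fin_cases i
        · exact h2
        · exact h3
  obtain ⟨rels, hc, he⟩ := hp
  exact ⟨rels, hc.trans (by simp; omega), he⟩

end General

section Mem

variable {F : Type*} [Field F] [Fintype F] {q n m : ℕ} {hF : Fintype.card F = q ^ 2} {Φ : Frame n F q m}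
  {l k : Fin m} {G : Type*} [Group G] (H : Subgroup G)

theorem dE_mem {h t : G} (hh : h ∈ H) (ht : t ∈ H) : dE h t ∈ H :=
  mul_mem (mul_mem (mul_mem (inv_mem hh) ht) hh) (inv_mem ht)

theorem cW_mem (P : OPar hF Φ) (hlk : l ≠ k) (ψ : Matrix.SpecialLinearGroup (Fin m) F → G) {u : G}
    (hψ : ∀ a, ψ a ∈ H) (hu : u ∈ H) : cW P hlk ψ u ∈ H := by
  have h := mul_mem (mul_mem (hψ (hd hlk P.θ)) hu) (inv_mem (hψ (hd hlk P.θ)))
  rw [cW, commutatorElement_def]
  exact mul_mem (mul_mem (hψ _) (mul_mem (mul_mem (mul_mem hu h) (inv_mem hu)) (inv_mem h))) (inv_mem (hψ _))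

theorem dW_mem (P : OPar hF Φ) (hlk : l ≠ k) (ψ : Matrix.SpecialLinearGroup (Fin m) F → G) {u t : G}
    (hψ : ∀ a, ψ a ∈ H) (hu : u ∈ H) (ht : t ∈ H) : dW P hlk ψ u t ∈ H := by
  have hy : ∀ a, yW P hlk ψ u a ∈ H := fun a =>
    mul_mem (mul_mem (mul_mem (hψ _) hu) (inv_mem (hψ _)))
      (mul_mem (mul_mem (hψ _) (cW_mem H P hlk ψ hψ hu)) (inv_mem (hψ _)))
  exact mul_mem (mul_mem (mul_mem (inv_mem (hy _)) (mul_mem (mul_mem ht hu) (inv_mem ht))) (inv_mem (hy _)))
    (inv_mem ht)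

end Mem

section Cases

variable {F : Type*} [Field F] [Fintype F] {q n m : ℕ}
variable (hF : Fintype.card F = q ^ 2) (Φ : Frame n F q m)
include hF

theorem hgen_even (hu : Φ.u = 0) {l k : Fin m} (hlk : l ≠ k) {θ : Fˣ} (hθ : ∀ x : Fˣ, x ∈ Subgroup.zpowers θ)
    (H : Subgroup (Cfsg.SU n F q)) (h1 : ∀ a, psi0 hF Φ a ∈ H) (h2 : cM hF Φ (Pi.single l 1) ∈ H)
    (h3 : t0 hF Φ l ∈ H) : H = ⊤ := by
  refine eq_top_of_mem hF Φ hlk H h1 h3 h2 (Or.inl hu) fun α hα hfix => ?_
  obtain ⟨hdt, hde⟩ := dE_model hF Φ hlk θ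
  obtain ⟨i, hi⟩ := exists_fixed_pow hF hθ (x := Units.mk0 α hα) (hfix hu)
  have hm : Units.mk0 α hα ∈ Subgroup.zpowers (αE q θ) :=
    ⟨-i, by show αE q θ ^ (-i) = _; rw [hi, αE, ← _root_.zpow_mul, neg_mul_neg]⟩
  obtain ⟨j, hj⟩ := mem_powers_iff_mem_zpowers.2 hm
  refine ⟨_, pow_mem (dE_mem H (h1 _) h3) j, pow_mem hdt j, fun x => ?_⟩
  rw [torus_pow hF Φ hde, ← Units.val_pow_eq_pow_val, show αE q θ ^ j = Units.mk0 α hα from hj, Units.val_mk0]

theorem hgen_odd {l k : Fin m} (hlk : l ≠ k) (P : OPar hF Φ)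
    (H : Subgroup (Cfsg.SU n F q)) (h1 : ∀ a, psi0 hF Φ a ∈ H) (h2 : P.O.fM (Pi.single l 1) ∈ H)
    (h3 : t0 hF Φ l ∈ H) : H = ⊤ := by
  refine eq_top_of_mem hF Φ hlk H h1 h3 (cW_model P hlk ▸ cW_mem H P hlk _ h1 h2) (Or.inr ⟨P.O, h2⟩)
    fun α hα _ => ?_
  obtain ⟨hdt, hde, -, -⟩ := dO_model P l
  obtain ⟨j, hj⟩ := mem_powers_iff_mem_zpowers.2 (P.αO_gen (Units.mk0 α hα))
  refine ⟨_, pow_mem (dW_model P hlk ▸ dW_mem H P hlk _ h1 h2 h3) j, pow_mem hdt j, fun x => ?_⟩
  rw [torus_pow hF Φ hde, ← Units.val_pow_eq_pow_val, show P.αO ^ j = Units.mk0 α hα from hj, Units.val_mk0]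

theorem pres_even3 (hm : 3 ≤ m) (hu : Φ.u = 0) {cS : ℕ} {y : Fin 4 → Matrix.SpecialLinearGroup (Fin m) F}
    (hy : IsPres y cS) : ∃ g : Fin 6 → Cfsg.SU n F q, IsPres g (cS + 14) := by
  let l : Fin m := ⟨0, by omega⟩
  let k : Fin m := ⟨1, by omega⟩
  have hlk : l ≠ k := Fin.ne_of_val_ne (by simp [l, k])
  obtain ⟨θ, hθ⟩ := IsCyclic.exists_generator (α := Fˣ)
  obtain ⟨J, hJ⟩ := exists_J hF θ hθ
  obtain ⟨a, b, ha, hb, hab⟩ := exists_fix1_pair (F := F) hm l
  refine ⟨Fin.append (fun i => psi0 hF Φ (y i)) ![cM hF Φ (Pi.single l 1), t0 hF Φ l], ?_⟩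
  have h := isPres_ext y hy (psi0 hF Φ) (cM hF Φ (Pi.single l 1)) (t0 hF Φ l)
    (evenList3 q θ J hlk a b (WS hy) (FreeGroup.of (Fin.natAdd 4 0)) (FreeGroup.of (Fin.natAdd 4 1)))
    (fun H => hgen_even hF Φ hu hlk hθ H)
    (fun r hr => by
      have h := List.mem_map_of_mem
        (f := FreeGroup.lift (Fin.append (fun i => psi0 hF Φ (y i)) ![cM hF Φ (Pi.single l 1), t0 hF Φ l])) hr
      rw [evenList3_map, funext (lift_WS hy _ (psi0 hF Φ) (fun i => by simp)), FreeGroup.lift_apply_of,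
        FreeGroup.lift_apply_of, Fin.append_right, Fin.append_right] at h
      exact evenList3_sat hF Φ hlk θ hJ hθ ha hb _ h)
    fun G _ x ψ π hx hπ hc ht hgen hrel => by
      obtain ⟨S, e1, e2, e3, e4⟩ := evenSys3 hF Φ hlk ψ (x (Fin.natAdd 4 0)) (x (Fin.natAdd 4 1)) π θ J hm hθ hab
        hπ ht hc (fun r hr => by
          have e : evenList3 q θ J hlk a b ψ (x (Fin.natAdd 4 0)) (x (Fin.natAdd 4 1)) =
              (evenList3 q θ J hlk a b (WS hy) (FreeGroup.of (Fin.natAdd 4 0))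
                (FreeGroup.of (Fin.natAdd 4 1))).map (FreeGroup.lift x) := by
            rw [evenList3_map, funext (lift_WS hy x ψ hx), FreeGroup.lift_apply_of, FreeGroup.lift_apply_of]
          rw [e] at hr
          obtain ⟨r', hr', rfl⟩ := List.mem_map.1 hr
          exact hrel r' hr')
      rw [← e4]
      refine S.inj (hgen _ (fun a => ?_) ?_ ?_)
      · exact Subgroup.subset_closure (Or.inl (Or.inl ⟨a, by rw [e1]⟩))
      · exact Subgroup.subset_closure (Or.inl (Or.inr (by rw [← e3, ← S.toSys.cv_l]; exact S.toSys.cv_mem _)))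
      · exact Subgroup.subset_closure (Or.inr e2.symm)
  rwa [evenList3_length] at h

theorem pres_even2 (hm : m = 2) (hu : Φ.u = 0) {cS : ℕ} {y : Fin 4 → Matrix.SpecialLinearGroup (Fin m) F}
    (hy : IsPres y cS) : ∃ g : Fin 6 → Cfsg.SU n F q, IsPres g (cS + 16) := by
  let l : Fin m := ⟨0, by omega⟩
  let k : Fin m := ⟨1, by omega⟩
  have hlk : l ≠ k := Fin.ne_of_val_ne (by simp [l, k])
  obtain ⟨θ, hθ⟩ := IsCyclic.exists_generator (α := Fˣ)
  obtain ⟨J, hJ⟩ := exists_J hF θ hθ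
  obtain ⟨a, b, hab⟩ : ∃ a b : Matrix.SpecialLinearGroup (Fin m) F, Subgroup.closure {a, b} = ⊤ := by
    subst hm
    obtain ⟨a, b, h, -⟩ := OrthPresent.exists_pair_sl2 (F := F)
    exact ⟨a, b, h⟩
  refine ⟨Fin.append (fun i => psi0 hF Φ (y i)) ![cM hF Φ (Pi.single l 1), t0 hF Φ l], ?_⟩
  have h := isPres_ext y hy (psi0 hF Φ) (cM hF Φ (Pi.single l 1)) (t0 hF Φ l)
    (evenList2 q θ J hlk a b (WS hy) (FreeGroup.of (Fin.natAdd 4 0)) (FreeGroup.of (Fin.natAdd 4 1)))
    (fun H => hgen_even hF Φ hu hlk hθ H)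
    (fun r hr => by
      have h := List.mem_map_of_mem
        (f := FreeGroup.lift (Fin.append (fun i => psi0 hF Φ (y i)) ![cM hF Φ (Pi.single l 1), t0 hF Φ l])) hr
      rw [evenList2_map, funext (lift_WS hy _ (psi0 hF Φ) (fun i => by simp)), FreeGroup.lift_apply_of,
        FreeGroup.lift_apply_of, Fin.append_right, Fin.append_right] at h
      exact evenList2_sat hF Φ hlk θ hJ hθ a b _ h)
    fun G _ x ψ π hx hπ hc ht hgen hrel => by
      obtain ⟨S, e1, e2, e3, e4⟩ := evenSys2 hF Φ hlk ψ (x (Fin.natAdd 4 0)) (x (Fin.natAdd 4 1)) π θ J hm hθ hab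
        hπ ht hc (fun r hr => by
          have e : evenList2 q θ J hlk a b ψ (x (Fin.natAdd 4 0)) (x (Fin.natAdd 4 1)) =
              (evenList2 q θ J hlk a b (WS hy) (FreeGroup.of (Fin.natAdd 4 0))
                (FreeGroup.of (Fin.natAdd 4 1))).map (FreeGroup.lift x) := by
            rw [evenList2_map, funext (lift_WS hy x ψ hx), FreeGroup.lift_apply_of, FreeGroup.lift_apply_of]
          rw [e] at hr
          obtain ⟨r', hr', rfl⟩ := List.mem_map.1 hr
          exact hrel r' hr')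
      rw [← e4]
      refine S.inj (hgen _ (fun a => ?_) ?_ ?_)
      · exact Subgroup.subset_closure (Or.inl (Or.inl ⟨a, by rw [e1]⟩))
      · exact Subgroup.subset_closure (Or.inl (Or.inr (by rw [← e3, ← S.toSys.cv_l]; exact S.toSys.cv_mem _)))
      · exact Subgroup.subset_closure (Or.inr e2.symm)
  rwa [evenList2_length] at h

theorem pres_odd3 (hm : 3 ≤ m) (hu : Cfsg.hermForm n F q Φ.u Φ.u = 1) {cS : ℕ}
    {y : Fin 4 → Matrix.SpecialLinearGroup (Fin m) F} (hy : IsPres y cS) :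
    ∃ g : Fin 6 → Cfsg.SU n F q, IsPres g (cS + 16) := by
  let l : Fin m := ⟨0, by omega⟩
  let k : Fin m := ⟨1, by omega⟩
  have hlk : l ≠ k := Fin.ne_of_val_ne (by simp [l, k])
  obtain ⟨P⟩ := exists_opar hF Φ hu
  obtain ⟨J, hJ⟩ := P.exists_J
  obtain ⟨a, b, ha, hb, hab⟩ := exists_fix1_pair (F := F) hm l
  refine ⟨Fin.append (fun i => psi0 hF Φ (y i)) ![P.O.fM (Pi.single l 1), t0 hF Φ l], ?_⟩
  have h := isPres_ext y hy (psi0 hF Φ) (P.O.fM (Pi.single l 1)) (t0 hF Φ l)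
    (oddList3 P hlk J a b (WS hy) (FreeGroup.of (Fin.natAdd 4 0)) (FreeGroup.of (Fin.natAdd 4 1)))
    (fun H => hgen_odd hF Φ hlk P H)
    (fun r hr => by
      have h := List.mem_map_of_mem
        (f := FreeGroup.lift (Fin.append (fun i => psi0 hF Φ (y i)) ![P.O.fM (Pi.single l 1), t0 hF Φ l])) hr
      rw [oddList3_map, funext (lift_WS hy _ (psi0 hF Φ) (fun i => by simp)), FreeGroup.lift_apply_of,
        FreeGroup.lift_apply_of, Fin.append_right, Fin.append_right] at h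
      exact oddList3_sat P hlk hJ ha hb _ h)
    fun G _ x ψ π hx hπ hc ht hgen hrel => by
      obtain ⟨S, e1, e2, e3, e4⟩ := oddSys3 P hlk ψ (u := x (Fin.natAdd 4 0)) (t := x (Fin.natAdd 4 1)) (π := π)
        (J := J) hm hab hπ ht hc (fun r hr => by
          have e : oddList3 P hlk J a b ψ (x (Fin.natAdd 4 0)) (x (Fin.natAdd 4 1)) =
              (oddList3 P hlk J a b (WS hy) (FreeGroup.of (Fin.natAdd 4 0))
                (FreeGroup.of (Fin.natAdd 4 1))).map (FreeGroup.lift x) := by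
            rw [oddList3_map, funext (lift_WS hy x ψ hx), FreeGroup.lift_apply_of, FreeGroup.lift_apply_of]
          rw [e] at hr
          obtain ⟨r', hr', rfl⟩ := List.mem_map.1 hr
          exact hrel r' hr')
      rw [← e4]
      refine S.inj (hgen _ (fun a => ?_) ?_ ?_)
      · exact Subgroup.subset_closure (Or.inl (Or.inl ⟨a, by rw [e1]⟩))
      · exact Subgroup.subset_closure (Or.inl (Or.inr (by rw [← e3, ← S.fv_l]; exact S.fv_mem_Q _)))
      · exact Subgroup.subset_closure (Or.inr e2.symm)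
  rwa [oddList3_length] at h

theorem pres_odd2 (hm : m = 2) (hu : Cfsg.hermForm n F q Φ.u Φ.u = 1) {cS : ℕ}
    {y : Fin 4 → Matrix.SpecialLinearGroup (Fin m) F} (hy : IsPres y cS) :
    ∃ g : Fin 6 → Cfsg.SU n F q, IsPres g (cS + 19) := by
  let l : Fin m := ⟨0, by omega⟩
  let k : Fin m := ⟨1, by omega⟩
  have hlk : l ≠ k := Fin.ne_of_val_ne (by simp [l, k])
  obtain ⟨P⟩ := exists_opar hF Φ hu
  obtain ⟨J, hJ⟩ := P.exists_J
  obtain ⟨a, b, hab⟩ : ∃ a b : Matrix.SpecialLinearGroup (Fin m) F, Subgroup.closure {a, b} = ⊤ := by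
    subst hm
    obtain ⟨a, b, h, -⟩ := OrthPresent.exists_pair_sl2 (F := F)
    exact ⟨a, b, h⟩
  refine ⟨Fin.append (fun i => psi0 hF Φ (y i)) ![P.O.fM (Pi.single l 1), t0 hF Φ l], ?_⟩
  have h := isPres_ext y hy (psi0 hF Φ) (P.O.fM (Pi.single l 1)) (t0 hF Φ l)
    (oddList2 P hlk J a b (WS hy) (FreeGroup.of (Fin.natAdd 4 0)) (FreeGroup.of (Fin.natAdd 4 1)))
    (fun H => hgen_odd hF Φ hlk P H)
    (fun r hr => by
      have h := List.mem_map_of_mem
        (f := FreeGroup.lift (Fin.append (fun i => psi0 hF Φ (y i)) ![P.O.fM (Pi.single l 1), t0 hF Φ l])) hr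
      rw [oddList2_map, funext (lift_WS hy _ (psi0 hF Φ) (fun i => by simp)), FreeGroup.lift_apply_of,
        FreeGroup.lift_apply_of, Fin.append_right, Fin.append_right] at h
      exact oddList2_sat P hlk hJ a b _ h)
    fun G _ x ψ π hx hπ hc ht hgen hrel => by
      obtain ⟨S, e1, e2, e3, e4⟩ := oddSys2 P hlk ψ (u := x (Fin.natAdd 4 0)) (t := x (Fin.natAdd 4 1)) (π := π)
        (J := J) hm hab hπ ht hc (fun r hr => by
          have e : oddList2 P hlk J a b ψ (x (Fin.natAdd 4 0)) (x (Fin.natAdd 4 1)) =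
              (oddList2 P hlk J a b (WS hy) (FreeGroup.of (Fin.natAdd 4 0))
                (FreeGroup.of (Fin.natAdd 4 1))).map (FreeGroup.lift x) := by
            rw [oddList2_map, funext (lift_WS hy x ψ hx), FreeGroup.lift_apply_of, FreeGroup.lift_apply_of]
          rw [e] at hr
          obtain ⟨r', hr', rfl⟩ := List.mem_map.1 hr
          exact hrel r' hr')
      rw [← e4]
      refine S.inj (hgen _ (fun a => ?_) ?_ ?_)
      · exact Subgroup.subset_closure (Or.inl (Or.inl ⟨a, by rw [e1]⟩))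
      · exact Subgroup.subset_closure (Or.inl (Or.inr (by rw [← e3, ← S.fv_l]; exact S.fv_mem_Q _)))
      · exact Subgroup.subset_closure (Or.inr e2.symm)
  rwa [oddList2_length] at h

/-- SU_n on six generators. -/
theorem exists_pres_su (n : ℕ) (hn : 4 ≤ n) :
    ∃ g : Fin 6 → Cfsg.SU n F q, IsPres g (if n ≤ 5 then 29 else 39) := by
  obtain ⟨Φ⟩ := exists_frame hF n
  obtain ⟨y, hy⟩ := exists_pres_sl (F := F) (n / 2) (by omega)
  have hle : ∀ {c : ℕ}, (∃ g : Fin 6 → Cfsg.SU n F q, IsPres g c) → c ≤ (if n ≤ 5 then 29 else 39) →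
      ∃ g : Fin 6 → Cfsg.SU n F q, IsPres g (if n ≤ 5 then 29 else 39) := fun h hc => by
    obtain ⟨g, rels, h1, h2⟩ := h
    exact ⟨g, rels, h1.trans hc, h2⟩
  by_cases h5 : n ≤ 5
  · have hm : n / 2 = 2 := by omega
    rcases Φ.hu with h0 | h1
    · exact hle (pres_even2 hF Φ hm h0 hy) (by rw [if_pos hm, if_pos h5]; norm_num)
    · exact hle (pres_odd2 hF Φ hm h1 hy) (by rw [if_pos hm, if_pos h5])
  · have hm : 3 ≤ n / 2 := by omega
    rcases Φ.hu with h0 | h1
    · exact hle (pres_even3 hF Φ hm h0 hy) (by rw [if_neg h5]; split_ifs <;> omega)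
    · exact hle (pres_odd3 hF Φ hm h1 hy) (by rw [if_neg h5]; split_ifs <;> omega)

end Cases

end Cfsg.Agent.SUNPresent
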